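import Cfsg.Agent.H924.Reduc

/-!
Aschbacher library (H924), symplectic case: the standard form, quadratic forms in characteristic two.
-/

set_option autoImplicit false
set_option linter.style.haveILetI false
open Cfsg Cfsg.Geo Matrix

namespace Cfsg.Agent.H924

open Cfsg.Agent.H919 (HermForm)

section general

variable {ι : Type} [Fintype ι] [DecidableEq ι] {F : Type*} [Field F]
variable {f : (ι → F) → (ι → F) → F}

/-- A symplectic form is a hermitian form in the sense of `HermForm`. -/
lemma hermForm_of_symplectic (hf : IsSymplecticForm f) : HermForm (RingEquiv.refl F) (-1) f where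
  add_left := hf.bilinear.add_left
  smul_left := hf.bilinear.smul_left
  sigma_sq _ := rfl
  eps := by simp
  herm v w := by rw [hf.skew v w]; simp
  nondegenerate := hf.nondegenerate

/-- A non-degenerate alternating form in the sense of `HermForm`. -/
lemma symplectic_of_hermForm {ε : F} (hf : HermForm (RingEquiv.refl F) ε f) (halt : ∀ v, f v v = 0) :
    IsSymplecticForm f where
  bilinear := ⟨hf.add_left, hf.smul_left, hf.add_right, fun c v x => by
    rw [hf.smul_right]; rfl⟩
  skew v w := by
    have h := halt (v + w)
    rw [hf.add_left, hf.add_right, hf.add_right, halt, halt, zero_add, add_zero] at h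
    exact eq_neg_of_add_eq_zero_left h
  alternating := halt
  nondegenerate := hf.nondegenerate

/-- If `Q` is a homogeneous quadratic function whose polar form is the non-degenerate bilinear form `f`, then `Q` is
a non-degenerate quadratic form. -/
lemma isNondegenerateQuadraticForm_of_polar {Q : (ι → F) → F} (hb : IsBilinearForm f)
    (hnd : IsNondegenerateForm f) (hsmul : ∀ (c : F) (v : ι → F), Q (c • v) = c ^ 2 * Q v)
    (hpol : ∀ u v, QuadraticMap.polar Q u v = f u v) : IsNondegenerateQuadraticForm Q := by
  have h : (fun u v => QuadraticMap.polar Q u v) = f := by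
    funext u v; exact hpol u v
  have h' : QuadraticMap.polar Q = f := h
  refine ⟨hsmul, ?_, ?_⟩
  · rw [h']; exact hb
  · rw [h']; exact hnd

end general

section standard

variable {m : ℕ} {F : Type*} [Field F]

lemma sympForm_explicit (u v : Fin m ⊕ Fin m → F) :
    sympForm m F u v = ∑ i, (u (.inr i) * v (.inl i) - u (.inl i) * v (.inr i)) := by
  simp only [sympForm, dotProduct, Matrix.J, Matrix.mulVec, Fintype.sum_sum_type, Matrix.fromBlocks_apply₁₁,
    Matrix.fromBlocks_apply₁₂, Matrix.fromBlocks_apply₂₁, Matrix.fromBlocks_apply₂₂, Matrix.zero_apply,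
    Matrix.neg_apply, Matrix.one_apply, zero_mul, Finset.sum_const_zero, zero_add, add_zero]
  rw [← Finset.sum_add_distrib]
  apply Finset.sum_congr rfl
  intro i _
  simp [Finset.sum_ite_eq]
  ring

lemma isSymplecticForm_sympForm : IsSymplecticForm (sympForm m F) where
  bilinear := by
    refine ⟨?_, ?_, ?_, ?_⟩
    · intro x y v
      simp only [sympForm, add_dotProduct]
    · intro c x v
      simp only [sympForm, smul_dotProduct, smul_eq_mul]
    · intro v x y
      simp only [sympForm, Matrix.mulVec_add, dotProduct_add]
    · intro c v x
      simp only [sympForm, Matrix.mulVec_smul, dotProduct_smul, smul_eq_mul]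
  skew v w := by
    rw [sympForm_explicit, sympForm_explicit, ← Finset.sum_neg_distrib]
    apply Finset.sum_congr rfl
    intro i _
    ring
  alternating v := by
    rw [sympForm_explicit]
    apply Finset.sum_eq_zero
    intro i _
    ring
  nondegenerate := by
    have key : ∀ v : Fin m ⊕ Fin m → F, v ≠ 0 → ∃ x, sympForm m F x v ≠ 0 := by
      intro v hv
      obtain ⟨k, hk⟩ := Function.ne_iff.mp hv
      rcases k with i | i
      · refine ⟨Pi.single (.inr i) 1, ?_⟩
        rw [sympForm_explicit, Finset.sum_eq_single i]
        · simpa using hk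
        · intro j _ hj
          simp [hj]
        · intro h; exact absurd (Finset.mem_univ _) h
      · refine ⟨Pi.single (.inl i) 1, ?_⟩
        rw [sympForm_explicit, Finset.sum_eq_single i]
        · simpa using hk
        · intro j _ hj
          simp [hj]
        · intro h; exact absurd (Finset.mem_univ _) h
    intro v hv
    refine ⟨key v hv, ?_⟩
    obtain ⟨x, hx⟩ := key v hv
    refine ⟨x, fun h => hx ?_⟩
    have h2 : sympForm m F x v = - sympForm m F v x := by
      rw [sympForm_explicit, sympForm_explicit, ← Finset.sum_neg_distrib]
      apply Finset.sum_congr rfl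
      intro i _
      ring
    rw [h2, h, neg_zero]

lemma hermForm_sympForm : HermForm (RingEquiv.refl F) (-1) (sympForm m F) :=
  hermForm_of_symplectic isSymplecticForm_sympForm

lemma mem_spGL {g : GL (Fin m ⊕ Fin m) F} :
    g ∈ spGL m F ↔ ∀ u v, sympForm m F ((g : Matrix _ _ F) *ᵥ u) ((g : Matrix _ _ F) *ᵥ v) = sympForm m F u v :=
  Iff.rfl

end standard

end Cfsg.Agent.H924
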