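import Cfsg.Agent.H924.D5K
import Cfsg.Agent.H925.NatRank

/-!
# The classical groups of rank three and four in their own characteristic, degree at most 12 (helper924)

`P ≤ GL(ι, F)` a core, `|ι| ≤ 12`, `char F = char K = p`.

* `psp6` : `Soc P ≃ PSp_6(K)` : `P` is conjugate to `Sp_6(F)`, or `EightGood p P`;
* `po7` : `Soc P ≃ PΩ_7(K)` : `P` is conjugate to `Ω_7(F)`, or `EightGood p P`;
* `po8minus` : `Soc P ≃ PΩ⁻_8(K)` : `P` is conjugate to `Ω⁻_8(F)`, or `EightGood p P`;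
* `po8plus` : `Soc P ≃ PΩ⁺_8(K)` : `EightGood p P`.
-/

set_option autoImplicit false
set_option linter.unusedSectionVars false
set_option linter.style.haveILetI false
set_option linter.style.longLine false

universe u

namespace Cfsg.Agent.H924.D5

open CoxeterSystem Cfsg.Agent.ChevalleyStructure.CoxeterGeom Cfsg.Agent.Tits.Roots Cfsg.Agent.Tits.Core
  Cfsg.Agent.Tits.Exchange Cfsg.Agent.Nodes.Reps Cfsg.Agent.Nodes.BNOf Cfsg.Agent.Nodes.StabComb
  Cfsg.Agent.Nodes.Bruhat Cfsg.Agent.Nodes.OppDec Cfsg.Agent.Nodes.LeviDec Cfsg.Agent.KFacts.RgdOpp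
  Cfsg.Agent.Omega.CR Cfsg.Agent.Omega.FOne.Lift.Sd Cfsg.Agent.H905.Md Cfsg.Agent.H905
  Cfsg.Agent.Omega.ML.Ex.Typ Cfsg.Agent.H911 Cfsg.Agent.H925.Nat Cfsg.Agent.Nodes.RGDLib
open Cfsg Cfsg.Geo Matrix
open scoped MatrixGroups

section cover

variable {F : Type u} [Field F] [Finite F] {ι : Type} [Fintype ι] [DecidableEq ι] {P : Subgroup (GL ι F)}
  {p : ℕ} [hp : Fact p.Prime] [CharP F p] {Y : Type*} [Group Y] [Finite Y] {g₀ : Y →* P}

theorem linP_apply (g : Y) (v : ι → F) : lin ((matP P).comp g₀) g v = ((g₀ g : GL ι F) : Matrix ι ι F) *ᵥ v := by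
  rw [lin_apply, MonoidHom.comp_apply, matP_apply]

/-- `EightGood` from a cover -/
theorem eight_of_cover (hg₀ : Function.Surjective g₀) {l : ℕ} {M : CoxeterMatrix (Fin l)} {A : Fin l → Fin l → ℤ}
    {h : IsCartan M A} {T : Subgroup Y} {n : Fin l → Y} {X : (Fin l → ℤ) → Subgroup Y} [Finite M.Group] [Nonempty ι]
    {R : RGD M.toCoxeterSystem h p T n X}
    (hG : GG M.toCoxeterSystem h T X = ⊤)
    (hirr : ∀ L : Submodule F (ι → F), Ivt (lin ((matP P).comp g₀)) (GG M.toCoxeterSystem h T X) L → L = ⊥ ∨ L = ⊤)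
    {i : Fin l} (fr : Fr8 R (lin ((matP P).comp g₀)) i) (h8 : Fintype.card ι = 8)
    (S : List (List (Fin l))) (hS : (S.map (lbw A i)).Nodup) (hS4 : S.length = 4)
    (hS2 : ∀ ω ∈ S, ∀ ω' ∈ S, lbw A i ω ≠ -lbw A i ω')
    (L : List (List (Fin l))) (hL : (L.map (lbw A i)).Nodup)
    (hL' : ∀ w, ∃ ω ∈ L, lb M.toCoxeterSystem h i w = lbw A i ω) : EightGood p P := by
  set ρ := lin ((matP P).comp g₀) with hρ
  refine ⟨h8, ?_, ?_⟩
  · intro Q hQ hQP
    let Lf : (ι → F) → Module.Dual F (ι → F) := fun v =>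
      { toFun := fun w => QuadraticMap.polar Q v w
        map_add' := fun x y => hQ.polar_bilinear.add_right v x y
        map_smul' := fun a x => hQ.polar_bilinear.smul_right a v x }
    obtain ⟨N, hN, hN0⟩ := fr.singular hirr (Q := Q) (L := Lf) hQ.smul (fun v w => by
      change Q (v + w) = Q v + Q w + QuadraticMap.polar Q v w
      rw [QuadraticMap.polar]
      ring) (fun g v => by
      rw [hρ, linP_apply]
      exact hQP _ ⟨g₀ g, (g₀ g).2, rfl⟩ v) S hS hS2
    exact ⟨N, hS4 ▸ hN, hN0⟩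
  · rintro hp2 ⟨f, hf, hfP⟩
    subst hp2
    have h2 : (2 : F) = 0 := by exact_mod_cast CharP.cast_eq_zero F 2
    choose g hg using fun w => exists_rp M.toCoxeterSystem R.nsys w
    obtain ⟨b, hb⟩ := fr.exists_basis hirr L hL hL' hg
    obtain ⟨Q, hQ, hQb⟩ := H919.Q2.exists_qp_basis h2 hf b 0
    have hQv : ∀ w g', Rp M.toCoxeterSystem R.nsys w g' → ∀ v ∈ (D M.toCoxeterSystem h X ρ).map (ρ g'),
        Q v = 0 := by
      intro w g' hg' v hv
      obtain ⟨ω, hω, e⟩ := hL' w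
      obtain ⟨a, ha⟩ := List.mem_iff_get.1 hω
      rw [map_eq_of_lb R hirr fr.hJ hg' (hg (M.toCoxeterSystem.wordProd (L.get a)))
        (by rw [e, ha, lb_wordProd])] at hv
      obtain ⟨r, hr⟩ := fr.exists_smul (hb a) (b.ne_zero a) hv
      rw [← hr, hQ.smul, hQb, Pi.zero_apply, mul_zero]
    let Lf : (ι → F) → Module.Dual F (ι → F) := fun v =>
      { toFun := fun w => f v w
        map_add' := fun x y => hf.bilinear.add_right v x y
        map_smul' := fun a x => hf.bilinear.smul_right a v x }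
    have hLf : ∀ (g : Y) c v, Lf (ρ g c) (ρ g v) = Lf c v := by
      intro g c v
      rw [hρ, linP_apply, linP_apply]
      exact hfP _ ⟨g₀ g, (g₀ g).2, rfl⟩ c v
    -- the stabiliser of `Q`
    have hstab : ∀ x : Y, (∀ a, Q (ρ x (b a)) = 0) → ∀ v, Q (ρ x v) = Q v := by
      intro x hx v
      have h3 : (fun v => Q (((g₀ x : GL ι F) : Matrix ι ι F) *ᵥ v)) = Q := by
        apply H919.Q2.qp_ext_span (hQ.comp (fun v w => hfP _ ⟨g₀ x, (g₀ x).2, rfl⟩ v w)) hQ (S := Set.range b)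
          b.span_eq
        rintro _ ⟨a, rfl⟩
        have h4 := hx a
        rw [hρ, linP_apply] at h4
        change Q (((g₀ x : GL ι F) : Matrix ι ι F) *ᵥ (b a)) = Q (b a)
        rw [h4, hQb, Pi.zero_apply]
      rw [hρ, linP_apply]
      exact congrFun h3 v
    let K : Subgroup Y :=
      { carrier := {g | ∀ v, Q (ρ g v) = Q v}
        one_mem' := fun v => by rw [rho_one]
        mul_mem' := fun {a b} ha hb v => by rw [rho_mul, ha, hb]
        inv_mem' := fun {a} ha v => by rw [← ha (ρ a⁻¹ v), rho_rho_inv] }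
    have hK : GG M.toCoxeterSystem h T X ≤ K := by
      unfold GG
      refine sup_le ?_ (RGD.Sup_le fun x hx => ?_)
      · intro t ht
        refine hstab t fun a => ?_
        obtain ⟨c, hc, e⟩ := hb a
        rw [← e, ← rho_mul]
        have h3 : Rp M.toCoxeterSystem R.nsys (M.toCoxeterSystem.wordProd (L.get a))
            (t * g (M.toCoxeterSystem.wordProd (L.get a))) := by
          have := (rp_of_mem (cs := M.toCoxeterSystem) (hN := R.nsys) ht).mul
            (hg (M.toCoxeterSystem.wordProd (L.get a)))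
          rwa [one_mul] at this
        exact hQv _ _ h3 _ ⟨c, hc, rfl⟩
      · intro y hy
        refine hstab y fun a => ?_
        obtain ⟨w', g', hg', hne, hm⟩ := fr.mv _ _ (hg _) x hx y hy _ (hb a)
        obtain ⟨v1, hv1, v2, hv2, e⟩ := Submodule.mem_sup.1 hm
        rw [← e, hQ.add, hQv _ _ (hg _) v1 hv1, hQv _ _ hg' v2 hv2]
        have h4 : Lf v1 v2 = 0 := fr.form_zero hirr hLf (hg _) hg' hne hv1 hv2
        change 0 + 0 + Lf v1 v2 = 0
        rw [h4]
        ring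
    refine H919.Q2.fixQ_of hf hQ ?_
    intro x hx v
    obtain ⟨y, hy⟩ := hg₀ ⟨x, hx⟩
    have h5 : y ∈ K := hK (by rw [hG]; trivial)
    have h6 := h5 v
    rw [hρ, linP_apply, hy] at h6
    exact h6

/-- some node is not in `J` -/
theorem exists_notMem_J (hC : H915.LD.Core P) (hg₀ : Function.Surjective g₀) {I W : Type} [Fintype I] [DecidableEq I]
    [Group W] [Finite W] {M : CoxeterMatrix I} {cs : CoxeterSystem M W} {A : I → I → ℤ} {h : IsCartan M A}
    {T : Subgroup Y} {n : I → Y} {X : (I → ℤ) → Subgroup Y} (R : RGD cs h p T n X) (hG : G1 cs h X = ⊤) [Nonempty ι] :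
    ∃ i, i ∉ Jx cs h X (lin ((matP P).comp g₀)) := by
  have hGG : GG cs h T X = ⊤ := by
    rw [eq_top_iff, ← hG]
    exact le_sup_right
  have hirr := cov_irr (T := T) hC hg₀ hG
  by_contra hcon
  push Not at hcon
  have h2 := D_eq_top R hirr hcon
  obtain ⟨y, v, hyv⟩ := cov_nt hC hg₀
  apply hyv
  let K : Subgroup Y :=
    { carrier := {g | ∀ v, lin ((matP P).comp g₀) g v = v}
      one_mem' := fun v => by rw [rho_one]
      mul_mem' := fun {a b} ha hb v => by rw [rho_mul, hb, ha]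
      inv_mem' := fun {a} ha v => by
        have h3 := rho_inv_rho (lin ((matP P).comp g₀)) a v
        rwa [ha v] at h3 }
  have hK : G1 cs h X ≤ K := by
    refine RGD.Sup_le fun x hx g hg v => ?_
    obtain ⟨w, i, e⟩ := hx
    obtain ⟨a, ha⟩ := exists_rp cs R.nsys w
    have h3 : a⁻¹ * g * a ∈ X (sr i) := by
      have h4 := R.conj_mem' ha ⟨w, i, e⟩ hg
      rwa [e, rep_inv_apply] at h4
    have hv' : lin ((matP P).comp g₀) a⁻¹ v ∈ D cs h X (lin ((matP P).comp g₀)) := by rw [h2]; trivial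
    have h4 := X_fix R (lin ((matP P).comp g₀)) hv' i h3
    rw [← rho_mul] at h4
    have h5 : a⁻¹ * g * a * a⁻¹ = a⁻¹ * g := by group
    rw [h5, rho_mul] at h4
    have h6 := congrArg (lin ((matP P).comp g₀) a) h4
    rwa [rho_rho_inv, rho_rho_inv] at h6
  exact hK (by rw [hG]; trivial) v

/-- **covers with a root group datum of type `B3`** -/
theorem cover_B3 (hC : H915.LD.Core P) (hι : Fintype.card ι ≤ 12) (hg₀ : Function.Surjective g₀)
    {A : Fin 3 → Fin 3 → ℤ} {h : IsCartan (CoxeterMatrix.B 3) A} {T : Subgroup Y} {n : Fin 3 → Y}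
    {X : (Fin 3 → ℤ) → Subgroup Y} [Finite (CoxeterMatrix.B 3).Group]
    (R : RGD (CoxeterMatrix.B 3).toCoxeterSystem h p T n X)
    (hG : G1 (CoxeterMatrix.B 3).toCoxeterSystem h X = ⊤) :
    (∀ i, i ∈ Jx (CoxeterMatrix.B 3).toCoxeterSystem h X (lin ((matP P).comp g₀)) ↔ i ≠ 0) ∨ EightGood p P := by
  have hne := hC.nonempty
  have hGG : GG (CoxeterMatrix.B 3).toCoxeterSystem h T X = ⊤ := by
    rw [eq_top_iff, ← hG]
    exact le_sup_right
  have hirr := cov_irr (T := T) hC hg₀ hG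
  obtain ⟨i, hi⟩ := exists_notMem_J hC hg₀ R hG
  have hV : Module.finrank F (ι → F) ≤ 12 := by rw [Module.finrank_fintype_fun_eq_card]; exact hι
  rcases B.cases R hirr hV hi with hJ | ⟨hJ, h8⟩
  · left
    intro j
    have := hJ j
    tauto
  · right
    have fr := fr8_B R hirr hJ hV
    refine eight_of_cover hg₀ hGG hirr fr ?_ _ (bsing h).1 rfl (bsing h).2 B.l2 (B.nl2 h)
      (orbit_of_closed (cs := (CoxeterMatrix.B 3).toCoxeterSystem) (h := h) 2 B.l2 ⟨[], by decide, rfl⟩ (B.cl2 h))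
    rw [← h8, Module.finrank_fintype_fun_eq_card]

/-- **covers with a root group datum of type `D4`** -/
theorem cover_D4 (hC : H915.LD.Core P) (hι : Fintype.card ι ≤ 12) (hg₀ : Function.Surjective g₀)
    {A : Fin 4 → Fin 4 → ℤ} {h : IsCartan (Nodes.TypeD.M 2) A} {T : Subgroup Y} {n : Fin 4 → Y}
    {X : (Fin 4 → ℤ) → Subgroup Y} [Finite (Nodes.TypeD.M 2).Group]
    (R : RGD (Nodes.TypeD.M 2).toCoxeterSystem h p T n X)
    (hG : G1 (Nodes.TypeD.M 2).toCoxeterSystem h X = ⊤) :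
    EightGood p P ∧ ∃ i, i ≠ 1 ∧
      ∀ j, j ∈ Jx (Nodes.TypeD.M 2).toCoxeterSystem h X (lin ((matP P).comp g₀)) ↔ j ≠ i := by
  have hne := hC.nonempty
  have hGG : GG (Nodes.TypeD.M 2).toCoxeterSystem h T X = ⊤ := by
    rw [eq_top_iff, ← hG]
    exact le_sup_right
  have hirr := cov_irr (T := T) hC hg₀ hG
  obtain ⟨i, hi⟩ := exists_notMem_J hC hg₀ R hG
  have hV : Module.finrank F (ι → F) ≤ 12 := by rw [Module.finrank_fintype_fun_eq_card]; exact hι
  obtain rfl := D4.cartan_D4 h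
  obtain ⟨hi1, hJ, h8⟩ := D4.cases R hirr hV hi
  refine ⟨?_, i, hi1, fun j => ?_⟩
  · have fr := fr8_D R hirr hi1 hJ hV
    obtain ⟨s1, s2, s3⟩ := dsing i hi1
    refine eight_of_cover hg₀ hGG hirr fr ?_ (sL i) s1 s2 s3 (D4.lL i) (D4.nl i)
      (orbit_of_closed (cs := (Nodes.TypeD.M 2).toCoxeterSystem) (h := h) i (D4.lL i) (by
        have : ∀ i : Fin 4, ∃ ω ∈ D4.lL i, (Pi.single i 1 : Fin 4 → ℤ) = lbw DC.cD4 i ω := by decide +kernel
        exact this i) (D4.cl i))
    rw [← h8, Module.finrank_fintype_fun_eq_card]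
  · have := hJ j
    tauto

end cover

section groups

variable {F : Type u} [Field F] [Finite F] {ι : Type} [Fintype ι] [DecidableEq ι] {P : Subgroup (GL ι F)}
  {p : ℕ} [hp : Fact p.Prime] [CharP F p] {K : Type} [Field K] [Finite K] [CharP K p]

/-- **`PSp_6`** -/
theorem psp6 (hC : H915.LD.Core P) (hι : Fintype.card ι ≤ 12) (e : H915.LD.Soc P ≃* PSp 3 K) :
    (Nonempty (K ≃+* F) ∧ CjOf (spGL 3 F) P) ∨ EightGood p P := by
  obtain ⟨Y, hY1, hY2, C, -⟩ := exists_cvSp (p := p) hC le_rfl e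
  have hWf : Finite (CoxeterMatrix.B 3).Group := Nodes.TypeC.finite_W (CoxeterMatrix.B 3).toCoxeterSystem
  rcases cover_B3 hC hι C.surj_g C.rgd C.gen with h | h
  · exact Or.inl (psp_three hC hι C h)
  · exact Or.inr h

/-- **`PΩ_7`** -/
theorem po7 (hC : H915.LD.Core P) (hι : Fintype.card ι ≤ 12) (h2 : (2 : K) ≠ 0)
    (e : H915.LD.Soc P ≃* POmega K (quadFormOdd 3 K)) :
    (Nonempty (K ≃+* F) ∧ CjOf (omegaGL (quadFormOdd 3 F)) P) ∨ EightGood p P := by
  rw [← LieClassical.OrthForms.coe_oddForm] at e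
  obtain ⟨Y, hY1, hY2, C, -⟩ := exists_cvOdd (p := p) hC (m := 3) le_rfl h2 e
  have hWf : Finite (CoxeterMatrix.B 3).Group := Nodes.TypeC.finite_W (CoxeterMatrix.B 3).toCoxeterSystem
  rcases cover_B3 hC hι C.surj_g C.rgd C.gen with h | h
  · exact Or.inl (po_odd_three hC hι h2 C h)
  · exact Or.inr h

/-- **`PΩ⁻_8`** -/
theorem po8minus (hC : H915.LD.Core P) (hι : Fintype.card ι ≤ 12) {a b : K}
    (hab : ∀ z₁ z₂ : K, z₁ ^ 2 + a * z₁ * z₂ + b * z₂ ^ 2 = 0 → z₁ = 0 ∧ z₂ = 0)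
    (e : H915.LD.Soc P ≃* POmega K (quadFormMinus 3 K a b)) :
    (∃ τ : K ≃+* F, CjOf (omegaGL (quadFormMinus 3 F (τ a) (τ b))) P) ∨ EightGood p P := by
  rw [← LieClassical.OrthForms.coe_minusForm] at e
  obtain ⟨Y, hY1, hY2, C, -⟩ := exists_cvMinus (p := p) hC (m := 3) le_rfl hab e
  have hWf : Finite (CoxeterMatrix.B 3).Group := Nodes.TypeC.finite_W (CoxeterMatrix.B 3).toCoxeterSystem
  rcases cover_B3 hC hι C.surj_g C.rgd C.gen with h | h
  · exact Or.inl (po_minus_three hC hι hab C h)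
  · exact Or.inr h

/-- **`PΩ⁺_8`** -/
theorem po8plus (hC : H915.LD.Core P) (hι : Fintype.card ι ≤ 12) (e : H915.LD.Soc P ≃* POmega K (quadFormPlus 4 K)) :
    EightGood p P := by
  obtain ⟨Y, hY1, hY2, C, -⟩ := exists_cvPlus (p := p) hC (n := 2) (by omega) e
  have hWf : Finite (Nodes.TypeD.M 2).Group := Nodes.TypeD.finite_W (Nodes.TypeD.M 2).toCoxeterSystem
  exact (cover_D4 hC hι C.surj_g C.rgd C.gen).1

/-! ### consequences -/

omit [Finite F] [CharP F p] hp in
/-- a totally singular subspace of dimension four -/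
theorem EightGood.plus (h : EightGood p P) {Q : (ι → F) → F} (hQ : IsNondegenerateQuadraticForm Q)
    (hfix : FixesQuadForm (matrixSet P) Q) : IsPlusTypeOn Q (⊤ : Submodule F (ι → F)) := by
  obtain ⟨N, hN, hN0⟩ := h.2.1 Q hQ hfix
  let b := Module.finBasis F N
  let v : Fin 4 → (ι → F) := fun i => (b (Fin.castLE hN i) : ι → F)
  have hv : LinearIndependent F v := by
    have h1 : LinearIndependent F (fun i => ((b i : N) : ι → F)) :=
      b.linearIndependent.map' N.subtype (Submodule.ker_subtype N)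
    exact h1.comp _ (Fin.castLE_injective hN)
  have hle : Submodule.span F (Set.range v) ≤ N := by
    rw [Submodule.span_le]
    rintro _ ⟨i, rfl⟩
    exact (b (Fin.castLE hN i)).2
  refine ⟨Submodule.span F (Set.range v), le_top, fun w hw => hN0 w (hle hw), ?_⟩
  rw [finrank_span_eq_card hv, finrank_top, Module.finrank_fintype_fun_eq_card, h.1, Fintype.card_fin]

omit [Finite F] [CharP F p] hp in
theorem EightGood.fixQ (h : EightGood p P) (h2 : p = 2) (hA : H915.LD.FixA P) : H915.LD.FixQ P := h.2.2 h2 hA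

end groups

section cards

variable {F : Type u} [Field F] [Finite F] {ι : Type} [Fintype ι] [DecidableEq ι] {P : Subgroup (GL ι F)}
  {K : Type} [Field K] [Finite K]

/-- in degree at least nine none of the groups occurs -/
theorem psp6_big (p : ℕ) [Fact p.Prime] [CharP F p] [CharP K p] (hC : H915.LD.Core P) (hι : Fintype.card ι ≤ 12) (h9 : 9 ≤ Fintype.card ι)
    (e : H915.LD.Soc P ≃* PSp 3 K) : False := by
  rcases psp6 (p := p) hC hι e with ⟨-, h⟩ | h
  · have := h.card_eq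
    rw [Fintype.card_sum, Fintype.card_fin] at this
    omega
  · have := h.1
    omega

theorem po7_big (p : ℕ) [Fact p.Prime] [CharP F p] [CharP K p] (hC : H915.LD.Core P) (hι : Fintype.card ι ≤ 12) (h9 : 9 ≤ Fintype.card ι) (h2 : (2 : K) ≠ 0)
    (e : H915.LD.Soc P ≃* POmega K (quadFormOdd 3 K)) : False := by
  rcases po7 (p := p) hC hι h2 e with ⟨-, h⟩ | h
  · have := h.card_eq
    rw [Fintype.card_sum, Fintype.card_sum, Fintype.card_fin, Fintype.card_unit] at this
    omega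
  · have := h.1
    omega

theorem po8minus_card (p : ℕ) [Fact p.Prime] [CharP F p] [CharP K p] (hC : H915.LD.Core P) (hι : Fintype.card ι ≤ 12) {a b : K}
    (hab : ∀ z₁ z₂ : K, z₁ ^ 2 + a * z₁ * z₂ + b * z₂ ^ 2 = 0 → z₁ = 0 ∧ z₂ = 0)
    (e : H915.LD.Soc P ≃* POmega K (quadFormMinus 3 K a b)) : Fintype.card ι = 8 := by
  rcases po8minus (p := p) hC hι hab e with ⟨τ, h⟩ | h
  · have := h.card_eq
    rw [Fintype.card_sum, Fintype.card_sum, Fintype.card_fin, Fintype.card_fin] at this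
    omega
  · exact h.1

theorem po8plus_card (p : ℕ) [Fact p.Prime] [CharP F p] [CharP K p] (hC : H915.LD.Core P) (hι : Fintype.card ι ≤ 12)
    (e : H915.LD.Soc P ≃* POmega K (quadFormPlus 4 K)) : Fintype.card ι = 8 :=
  (po8plus (p := p) hC hι e).1

theorem psp6_card (p : ℕ) [Fact p.Prime] [CharP F p] [CharP K p] (hC : H915.LD.Core P) (hι : Fintype.card ι ≤ 12) (e : H915.LD.Soc P ≃* PSp 3 K) :
    Fintype.card ι = 6 ∨ Fintype.card ι = 8 := by
  rcases psp6 (p := p) hC hι e with ⟨-, h⟩ | h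
  · have := h.card_eq
    rw [Fintype.card_sum, Fintype.card_fin] at this
    omega
  · exact Or.inr h.1

theorem po7_card (p : ℕ) [Fact p.Prime] [CharP F p] [CharP K p] (hC : H915.LD.Core P) (hι : Fintype.card ι ≤ 12) (h2 : (2 : K) ≠ 0)
    (e : H915.LD.Soc P ≃* POmega K (quadFormOdd 3 K)) : Fintype.card ι = 7 ∨ Fintype.card ι = 8 := by
  rcases po7 (p := p) hC hι h2 e with ⟨-, h⟩ | h
  · have := h.card_eq
    rw [Fintype.card_sum, Fintype.card_sum, Fintype.card_fin, Fintype.card_unit] at this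
    omega
  · exact Or.inr h.1

end cards

end Cfsg.Agent.H924.D5
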