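import Cfsg.Agent.H919.AschDefs
import Cfsg.Agent.H924.SubField

/-!
Aschbacher library (H924): the adjoint anti-automorphism of a non-degenerate (σ, ε)-hermitian form.
-/

set_option autoImplicit false
set_option linter.style.haveILetI false
open Cfsg Cfsg.Geo Matrix

namespace Cfsg.Agent.H924

open Cfsg.Agent.H919 (HermForm)

variable {ι : Type} [Fintype ι] [DecidableEq ι] {F : Type*} [Field F]
variable {σ : F ≃+* F} {ε : F} {f : (ι → F) → (ι → F) → F}

/-- `M'` is the adjoint of `M` for `f`. -/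
def IsAdj (f : (ι → F) → (ι → F) → F) (M M' : Matrix ι ι F) : Prop :=
  ∀ u v, f (M *ᵥ u) v = f u (M' *ᵥ v)

lemma herm_eq_gram (hf : HermForm σ ε f) (u v : ι → F) :
    f u v = u ⬝ᵥ (gramMatrix f *ᵥ (fun i => σ (v i))) := by
  have hu : u = ∑ a, u a • (Pi.single a 1 : ι → F) := by
    ext i
    simp [Finset.sum_apply, Pi.single_apply]
  have hv : v = ∑ a, v a • (Pi.single a 1 : ι → F) := by
    ext i
    simp [Finset.sum_apply, Pi.single_apply]
  conv_lhs => rw [hu, hf.sum_left]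
  simp only [dotProduct, Matrix.mulVec, gramMatrix]
  apply Finset.sum_congr rfl
  intro a _
  rw [hf.smul_left]
  congr 1
  conv_lhs => rw [hv, hf.sum_right]
  apply Finset.sum_congr rfl
  intro b _
  rw [hf.smul_right, mul_comm]

lemma eq_zero_of_forall_left (hf : HermForm σ ε f) {v : ι → F} (h : ∀ u, f u v = 0) : v = 0 := by
  by_contra hv
  obtain ⟨x, hx⟩ := (hf.nondegenerate v hv).1
  exact hx (h x)

lemma eq_of_forall_left (hf : HermForm σ ε f) {v w : ι → F} (h : ∀ u, f u v = f u w) : v = w := by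
  rw [← sub_eq_zero]
  apply eq_zero_of_forall_left hf
  intro u
  rw [hf.sub_right, h u, sub_self]

lemma isUnit_gram (hf : HermForm σ ε f) : IsUnit (gramMatrix f) := by
  rw [Matrix.isUnit_iff_isUnit_det, isUnit_iff_ne_zero]
  intro h0
  obtain ⟨w, hw, h1⟩ := Matrix.exists_mulVec_eq_zero_iff.mpr h0
  apply hw
  have h2 : (fun i => σ (w i)) = (0 : ι → F) := by
    apply eq_zero_of_forall_left hf
    intro u
    rw [herm_eq_gram hf]
    have h3 : (fun i => σ ((fun i => σ (w i)) i)) = w := by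
      funext i
      exact hf.sigma_sq (w i)
    rw [h3, h1, dotProduct_zero]
  funext i
  have := congrFun h2 i
  simpa using this

/-- The adjoint of a matrix with respect to the form `f`. -/
noncomputable def adjM (σ : F ≃+* F) (f : (ι → F) → (ι → F) → F) (M : Matrix ι ι F) : Matrix ι ι F :=
  ((gramMatrix f)⁻¹ * Mᵀ * gramMatrix f).map σ

lemma isAdj_adjM (hf : HermForm σ ε f) (M : Matrix ι ι F) : IsAdj f M (adjM σ f M) := by
  intro u v
  rw [herm_eq_gram hf, herm_eq_gram hf]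
  have hG := isUnit_gram hf
  have h1 : (fun i => σ ((adjM σ f M *ᵥ v) i)) =
      ((gramMatrix f)⁻¹ * Mᵀ * gramMatrix f) *ᵥ (fun i => σ (v i)) := by
    funext i
    simp only [adjM, Matrix.mulVec, dotProduct, map_sum, map_mul, Matrix.map_apply, hf.sigma_sq]
  rw [h1, Matrix.mulVec_mulVec, mul_assoc, ← mul_assoc (gramMatrix f),
    Matrix.mul_nonsing_inv _ ((Matrix.isUnit_iff_isUnit_det _).mp hG), one_mul,
    ← Matrix.mulVec_mulVec, Matrix.dotProduct_mulVec u Mᵀ, Matrix.vecMul_transpose]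

lemma isAdj_unique (hf : HermForm σ ε f) {M A B : Matrix ι ι F} (hA : IsAdj f M A) (hB : IsAdj f M B) : A = B := by
  apply Matrix.toLin'.injective
  apply LinearMap.ext
  intro v
  rw [Matrix.toLin'_apply, Matrix.toLin'_apply]
  apply eq_of_forall_left hf
  intro u
  rw [← hA, ← hB]

lemma adjM_eq (hf : HermForm σ ε f) {M A : Matrix ι ι F} (hA : IsAdj f M A) : adjM σ f M = A :=
  isAdj_unique hf (isAdj_adjM hf M) hA

lemma isAdj_symm (hf : HermForm σ ε f) {M A : Matrix ι ι F} (hA : IsAdj f M A) : IsAdj f A M := by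
  intro u v
  rw [hf.herm, ← hA, ← hf.herm]

lemma adjM_adjM (hf : HermForm σ ε f) (M : Matrix ι ι F) : adjM σ f (adjM σ f M) = M :=
  adjM_eq hf (isAdj_symm hf (isAdj_adjM hf M))

lemma adjM_mul (hf : HermForm σ ε f) (M N : Matrix ι ι F) : adjM σ f (M * N) = adjM σ f N * adjM σ f M := by
  apply adjM_eq hf
  intro u v
  rw [← Matrix.mulVec_mulVec, isAdj_adjM hf M, isAdj_adjM hf N, Matrix.mulVec_mulVec]

lemma adjM_one (hf : HermForm σ ε f) : adjM σ f (1 : Matrix ι ι F) = 1 := by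
  apply adjM_eq hf
  intro u v
  rw [Matrix.one_mulVec, Matrix.one_mulVec]

lemma adjM_zero (hf : HermForm σ ε f) : adjM σ f (0 : Matrix ι ι F) = 0 := by
  apply adjM_eq hf
  intro u v
  rw [Matrix.zero_mulVec, Matrix.zero_mulVec, hf.zero_left, hf.zero_right]

lemma adjM_add (hf : HermForm σ ε f) (M N : Matrix ι ι F) : adjM σ f (M + N) = adjM σ f M + adjM σ f N := by
  apply adjM_eq hf
  intro u v
  rw [Matrix.add_mulVec, Matrix.add_mulVec, hf.add_left, hf.add_right, isAdj_adjM hf M, isAdj_adjM hf N]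

lemma adjM_smul (hf : HermForm σ ε f) (c : F) (M : Matrix ι ι F) : adjM σ f (c • M) = σ c • adjM σ f M := by
  apply adjM_eq hf
  intro u v
  rw [Matrix.smul_mulVec, Matrix.smul_mulVec, hf.smul_left, hf.smul_right, hf.sigma_sq, isAdj_adjM hf M]

lemma adjM_pow (hf : HermForm σ ε f) (M : Matrix ι ι F) (n : ℕ) : adjM σ f (M ^ n) = (adjM σ f M) ^ n := by
  induction n with
  | zero => rw [pow_zero, pow_zero, adjM_one hf]
  | succ n ih => rw [pow_succ, adjM_mul hf, ih, ← pow_succ']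

lemma adjM_injective (hf : HermForm σ ε f) : Function.Injective (adjM σ f : Matrix ι ι F → Matrix ι ι F) := by
  intro M N h
  rw [← adjM_adjM hf M, h, adjM_adjM hf]

lemma adjM_mem (hf : HermForm σ ε f) {C : Subalgebra F (Matrix ι ι F)} (hC : IsAdjointClosedFor f C)
    {c : Matrix ι ι F} (hc : c ∈ C) : adjM σ f c ∈ C := by
  obtain ⟨c', hc', h⟩ := hC c hc
  rw [adjM_eq hf h]
  exact hc'

lemma isAdjointClosedFor_of (hf : HermForm σ ε f) {C : Subalgebra F (Matrix ι ι F)}
    (h : ∀ c ∈ C, adjM σ f c ∈ C) : IsAdjointClosedFor f C :=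
  fun c hc => ⟨adjM σ f c, h c hc, isAdj_adjM hf c⟩

/-- The adjoint of an isometry is its inverse. -/
lemma adjM_isometry (hf : HermForm σ ε f) {h : GL ι F}
    (hh : ∀ u v, f ((h : Matrix ι ι F) *ᵥ u) ((h : Matrix ι ι F) *ᵥ v) = f u v) :
    adjM σ f (h : Matrix ι ι F) = ((h⁻¹ : GL ι F) : Matrix ι ι F) := by
  apply adjM_eq hf
  intro u v
  have h1 := hh u (((h⁻¹ : GL ι F) : Matrix ι ι F) *ᵥ v)
  rw [Matrix.mulVec_mulVec, mul_inv_coe, Matrix.one_mulVec] at h1
  exact h1

lemma adjM_isometry_inv (hf : HermForm σ ε f) {h : GL ι F}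
    (hh : ∀ u v, f ((h : Matrix ι ι F) *ᵥ u) ((h : Matrix ι ι F) *ᵥ v) = f u v) :
    adjM σ f ((h⁻¹ : GL ι F) : Matrix ι ι F) = (h : Matrix ι ι F) := by
  rw [← adjM_isometry hf hh, adjM_adjM hf]

lemma adjM_conjM (hf : HermForm σ ε f) {h : GL ι F}
    (hh : ∀ u v, f ((h : Matrix ι ι F) *ᵥ u) ((h : Matrix ι ι F) *ᵥ v) = f u v) (c : Matrix ι ι F) :
    adjM σ f (conjM h c) = conjM h (adjM σ f c) := by
  rw [conjM_apply, adjM_mul hf, adjM_mul hf, adjM_isometry hf hh, adjM_isometry_inv hf hh, conjM_apply, mul_assoc]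

/-- The centraliser of an adjoint-closed subalgebra is adjoint-closed. -/
lemma isAdjointClosedFor_centralizer (hf : HermForm σ ε f) {C : Subalgebra F (Matrix ι ι F)}
    (hC : IsAdjointClosedFor f C) : IsAdjointClosedFor f (Subalgebra.centralizer F (C : Set (Matrix ι ι F))) := by
  apply isAdjointClosedFor_of hf
  intro c hc
  rw [Subalgebra.mem_centralizer_iff] at hc ⊢
  intro d hd
  have h1 := hc (adjM σ f d) (adjM_mem hf hC hd)
  have h2 := congrArg (adjM σ f) h1
  rw [adjM_mul hf, adjM_mul hf, adjM_adjM hf] at h2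
  exact h2.symm

lemma isAdjointClosedFor_inf (hf : HermForm σ ε f) {C D : Subalgebra F (Matrix ι ι F)}
    (hC : IsAdjointClosedFor f C) (hD : IsAdjointClosedFor f D) : IsAdjointClosedFor f (C ⊓ D) := by
  apply isAdjointClosedFor_of hf
  intro c hc
  exact ⟨adjM_mem hf hC hc.1, adjM_mem hf hD hc.2⟩

/-- The enveloping algebra of a group of isometries is adjoint-closed. -/
lemma isAdjointClosedFor_env (hf : HermForm σ ε f) {N : Subgroup (GL ι F)}
    (hN : ∀ g ∈ N, ∀ u v, f ((g : Matrix ι ι F) *ᵥ u) ((g : Matrix ι ι F) *ᵥ v) = f u v) :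
    IsAdjointClosedFor f (Algebra.adjoin F (matrixSet N)) := by
  apply isAdjointClosedFor_of hf
  intro c hc
  induction hc using Algebra.adjoin_induction with
  | mem x hx =>
    obtain ⟨g, hg, rfl⟩ := hx
    change adjM σ f (g : Matrix ι ι F) ∈ _
    rw [adjM_isometry hf (hN g hg)]
    exact Algebra.subset_adjoin ⟨g⁻¹, N.inv_mem hg, rfl⟩
  | algebraMap r =>
    rw [Algebra.algebraMap_eq_smul_one, adjM_smul hf, adjM_one hf]
    exact Subalgebra.smul_mem _ (Subalgebra.one_mem _) _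
  | add x y _ _ hx hy => rw [adjM_add hf]; exact Subalgebra.add_mem _ hx hy
  | mul x y _ _ hx hy => rw [adjM_mul hf]; exact Subalgebra.mul_mem _ hy hx

/-- The enveloping algebra of a normalised subgroup is normalised. -/
lemma normalises_env {H N : Subgroup (GL ι F)} (hN : ∀ h ∈ H, ∀ x ∈ N, h * x * h⁻¹ ∈ N) :
    Normalises H (Algebra.adjoin F (matrixSet N)) := by
  intro h hh c hc
  change conjM h c ∈ _
  induction hc using Algebra.adjoin_induction with
  | mem x hx =>
    obtain ⟨g, hg, rfl⟩ := hx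
    have : conjM h (g : Matrix ι ι F) = ((h * g * h⁻¹ : GL ι F) : Matrix ι ι F) := by
      rw [conjM_apply, Units.val_mul, Units.val_mul]
    change conjM h (g : Matrix ι ι F) ∈ _
    rw [this]
    exact Algebra.subset_adjoin ⟨h * g * h⁻¹, hN h hh g hg, rfl⟩
  | algebraMap r =>
    rw [AlgEquiv.commutes]
    exact Subalgebra.algebraMap_mem _ _
  | add x y _ _ hx hy => rw [map_add]; exact Subalgebra.add_mem _ hx hy
  | mul x y _ _ hx hy => rw [map_mul]; exact Subalgebra.mul_mem _ hx hy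

end Cfsg.Agent.H924
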