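import Cfsg.Agent.H924.Adj

/-!
Aschbacher library (H924): reducible groups of isometries stabilise a totally isotropic or a non-degenerate subspace.
-/

set_option autoImplicit false
set_option linter.style.haveILetI false
open Cfsg Cfsg.Geo Matrix

namespace Cfsg.Agent.H924

open Cfsg.Agent.H919 (HermForm)

variable {ι : Type} [Fintype ι] [DecidableEq ι] {F : Type*} [Field F]
variable {σ : F ≃+* F} {ε : F} {f : (ι → F) → (ι → F) → F}

/-- The orthogonal complement of a subspace. -/
noncomputable def perpOf (hf : HermForm σ ε f) (W : Submodule F (ι → F)) : Submodule F (ι → F) where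
  carrier := {v | ∀ w ∈ W, f v w = 0}
  add_mem' := fun {a b} ha hb w hw => by rw [hf.add_left, ha w hw, hb w hw, add_zero]
  zero_mem' := fun w _ => hf.zero_left w
  smul_mem' := fun c v hv w hw => by rw [hf.smul_left, hv w hw, mul_zero]

lemma mem_perpOf (hf : HermForm σ ε f) (W : Submodule F (ι → F)) (v : ι → F) :
    v ∈ perpOf hf W ↔ ∀ w ∈ W, f v w = 0 := Iff.rfl

lemma form_symm_zero (hf : HermForm σ ε f) {v w : ι → F} : f v w = 0 ↔ f w v = 0 := by
  rw [hf.herm v w, mul_eq_zero, map_eq_zero]
  exact ⟨fun h => h.resolve_left hf.eps_ne_zero, Or.inr⟩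

lemma mem_perpOf' (hf : HermForm σ ε f) (W : Submodule F (ι → F)) (v : ι → F) :
    v ∈ perpOf hf W ↔ ∀ w ∈ W, f w v = 0 := by
  rw [mem_perpOf]
  exact ⟨fun h w hw => (form_symm_zero hf).mp (h w hw), fun h w hw => (form_symm_zero hf).mp (h w hw)⟩

/-- The dimension formula for the orthogonal complement. -/
theorem finrank_perpOf (hf : HermForm σ ε f) (W : Submodule F (ι → F)) :
    Module.finrank F W + Module.finrank F (perpOf hf W) = Fintype.card ι := by
  classical
  let b := Module.finBasis F W
  let k := Module.finrank F W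
  let L : (ι → F) →ₗ[F] (Fin k → F) :=
    { toFun := fun v i => f v (b i : ι → F)
      map_add' := fun x y => by funext i; exact hf.add_left _ _ _
      map_smul' := fun c x => by funext i; exact hf.smul_left _ _ _ }
  have hker : LinearMap.ker L = perpOf hf W := by
    ext v
    rw [LinearMap.mem_ker, mem_perpOf]
    constructor
    · intro h w hw
      have h1 : (⟨w, hw⟩ : W) = ∑ i, (b.repr ⟨w, hw⟩ i) • b i := (b.sum_repr _).symm
      have h2 : w = ∑ i, (b.repr ⟨w, hw⟩ i) • ((b i : W) : ι → F) := by
        have := congrArg Subtype.val h1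
        rw [AddSubmonoidClass.coe_finset_sum] at this
        simpa using this
      rw [h2, hf.sum_right]
      apply Finset.sum_eq_zero
      intro i _
      rw [hf.smul_right]
      have := congrFun h i
      change f v (b i : ι → F) = 0 at this
      rw [this, mul_zero]
    · intro h
      funext i
      exact h _ (b i).2
  have hrange : LinearMap.range L = ⊤ := by
    by_contra hne
    obtain ⟨φ, hφ0, hφ⟩ := Submodule.exists_le_ker_of_lt_top (LinearMap.range L) (lt_top_iff_ne_top.mpr hne)
    -- φ is given by coefficients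
    let c : Fin k → F := fun i => φ (Pi.single i 1)
    have hφc : ∀ x : Fin k → F, φ x = ∑ i, x i * c i := by
      intro x
      conv_lhs => rw [show x = ∑ i, x i • (Pi.single i 1 : Fin k → F) by
        ext j; simp [Finset.sum_apply, Pi.single_apply]]
      rw [map_sum]
      simp [c]
    have h1 : ∀ v, f v (∑ i, σ (c i) • ((b i : W) : ι → F)) = 0 := by
      intro v
      rw [hf.sum_right]
      have h2 : φ (L v) = 0 := hφ ⟨v, rfl⟩
      rw [hφc] at h2
      rw [← h2]
      apply Finset.sum_congr rfl
      intro i _
      rw [hf.smul_right, hf.sigma_sq, mul_comm]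
      rfl
    have h3 : ∑ i, σ (c i) • ((b i : W) : ι → F) = 0 := eq_zero_of_forall_left hf h1
    have h4 : ∑ i, σ (c i) • b i = 0 := by
      apply Subtype.ext
      rw [AddSubmonoidClass.coe_finset_sum]
      simpa using h3
    have h5 := Fintype.linearIndependent_iff.mp b.linearIndependent (fun i => σ (c i)) h4
    apply hφ0
    apply LinearMap.ext
    intro x
    rw [hφc]
    apply Finset.sum_eq_zero
    intro i _
    have := h5 i
    have h6 : c i = 0 := by simpa using this
    rw [h6, mul_zero]
  have h := LinearMap.finrank_range_add_finrank_ker L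
  rw [hrange, hker, finrank_top, Module.finrank_fintype_fun_eq_card, Module.finrank_fintype_fun_eq_card,
    Fintype.card_fin] at h
  exact h

lemma stab_perpOf (hf : HermForm σ ε f) {g : GL ι F}
    (hg : ∀ u v, f ((g : Matrix ι ι F) *ᵥ u) ((g : Matrix ι ι F) *ᵥ v) = f u v) {W : Submodule F (ι → F)}
    (hW : g ∈ subspaceStabilizer W) : g ∈ subspaceStabilizer (perpOf hf W) := by
  have hW' : ∀ v, v ∈ W ↔ (g : Matrix ι ι F) *ᵥ v ∈ W := hW
  intro v
  change v ∈ perpOf hf W ↔ (g : Matrix ι ι F) *ᵥ v ∈ perpOf hf W
  rw [mem_perpOf, mem_perpOf]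
  constructor
  · intro h w hw
    have h1 : (g : Matrix ι ι F) *ᵥ (((g⁻¹ : GL ι F) : Matrix ι ι F) *ᵥ w) = w := by
      rw [Matrix.mulVec_mulVec, mul_inv_coe, Matrix.one_mulVec]
    rw [← h1, hg]
    apply h
    rw [hW', h1]
    exact hw
  · intro h w hw
    rw [← hg]
    exact h _ ((hW' w).mp hw)

lemma mem_subspaceStabilizer_iff {g : GL ι F} {W : Submodule F (ι → F)} :
    g ∈ subspaceStabilizer W ↔ ∀ v, v ∈ W ↔ (g : Matrix ι ι F) *ᵥ v ∈ W := Iff.rfl

lemma stab_inf {g : GL ι F} {W U : Submodule F (ι → F)} (hW : g ∈ subspaceStabilizer W)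
    (hU : g ∈ subspaceStabilizer U) : g ∈ subspaceStabilizer (W ⊓ U) := by
  rw [mem_subspaceStabilizer_iff] at *
  intro v
  rw [Submodule.mem_inf, Submodule.mem_inf, ← hW v, ← hU v]

/-- A subspace mapped into itself by a group is stabilised by the group. -/
lemma le_subspaceStabilizer {H : Subgroup (GL ι F)} {W : Submodule F (ι → F)}
    (hW : ∀ h ∈ H, ∀ v ∈ W, (h : Matrix ι ι F) *ᵥ v ∈ W) : H ≤ subspaceStabilizer W := by
  intro g hg
  rw [mem_subspaceStabilizer_iff]
  intro v
  refine ⟨hW g hg v, fun h => ?_⟩
  have := hW _ (H.inv_mem hg) _ h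
  rwa [Matrix.mulVec_mulVec, inv_mul_coe, Matrix.one_mulVec] at this

/-- **Class C1 relative to a form.** -/
theorem reducible_cases (hf : HermForm σ ε f) {H : Subgroup (GL ι F)}
    (hH : ∀ g ∈ H, ∀ u v, f ((g : Matrix ι ι F) *ᵥ u) ((g : Matrix ι ι F) *ᵥ v) = f u v)
    (hred : ¬ ActsIrreducibly (matrixSet H)) :
    (∃ W : Submodule F (ι → F), W ≠ ⊥ ∧ IsTotallySingularFor f W ∧ H ≤ subspaceStabilizer W) ∨
    (∃ W : Submodule F (ι → F), W ≠ ⊥ ∧ IsNondegenerateOn f W ∧ 2 * Module.finrank F W < Fintype.card ι ∧
      H ≤ subspaceStabilizer W) ∨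
    (∃ (k : ℕ) (D : Fin 2 → Submodule F (ι → F)), IsNondegenerateMDecomposition f k D ∧
      H ≤ decompositionStabilizer D ∧ H ≤ subspaceStabilizer (D 0) ∧ H ≤ subspaceStabilizer (D 1)) := by
  classical
  unfold ActsIrreducibly at hred
  push Not at hred
  obtain ⟨W, hWH, hW0, hW1⟩ := hred
  have hstab : H ≤ subspaceStabilizer W := by
    apply le_subspaceStabilizer
    intro h hh v hv
    have := hWH _ ⟨h, hh, rfl⟩
    rw [Submodule.map_le_iff_le_comap] at this
    exact this hv
  have hstab' : H ≤ subspaceStabilizer (perpOf hf W) := fun g hg => stab_perpOf hf (hH g hg) (hstab hg)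
  by_cases hR : W ⊓ perpOf hf W = ⊥
  · have hdim := finrank_perpOf hf W
    have hcompl : IsCompl W (perpOf hf W) := by
      refine ⟨disjoint_iff.mpr hR, codisjoint_iff.mpr ?_⟩
      apply Submodule.eq_top_of_finrank_eq
      have h1 := Submodule.finrank_sup_add_finrank_inf_eq W (perpOf hf W)
      rw [hR, finrank_bot, add_zero, hdim] at h1
      rw [h1, Module.finrank_fintype_fun_eq_card]
    have hnd1 : IsNondegenerateOn f W := by
      intro w hw hw0
      have h1 : w ∉ perpOf hf W := by
        intro h
        have : w ∈ W ⊓ perpOf hf W := ⟨hw, h⟩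
        rw [hR, Submodule.mem_bot] at this
        exact hw0 this
      constructor
      · rw [mem_perpOf'] at h1
        push Not at h1
        exact h1
      · rw [mem_perpOf] at h1
        push Not at h1
        exact h1
    have hnd2 : IsNondegenerateOn f (perpOf hf W) := by
      intro w hw hw0
      have key : ∃ x ∈ perpOf hf W, f w x ≠ 0 := by
        by_contra hcon
        push Not at hcon
        apply hw0
        apply eq_zero_of_forall_left hf
        intro u
        rw [form_symm_zero hf]
        have hu : u ∈ W ⊔ perpOf hf W := by rw [hcompl.sup_eq_top]; trivial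
        obtain ⟨a, ha, b, hb, rfl⟩ := Submodule.mem_sup.mp hu
        rw [hf.add_right, hcon b hb, (mem_perpOf hf W w).mp hw a ha, add_zero]
      obtain ⟨x, hx, hx1⟩ := key
      exact ⟨⟨x, hx, fun h => hx1 ((form_symm_zero hf).mpr h)⟩, ⟨x, hx, hx1⟩⟩
    have hP0 : perpOf hf W ≠ ⊥ := by
      intro h0
      apply hW1
      have := hcompl.sup_eq_top
      rwa [h0, sup_bot_eq] at this
    right
    rcases lt_trichotomy (2 * Module.finrank F W) (Fintype.card ι) with h | h | h
    · left
      exact ⟨W, hW0, hnd1, h, hstab⟩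
    · right
      refine ⟨Module.finrank F W, ![W, perpOf hf W], ⟨⟨le_rfl, ?_, ?_, ?_, ?_⟩, ?_, ?_⟩, ?_, ?_, ?_⟩
      · rw [Nat.pos_iff_ne_zero]
        intro h0
        rw [Submodule.finrank_eq_zero] at h0
        exact hW0 h0
      · intro i
        fin_cases i
        · rfl
        · change Module.finrank F (perpOf hf W) = _
          omega
      · rw [iSupIndep_def]
        intro i
        fin_cases i
        · rw [disjoint_iff_inf_le]
          intro v hv
          have h2 : (⨆ j : Fin 2, ⨆ _ : j ≠ 0, (![W, perpOf hf W] : Fin 2 → Submodule F (ι → F)) j) ≤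
              perpOf hf W := by
            apply iSup₂_le
            intro j hj
            fin_cases j
            · exact absurd rfl hj
            · exact le_rfl
          have h3 : v ∈ W ⊓ perpOf hf W := ⟨hv.1, h2 hv.2⟩
          rw [hR] at h3
          exact h3
        · rw [disjoint_iff_inf_le]
          intro v hv
          have h2 : (⨆ j : Fin 2, ⨆ _ : j ≠ 1, (![W, perpOf hf W] : Fin 2 → Submodule F (ι → F)) j) ≤ W := by
            apply iSup₂_le
            intro j hj
            fin_cases j
            · exact le_rfl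
            · exact absurd rfl hj
          have h3 : v ∈ W ⊓ perpOf hf W := ⟨h2 hv.2, hv.1⟩
          rw [hR] at h3
          exact h3
      · rw [eq_top_iff, ← hcompl.sup_eq_top]
        apply sup_le
        · exact le_iSup (![W, perpOf hf W] : Fin 2 → Submodule F (ι → F)) 0
        · exact le_iSup (![W, perpOf hf W] : Fin 2 → Submodule F (ι → F)) 1
      · intro i
        fin_cases i
        · exact hnd1
        · exact hnd2
      · intro i j hij u hu v hv
        fin_cases i <;> fin_cases j
        · exact absurd rfl hij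
        · exact (mem_perpOf' hf W v).mp hv u hu
        · exact (mem_perpOf hf W u).mp hu v hv
        · exact absurd rfl hij
      · intro g hg
        refine ⟨1, fun i => ?_⟩
        have key : ∀ U : Submodule F (ι → F), g ∈ subspaceStabilizer U →
            U.map (Matrix.toLin' (g : Matrix ι ι F)) = U := by
          intro U hU
          rw [mem_subspaceStabilizer_iff] at hU
          ext v
          rw [Submodule.mem_map]
          constructor
          · rintro ⟨w, hw, rfl⟩
            exact (hU w).mp hw
          · intro hv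
            refine ⟨((g⁻¹ : GL ι F) : Matrix ι ι F) *ᵥ v, ?_, ?_⟩
            · rw [hU, Matrix.mulVec_mulVec, mul_inv_coe, Matrix.one_mulVec]
              exact hv
            · rw [Matrix.toLin'_apply, Matrix.mulVec_mulVec, mul_inv_coe, Matrix.one_mulVec]
        rw [Equiv.Perm.one_apply]
        fin_cases i
        · exact key W (hstab hg)
        · exact key _ (hstab' hg)
      · exact hstab
      · exact hstab'
    · left
      refine ⟨perpOf hf W, hP0, hnd2, by omega, hstab'⟩
  · left
    refine ⟨W ⊓ perpOf hf W, hR, ?_, fun g hg => stab_inf (hstab hg) (hstab' hg)⟩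
    intro u hu v hv
    exact (mem_perpOf hf W u).mp hu.2 v hv.1

end Cfsg.Agent.H924
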