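import Cfsg.Agent.H924.POne
import Cfsg.Agent.H924.Reduc
import Cfsg.Agent.H912.TensForm2
import Cfsg.Agent.H914.Sub2
import Cfsg.Agent.H919.AschSplit
import Cfsg.Agent.H920.SympC

/-!
Aschbacher library (H924): **FormFine**, the common form of Aschbacher's theorem for an irreducible group of
isometries of a non-degenerate (σ, ε)-hermitian form over a finite field.

`irreducible_fine`: an irreducible group `H` of isometries of `f` satisfies one of
* (C2a) it permutes transitively an orthogonal decomposition into non-degenerate subspaces;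
* (C2b) it permutes a pair of complementary totally isotropic subspaces;
* (C3) it normalises an adjoint-closed field of prime degree;
* (C4) it lies in the stabiliser of a tensor decomposition `f = f₁ ⊗ f₂`, both factors of dimension at least two;
* (C5) it lies in a subfield group for a maximal subfield, carrying a non-zero multiple of `f`;
* (C6) it normalises an absolutely irreducible group of symplectic type, not realisable over a proper subfield;
* (C7) tensor power data;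
* (S) some `P` satisfies all the conditions of `IsResidualCore H P`.
-/

set_option autoImplicit false
set_option linter.style.haveILetI false
open Cfsg Cfsg.Geo Matrix
open scoped Kronecker

namespace Cfsg.Agent.H924

open Cfsg.Agent.H919 (HermForm WreathData CoreNS)

variable {ι : Type} [Fintype ι] [DecidableEq ι] {F : Type*} [Field F]
variable {σ : F ≃+* F} {ε : F} {f : (ι → F) → (ι → F) → F}

lemma centre_normalises {H : Subgroup (GL ι F)} {A : Subalgebra F (Matrix ι ι F)} (hA : Normalises H A) :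
    Normalises H (H912.cen A) := hA.inf hA.centralizer

lemma centre_comm {A : Subalgebra F (Matrix ι ι F)} :
    ∀ x ∈ H912.cen A, ∀ y ∈ H912.cen A, x * y = y * x := by
  intro x hx y hy
  rw [H912.mem_cen] at hx hy
  exact hy.2 x hx.1

/-- A semisimple algebra with centre `F` is simple. -/
lemma isSimpleRing_of_cen [Nonempty ι] [Finite F] {H : Subgroup (GL ι F)}
    (hirr : ActsIrreducibly (matrixSet H)) {A : Subalgebra F (Matrix ι ι F)} (hA : Normalises H A)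
    (hcen : H912.cen A = ⊥) : IsSimpleRing A := by
  haveI := isSemisimpleRing_of_normalised hirr hA
  haveI : Module.Finite F A := inferInstance
  haveI : Nontrivial A := inferInstance
  obtain ⟨w, hw, ⟨φ⟩⟩ := H919.exists_algEquiv_matrix_of_center (F := F) (R := A) (by
    intro z hz
    have hz' : (z : Matrix ι ι F) ∈ H912.cen A := by
      rw [H912.mem_cen]
      refine ⟨z.2, fun a ha => ?_⟩
      have := hz ⟨a, ha⟩
      exact (congrArg Subtype.val this).symm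
    rw [hcen, Algebra.mem_bot] at hz'
    obtain ⟨c, hc⟩ := hz'
    exact ⟨c, Subtype.ext hc.symm⟩)
  haveI : Nonempty (Fin w) := ⟨⟨0, hw⟩⟩
  haveI : IsSimpleRing (Matrix (Fin w) (Fin w) F) := inferInstance
  exact IsSimpleRing.of_ringEquiv φ.symm.toRingEquiv inferInstance

/-- A subgroup whose enveloping algebra is trivial consists of scalars. -/
lemma le_scalars_of_env_bot {N : Subgroup (GL ι F)} (h : Algebra.adjoin F (matrixSet N) = ⊥) :
    N ≤ scalars ι F := by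
  intro g hg
  have h1 : (g : Matrix ι ι F) ∈ Algebra.adjoin F (matrixSet N) := Algebra.subset_adjoin ⟨g, hg, rfl⟩
  rw [h, Algebra.mem_bot] at h1
  obtain ⟨c, hc⟩ := h1
  rw [Algebra.algebraMap_eq_smul_one] at hc
  rcases isEmpty_or_nonempty ι with he | hne
  · rw [mem_scalars_iff]
    refine ⟨1, ?_⟩
    ext i
    exact (he.false i).elim
  · have hc0 : c ≠ 0 := by
      rintro rfl
      rw [zero_smul] at hc
      have : (g : Matrix ι ι F) * ((g⁻¹ : GL ι F) : Matrix ι ι F) = 1 := mul_inv_coe g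
      rw [← hc, zero_mul] at this
      exact zero_ne_one this
    rw [mem_scalars_iff]
    exact ⟨Units.mk0 c hc0, hc.symm⟩

/-- The top split: (C2a), (C2b), (C3), (C4), or every normal subgroup is scalar or absolutely irreducible. -/
theorem top_split [Nonempty ι] [Finite F] (hf : HermForm σ ε f) {H : Subgroup (GL ι F)}
    (hirr : ActsIrreducibly (matrixSet H))
    (hH : ∀ g ∈ H, ∀ u v, f ((g : Matrix ι ι F) *ᵥ u) ((g : Matrix ι ι F) *ᵥ v) = f u v) :
    (∃ (t m : ℕ) (D : Fin t → Submodule F (ι → F)), IsNondegenerateMDecomposition f m D ∧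
      H ≤ decompositionStabilizer D ∧
      (∀ i j, ∃ h ∈ H, (D i).map (Matrix.toLin' (h : Matrix ι ι F)) = D j)) ∨
    (∃ (m : ℕ) (D : Fin 2 → Submodule F (ι → F)), IsMDecomposition m D ∧
      (∀ i, IsTotallySingularFor f (D i)) ∧ H ≤ decompositionStabilizer D) ∨
    (∃ (r : ℕ) (K : Subalgebra F (Matrix ι ι F)), r.Prime ∧ IsFieldSubalgebra r K ∧
      IsAdjointClosedFor f K ∧ H ≤ subalgebraNormalizer K) ∨
    (∃ (n₁ n₂ : ℕ) (e : ι ≃ Fin n₁ × Fin n₂) (P : GL ι F) (ε₁ ε₂ : F) (f₁ : (Fin n₁ → F) → (Fin n₁ → F) → F)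
      (f₂ : (Fin n₂ → F) → (Fin n₂ → F) → F), 2 ≤ n₁ ∧ 2 ≤ n₂ ∧ n₁ * n₂ = Fintype.card ι ∧
      HermForm σ ε₁ f₁ ∧ HermForm σ ε₂ f₂ ∧ ε₁ * ε₂ = ε ∧ IsTensorFormStructure σ f f₁ f₂ e P ∧
      H ≤ tensorProductSubgroup n₁ n₂ e P) ∨
    (∀ N : Subgroup (GL ι F), N ≤ H → (∀ h ∈ H, ∀ x ∈ N, h * x * h⁻¹ ∈ N) →
      N ≤ scalars ι F ∨ ActsAbsolutelyIrreducibly (matrixSet N)) := by
  classical
  by_cases hspan : ∀ N : Subgroup (GL ι F), N ≤ H → (∀ h ∈ H, ∀ x ∈ N, h * x * h⁻¹ ∈ N) →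
      N ≤ scalars ι F ∨ ActsAbsolutelyIrreducibly (matrixSet N)
  · exact Or.inr (Or.inr (Or.inr (Or.inr hspan)))
  push Not at hspan
  obtain ⟨N, hNH, hN, hNs, hNa⟩ := hspan
  set A : Subalgebra F (Matrix ι ι F) := Algebra.adjoin F (matrixSet N) with hAdef
  have hA : Normalises H A := normalises_env hN
  have hadj : IsAdjointClosedFor f A := isAdjointClosedFor_env hf (fun g hg => hH g (hNH hg))
  have hcadj : IsAdjointClosedFor f (H912.cen A) :=
    isAdjointClosedFor_inf hf hadj (isAdjointClosedFor_centralizer hf hadj)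
  rcases comm_cases_form hf hirr hH (normalises_iff_le.mp (centre_normalises hA)) centre_comm hcadj with
    h | h | ⟨r, K, hr, -, h1, h2, h3⟩ | hcen
  · exact Or.inl h
  · exact Or.inr (Or.inl h)
  · exact Or.inr (Or.inr (Or.inl ⟨r, K, hr, h1, h2, h3⟩))
  · right; right; right; left
    have hsimple := isSimpleRing_of_cen hirr hA hcen
    obtain ⟨n₁, n₂, e, P, hn1, hn2, hcard, hmem⟩ := H912.exists_tens hsimple hcen
    obtain ⟨ε₁, ε₂, f₁, f₂, hf1, hf2, hε, hstr⟩ := H912.exists_isTensorFormStructure hf hn1 hn2 hmem hadj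
    refine ⟨n₁, n₂, e, P, ε₁, ε₂, f₁, f₂, ?_, ?_, hcard, hf1, hf2, hε, hstr, ?_⟩
    · -- n₁ ≥ 2, otherwise N is scalar
      by_contra hlt
      have h1 : n₁ = 1 := by omega
      subst h1
      apply hNs
      apply le_scalars_of_env_bot
      rw [eq_bot_iff]
      intro x hx
      obtain ⟨a, rfl⟩ := (hmem x).mp hx
      have ha : a = a 0 0 • (1 : Matrix (Fin 1) (Fin 1) F) := by
        ext i j
        fin_cases i; fin_cases j
        simp
      rw [Algebra.mem_bot]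
      refine ⟨a 0 0, ?_⟩
      rw [Algebra.algebraMap_eq_smul_one]
      conv_rhs => rw [ha]
      unfold H912.tens
      rw [Matrix.smul_kronecker, map_smul, Matrix.one_kronecker_one, map_one, Matrix.mul_smul, mul_one,
        Matrix.smul_mul, mul_inv_coe]
    · by_contra hlt
      have h1 : n₂ = 1 := by omega
      subst h1
      apply hNa
      rw [H919.absIrr_iff, eq_top_iff]
      intro x _
      rw [← hAdef, hmem]
      -- every matrix is of the form tens e P a 1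
      let y : Matrix (Fin n₁ × Fin 1) (Fin n₁ × Fin 1) F :=
        Matrix.reindexAlgEquiv F F e (((P⁻¹ : GL ι F) : Matrix ι ι F) * x * (P : Matrix ι ι F))
      refine ⟨fun i j => y (i, 0) (j, 0), ?_⟩
      unfold H912.tens
      have hy : (fun i j => y (i, 0) (j, 0) : Matrix (Fin n₁) (Fin n₁) F) ⊗ₖ (1 : Matrix (Fin 1) (Fin 1) F) = y := by
        ext ⟨i, a⟩ ⟨j, b⟩
        obtain rfl : a = 0 := Subsingleton.elim _ _
        obtain rfl : b = 0 := Subsingleton.elim _ _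
        change y (i, 0) (j, 0) * (1 : Matrix (Fin 1) (Fin 1) F) 0 0 = y (i, 0) (j, 0)
        rw [Matrix.one_apply_eq, mul_one]
      rw [hy]
      have hy2 : Matrix.reindexAlgEquiv F F e.symm y = ((P⁻¹ : GL ι F) : Matrix ι ι F) * x * (P : Matrix ι ι F) := by
        ext i j
        simp [y]
      rw [hy2]
      calc x = ((P : Matrix ι ι F) * ((P⁻¹ : GL ι F) : Matrix ι ι F)) * x *
            ((P : Matrix ι ι F) * ((P⁻¹ : GL ι F) : Matrix ι ι F)) := by
            rw [mul_inv_coe, one_mul, mul_one]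
        _ = _ := by simp only [mul_assoc]
    · exact H912.le_tensorProductSubgroup hn1 hn2 hmem (fun h hh a ha => hA h hh a ha)

/-- **FormFine**, version exporting in (C6) that commutators of `R` are scalar. -/
theorem irreducible_fine2 [Finite F] (hcard : 2 ≤ Fintype.card ι) (hf : HermForm σ ε f) {H : Subgroup (GL ι F)}
    (hirr : ActsIrreducibly (matrixSet H))
    (hH : ∀ g ∈ H, ∀ u v, f ((g : Matrix ι ι F) *ᵥ u) ((g : Matrix ι ι F) *ᵥ v) = f u v) :
    -- (C2a)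
    (∃ (t m : ℕ) (D : Fin t → Submodule F (ι → F)), IsNondegenerateMDecomposition f m D ∧
      H ≤ decompositionStabilizer D ∧
      (∀ i j, ∃ h ∈ H, (D i).map (Matrix.toLin' (h : Matrix ι ι F)) = D j)) ∨
    -- (C2b)
    (∃ (m : ℕ) (D : Fin 2 → Submodule F (ι → F)), IsMDecomposition m D ∧
      (∀ i, IsTotallySingularFor f (D i)) ∧ H ≤ decompositionStabilizer D) ∨
    -- (C3)
    (∃ (r : ℕ) (K : Subalgebra F (Matrix ι ι F)), r.Prime ∧ IsFieldSubalgebra r K ∧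
      IsAdjointClosedFor f K ∧ H ≤ subalgebraNormalizer K) ∨
    -- (C4)
    (∃ (n₁ n₂ : ℕ) (e : ι ≃ Fin n₁ × Fin n₂) (P : GL ι F) (ε₁ ε₂ : F) (f₁ : (Fin n₁ → F) → (Fin n₁ → F) → F)
      (f₂ : (Fin n₂ → F) → (Fin n₂ → F) → F), 2 ≤ n₁ ∧ 2 ≤ n₂ ∧ n₁ * n₂ = Fintype.card ι ∧
      HermForm σ ε₁ f₁ ∧ HermForm σ ε₂ f₂ ∧ ε₁ * ε₂ = ε ∧ IsTensorFormStructure σ f f₁ f₂ e P ∧
      H ≤ tensorProductSubgroup n₁ n₂ e P) ∨
    -- (C5)
    (∃ (F₁ : Subfield F) (r : ℕ) (B : GL ι F) (ζ : F), F₁ ≠ ⊤ ∧ r.Prime ∧ Nat.card F = Nat.card F₁ ^ r ∧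
      ζ ≠ 0 ∧ IsFormRationalStructure f F₁ ζ B ∧ H ≤ subfieldSubgroup F₁ B) ∨
    -- (C6)
    (∃ (r m : ℕ) (R : Subgroup (GL ι F)), R ≤ H ∧ (∀ h ∈ H, ∀ x ∈ R, h * x * h⁻¹ ∈ R) ∧
      H ≤ subgroupNormalizer R ∧ ActsAbsolutelyIrreducibly (matrixSet R) ∧ IsSymplecticTypeGroup r R ∧
      ringChar F ≠ r ∧ 1 ≤ m ∧ Fintype.card ι = r ^ m ∧ Subgroup.center R = (scalars ι F).subgroupOf R ∧
      ((Odd r ∧ Nat.card (Subgroup.center R) = r ∧ Nat.card R = r ^ (1 + 2 * m)) ∨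
       (r = 2 ∧ Nat.card (Subgroup.center R) = 4 ∧ Nat.card R = 2 ^ (2 + 2 * m)) ∨
       (r = 2 ∧ Nat.card (Subgroup.center R) = 2 ∧ Nat.card R = 2 ^ (1 + 2 * m))) ∧
      (∀ F₀ : Subfield F, F₀ ≠ ⊤ → ¬ RealisableOver F₀ (matrixSet R)) ∧
      (∀ x ∈ R, ∀ y ∈ R, x * y * x⁻¹ * y⁻¹ ∈ scalars ι F)) ∨
    -- (C7)
    (∃ (m t : ℕ) (e : ι ≃ (Fin t → Fin m)) (P : GL ι F) (E : Fin t → Subgroup (GL ι F)),
      WreathData H m t e P E) ∨
    -- (S)
    (∃ P : Subgroup (GL ι F), IsResidualCore H P) := by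
  classical
  haveI : Nonempty ι := Fintype.card_pos_iff.mp (by omega)
  rcases top_split hf hirr hH with h | h | h | h | hspan
  · exact Or.inl h
  · exact Or.inr (Or.inl h)
  · exact Or.inr (Or.inr (Or.inl h))
  · exact Or.inr (Or.inr (Or.inr (Or.inl h)))
  have hC5 : ∀ P : Subgroup (GL ι F), P ≤ H → (∀ h ∈ H, ∀ x ∈ P, h * x * h⁻¹ ∈ P) →
      ActsAbsolutelyIrreducibly (matrixSet P) → ∀ F₀ : Subfield F, F₀ ≠ ⊤ → RealisableOver F₀ (matrixSet P) →
      (∃ (F₁ : Subfield F) (r : ℕ) (B : GL ι F) (ζ : F), F₁ ≠ ⊤ ∧ r.Prime ∧ Nat.card F = Nat.card F₁ ^ r ∧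
      ζ ≠ 0 ∧ IsFormRationalStructure f F₁ ζ B ∧ H ≤ subfieldSubgroup F₁ B) := by
    intro P hPH hP habs F₀ hF₀ hreal
    have hfP : FixesForm (matrixSet P) f := by
      rintro _ ⟨g, hg, rfl⟩
      exact hH g (hPH hg)
    obtain ⟨F₁, r, B, ζ, _, h1, hr, hc, hζ, hrat, _, hle⟩ :=
      H914.exists_le_subfieldSubgroup_form hP habs hF₀ hreal (H914.IsSesq.of_herm hf) hf.nondegenerate hfP
    exact ⟨F₁, r, B, ζ, h1, hr, hc, hζ, hrat, hle⟩
  rcases H919.C_split H hirr hcard hspan with ⟨N, hNH, hN, hNs, hNc⟩ | h | ⟨P, hP⟩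
  · obtain ⟨r, m, R, hRN, hR, hHR, habs, htype, hchar, hm, hcardR, hcen, hord⟩ :=
      H920.exists_symplecticType hspan hNH hN hNs hNc
    by_cases hreal : ∃ F₀ : Subfield F, F₀ ≠ ⊤ ∧ RealisableOver F₀ (matrixSet R)
    · obtain ⟨F₀, hF₀, hreal⟩ := hreal
      exact Or.inr (Or.inr (Or.inr (Or.inr (Or.inl (hC5 R (hRN.trans hNH) hR habs F₀ hF₀ hreal)))))
    · push Not at hreal
      exact Or.inr (Or.inr (Or.inr (Or.inr (Or.inr (Or.inl ⟨r, m, R, hRN.trans hNH, hR, hHR, habs, htype, hchar,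
        hm, hcardR, hcen, hord, hreal, fun x hx y hy => hNc x (hRN hx) y (hRN hy)⟩)))))
  · exact Or.inr (Or.inr (Or.inr (Or.inr (Or.inr (Or.inr (Or.inl h))))))
  · by_cases hreal : ∃ F₀ : Subfield F, F₀ ≠ ⊤ ∧ RealisableOver F₀ (matrixSet P)
    · obtain ⟨F₀, hF₀, hreal⟩ := hreal
      exact Or.inr (Or.inr (Or.inr (Or.inr (Or.inl (hC5 P hP.le hP.normal hP.absIrred F₀ hF₀ hreal)))))
    · push Not at hreal
      exact Or.inr (Or.inr (Or.inr (Or.inr (Or.inr (Or.inr (Or.inr ⟨P, hP.isResidualCore hreal⟩))))))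

/-- **FormFine**: Aschbacher's theorem for irreducible groups of isometries of a hermitian form, common version. -/
theorem irreducible_fine [Finite F] (hcard : 2 ≤ Fintype.card ι) (hf : HermForm σ ε f) {H : Subgroup (GL ι F)}
    (hirr : ActsIrreducibly (matrixSet H))
    (hH : ∀ g ∈ H, ∀ u v, f ((g : Matrix ι ι F) *ᵥ u) ((g : Matrix ι ι F) *ᵥ v) = f u v) :
    -- (C2a)
    (∃ (t m : ℕ) (D : Fin t → Submodule F (ι → F)), IsNondegenerateMDecomposition f m D ∧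
      H ≤ decompositionStabilizer D ∧
      (∀ i j, ∃ h ∈ H, (D i).map (Matrix.toLin' (h : Matrix ι ι F)) = D j)) ∨
    -- (C2b)
    (∃ (m : ℕ) (D : Fin 2 → Submodule F (ι → F)), IsMDecomposition m D ∧
      (∀ i, IsTotallySingularFor f (D i)) ∧ H ≤ decompositionStabilizer D) ∨
    -- (C3)
    (∃ (r : ℕ) (K : Subalgebra F (Matrix ι ι F)), r.Prime ∧ IsFieldSubalgebra r K ∧
      IsAdjointClosedFor f K ∧ H ≤ subalgebraNormalizer K) ∨
    -- (C4)
    (∃ (n₁ n₂ : ℕ) (e : ι ≃ Fin n₁ × Fin n₂) (P : GL ι F) (ε₁ ε₂ : F) (f₁ : (Fin n₁ → F) → (Fin n₁ → F) → F)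
      (f₂ : (Fin n₂ → F) → (Fin n₂ → F) → F), 2 ≤ n₁ ∧ 2 ≤ n₂ ∧ n₁ * n₂ = Fintype.card ι ∧
      HermForm σ ε₁ f₁ ∧ HermForm σ ε₂ f₂ ∧ ε₁ * ε₂ = ε ∧ IsTensorFormStructure σ f f₁ f₂ e P ∧
      H ≤ tensorProductSubgroup n₁ n₂ e P) ∨
    -- (C5)
    (∃ (F₁ : Subfield F) (r : ℕ) (B : GL ι F) (ζ : F), F₁ ≠ ⊤ ∧ r.Prime ∧ Nat.card F = Nat.card F₁ ^ r ∧
      ζ ≠ 0 ∧ IsFormRationalStructure f F₁ ζ B ∧ H ≤ subfieldSubgroup F₁ B) ∨
    -- (C6)
    (∃ (r m : ℕ) (R : Subgroup (GL ι F)), R ≤ H ∧ (∀ h ∈ H, ∀ x ∈ R, h * x * h⁻¹ ∈ R) ∧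
      H ≤ subgroupNormalizer R ∧ ActsAbsolutelyIrreducibly (matrixSet R) ∧ IsSymplecticTypeGroup r R ∧
      ringChar F ≠ r ∧ 1 ≤ m ∧ Fintype.card ι = r ^ m ∧ Subgroup.center R = (scalars ι F).subgroupOf R ∧
      ((Odd r ∧ Nat.card (Subgroup.center R) = r ∧ Nat.card R = r ^ (1 + 2 * m)) ∨
       (r = 2 ∧ Nat.card (Subgroup.center R) = 4 ∧ Nat.card R = 2 ^ (2 + 2 * m)) ∨
       (r = 2 ∧ Nat.card (Subgroup.center R) = 2 ∧ Nat.card R = 2 ^ (1 + 2 * m))) ∧
      (∀ F₀ : Subfield F, F₀ ≠ ⊤ → ¬ RealisableOver F₀ (matrixSet R))) ∨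
    -- (C7)
    (∃ (m t : ℕ) (e : ι ≃ (Fin t → Fin m)) (P : GL ι F) (E : Fin t → Subgroup (GL ι F)),
      WreathData H m t e P E) ∨
    -- (S)
    (∃ P : Subgroup (GL ι F), IsResidualCore H P) := by
  rcases irreducible_fine2 hcard hf hirr hH with h | h | h | h | h | h | h | h
  · exact Or.inl h
  · exact Or.inr (Or.inl h)
  · exact Or.inr (Or.inr (Or.inl h))
  · exact Or.inr (Or.inr (Or.inr (Or.inl h)))
  · exact Or.inr (Or.inr (Or.inr (Or.inr (Or.inl h))))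
  · obtain ⟨r, m, R, h1, h2, h3, h4, h5, h6, h7, h8, h9, h10, h11, _⟩ := h
    exact Or.inr (Or.inr (Or.inr (Or.inr (Or.inr (Or.inl ⟨r, m, R, h1, h2, h3, h4, h5, h6, h7, h8, h9, h10, h11⟩)))))
  · exact Or.inr (Or.inr (Or.inr (Or.inr (Or.inr (Or.inr (Or.inl h))))))
  · exact Or.inr (Or.inr (Or.inr (Or.inr (Or.inr (Or.inr (Or.inr h))))))

end Cfsg.Agent.H924
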