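import Cfsg.Agent.H924.L34Tr

/-!
# `SL₃(4)` in dimension eight: the field is not too small (helper924)
-/

set_option autoImplicit false

namespace Cfsg.Agent.H924.L34

open Module Matrix Cfsg.Agent.H906.SL3Par Cfsg.Agent.H906.L34

section Act

variable {k : Type*} [Field k] {Λ : Type*} [Group Λ] {G : Type*} [Group G] {ρ : Λ →* M8 k} {π : Λ →* G}

/-- An element of order five fixes an invariant additive group of order `p⁴` containing `1`, `p ≡ ±2 mod 5`. -/
theorem fixes_of_five (h : PR ρ π) {p : ℕ} (hp : p.Prime) (hp5 : p % 5 = 2 ∨ p % 5 = 3) (Hs : AddSubgroup (M8 k))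
    [Finite Hs] (hcard : Nat.card Hs = p ^ 4) (h1 : (1 : M8 k) ∈ Hs) {x : G} (hx : x ^ 5 = 1)
    (hst : ∀ y ∈ Subgroup.zpowers x, ∀ A ∈ Hs, h.cj y A ∈ Hs) : ∀ A ∈ Hs, h.cj x A = A := by
  classical
  have f5 : Fact (Nat.Prime 5) := ⟨by norm_num⟩
  let act : MulAction (Subgroup.zpowers x) Hs :=
    { smul := fun y A => ⟨h.cj (y : G) (A : M8 k), hst y y.2 A A.2⟩
      one_smul := fun A => Subtype.ext (h.cj_one_apply _)
      mul_smul := fun y z A => Subtype.ext (h.cj_mul_apply _ _ _) }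
  have hsm : ∀ (y : Subgroup.zpowers x) (A : Hs), ((y • A : Hs) : M8 k) = h.cj (y : G) (A : M8 k) := fun _ _ => rfl
  have hpg : IsPGroup 5 (Subgroup.zpowers x) := by
    rintro ⟨y, hy⟩
    refine ⟨1, ?_⟩
    obtain ⟨n, rfl⟩ := Subgroup.mem_zpowers_iff.1 hy
    apply Subtype.ext
    change (x ^ n) ^ (5 ^ 1) = 1
    rw [pow_one, ← zpow_natCast, ← _root_.zpow_mul, mul_comm, _root_.zpow_mul, zpow_natCast, hx,
      _root_.one_zpow]
  have hmod := hpg.card_modEq_card_fixedPoints Hs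
  let Fi : AddSubgroup (M8 k) :=
    { carrier := {A | A ∈ Hs ∧ h.cj x A = A}
      add_mem' := fun {A B} hA hB => ⟨Hs.add_mem hA.1 hB.1, by rw [map_add, hA.2, hB.2]⟩
      zero_mem' := ⟨Hs.zero_mem, map_zero _⟩
      neg_mem' := fun {A} hA => ⟨Hs.neg_mem hA.1, by rw [map_neg, hA.2]⟩ }
  have hFi : ∀ A, A ∈ Fi ↔ A ∈ Hs ∧ h.cj x A = A := fun _ => Iff.rfl
  have hle : Fi ≤ Hs := fun A hA => hA.1
  have hzp : ∀ A : M8 k, h.cj x A = A → ∀ y ∈ Subgroup.zpowers x, h.cj y A = A := by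
    intro A hA y hy
    have h3 : x ∈ h.fixer (Submodule.span k {A}) := by
      intro B hB
      obtain ⟨c, rfl⟩ := Submodule.mem_span_singleton.1 hB
      rw [map_smul, hA]
    have h4 : Subgroup.zpowers x ≤ h.fixer (Submodule.span k {A}) := by
      rw [Subgroup.zpowers_le]
      exact h3
    exact h4 hy A (Submodule.mem_span_singleton_self A)
  have hcf : Nat.card (MulAction.fixedPoints (Subgroup.zpowers x) Hs) = Nat.card Fi := by
    refine Nat.card_congr ⟨fun A => ⟨(A : Hs), A.1.2, ?_⟩, fun A => ⟨⟨A, A.2.1⟩, ?_⟩, fun A => rfl, fun A => rfl⟩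
    · have h3 := A.2 (⟨x, Subgroup.mem_zpowers x⟩ : Subgroup.zpowers x)
      exact congrArg Subtype.val h3
    · intro y
      apply Subtype.ext
      exact hzp A A.2.2 y y.2
  rw [hcf, hcard] at hmod
  have hfinFi : Finite Fi := Finite.of_injective (AddSubgroup.inclusion hle) (AddSubgroup.inclusion_injective hle)
  have hdvd : Nat.card Fi ∣ p ^ 4 := by
    rw [← hcard]
    exact AddSubgroup.card_dvd_of_le hle
  obtain ⟨j, hj, hjc⟩ := (Nat.dvd_prime_pow hp).1 hdvd
  have hj4 : j = 4 := by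
    by_contra hj4
    have hj0 : j ≠ 0 := by
      rintro rfl
      rw [pow_zero] at hjc
      have hs : Subsingleton Fi := (Nat.card_eq_one_iff_unique.1 hjc).1
      have h3 : (⟨1, h1, h.cj_oneM x⟩ : Fi) = ⟨0, Fi.zero_mem⟩ := Subsingleton.elim _ _
      exact one_ne_zero (congrArg Subtype.val h3)
    rw [hjc] at hmod
    unfold Nat.ModEq at hmod
    have hj' : j = 1 ∨ j = 2 ∨ j = 3 := by omega
    rcases hp5 with h5 | h5 <;> rcases hj' with rfl | rfl | rfl <;>
      (rw [Nat.pow_mod, Nat.pow_mod p _, h5] at hmod; norm_num at hmod)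
  rw [hj4, ← hcard] at hjc
  have heq : Fi = Hs := AddSubgroup.eq_of_le_of_card_ge hle hjc.ge
  intro A hA
  rw [← heq] at hA
  exact hA.2

end Act

section Main

variable {k : Type*} [Field k] [Finite k] {Λ : Type*} [Group Λ] {K : Type*} [Field K] [Fintype K]
  {ρ : Λ →* M8 k} {π : Λ →* X K}

theorem emb_pow {A : SpecialLinearGroup (Fin 2) K} {n : ℕ} (h : A ^ n = 1) : emb K A ^ n = 1 := by
  rw [← map_pow, h, map_one]

/-- the transvection is a product of two elements of order five -/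
theorem exists_five (hK : Fintype.card K = 4) : ∃ A B : SpecialLinearGroup (Fin 2) K,
    A ^ 5 = 1 ∧ B ^ 5 = 1 ∧ emb K A * emb K B = uni 0 1 0 := by
  have k2 := two_eq_zero hK
  obtain ⟨w, hw0, hw1⟩ := exists_omega hK
  have hww := sq_eq hK hw0 hw1
  obtain ⟨A, hA⟩ : ∃ A : SpecialLinearGroup (Fin 2) K, A.1 = !![0, 1; 1, w] :=
    ⟨⟨!![0, 1; 1, w], by rw [Matrix.det_fin_two]; simp; linear_combination (-1) * k2⟩, rfl⟩
  obtain ⟨B, hB⟩ : ∃ B : SpecialLinearGroup (Fin 2) K, B.1 = !![w, w + 1; 1, 1] :=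
    ⟨⟨!![w, w + 1; 1, 1], by rw [Matrix.det_fin_two]; simp; linear_combination (-1) * k2⟩, rfl⟩
  refine ⟨A, B, ?_, ?_, ?_⟩
  · apply sl2_pow_five k2
    rw [hA]
    simp
    exact hww
  · apply sl2_pow_five k2
    rw [hB]
    simp
    linear_combination hww + w * k2
  · rw [← map_mul]
    apply Cfsg.Agent.H906.SL3Par.ext'
    intro i j
    have hAB : (A * B).1 = !![1, 1; 0, 1] := by
      change A.1 * B.1 = _
      rw [hA, hB, Matrix.mul_fin_two]
      ext i j
      fin_cases i <;> fin_cases j <;> simp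
      · linear_combination w * k2
      · linear_combination w * k2
    rw [emb_val, hAB]
    fin_cases i <;> fin_cases j <;> simp [uni]

omit [Finite k] in
/-- **The field is not too small.** -/
theorem no_small (h : PR ρ π) (h2 : (2 : k) ≠ 0) (hK : Fintype.card K = 4) {p : ℕ} (hp : p.Prime)
    (hp5 : p % 5 = 2 ∨ p % 5 = 3) (Hs : AddSubgroup (M8 k)) [Finite Hs] (hcard : Nat.card Hs = p ^ 4)
    (h1 : (1 : M8 k) ∈ Hs) (hgen : ∀ A ∈ h.Fx (Qb K), ∃ B ∈ Hs, ∃ C ∈ Hs, ∃ c : k, A = B + c • C)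
    (hst : ∀ y ∈ Pb K, ∀ A ∈ Hs, h.cj y A ∈ Hs) : False := by
  obtain ⟨A, B, hA, hB, hAB⟩ := exists_five hK
  have key : ∀ A : SpecialLinearGroup (Fin 2) K, A ^ 5 = 1 → ∀ Y ∈ Hs, h.cj (emb K A) Y = Y := by
    intro A hA
    apply fixes_of_five h hp hp5 Hs hcard h1 (emb_pow hA)
    intro y hy Y hY
    apply hst y _ Y hY
    have h3 : Subgroup.zpowers (emb K A) ≤ Pb K := by
      rw [Subgroup.zpowers_le]
      exact ⟨(emb_mem A).2.1, (emb_mem A).2.2⟩
    exact h3 hy
  apply not_fix h h2 hK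
  intro Y hY
  obtain ⟨Y1, h3, Y2, h4, c, rfl⟩ := hgen Y hY
  rw [← hAB, PR.cj_mul_apply, map_add, map_smul, key B hB Y1 h3, key B hB Y2 h4, map_add, map_smul,
    key A hA Y1 h3, key A hA Y2 h4]

/-- **The prime field is too small if `p ≡ ±2 mod 5`.** -/
theorem not_prime_field (h : PR ρ π) (h2 : (2 : k) ≠ 0) (hK : Fintype.card K = 4) {p : ℕ} (hp : p.Prime)
    (hp5 : p % 5 = 2 ∨ p % 5 = 3) : Nat.card k ≠ p := by
  intro hk
  have hfin : Finite (h.Fx (Qb K)).toAddSubgroup := Subtype.finite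
  refine no_small h h2 hK hp hp5 (h.Fx (Qb K)).toAddSubgroup ?_ (h.one_mem_Fx _) ?_ ?_
  · have h3 := Module.natCard_eq_pow_finrank (K := k) (V := h.Fx (Qb K))
    rw [finrank_Qb h h2 hK, hk] at h3
    exact h3
  · intro A hA
    exact ⟨A, hA, 0, Submodule.zero_mem _, 0, by rw [smul_zero, add_zero]⟩
  · intro y hy A hA
    exact h.cj_mem_Fx (Qb_normal y hy) hA

/-- **The unitary case over `p²` elements, `p ≡ ±2 mod 5`.** -/
theorem not_unitary (h : PR ρ π) (h2 : (2 : k) ≠ 0) (hK : Fintype.card K = 4) {p : ℕ} [hp : Fact p.Prime] [CharP k p]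
    (hp5 : p % 5 = 2 ∨ p % 5 = 3) (hk : Nat.card k = p ^ 2)
    (hU : ∀ g, ((ρ g).map (fun x => x ^ p))ᵀ = ρ g⁻¹) : False := by
  classical
  -- the involution
  have hkk : ∀ x : k, (x ^ p) ^ p = x := by
    intro x
    have := Fintype.ofFinite k
    rw [← pow_mul, ← pow_two, ← hk, Nat.card_eq_fintype_card, FiniteField.pow_card]
  let st : M8 k → M8 k := fun A => (A.map (frobenius k p))ᵀ
  have st_mul : ∀ A B, st (A * B) = st B * st A := by
    intro A B
    change ((A * B).map (frobenius k p))ᵀ = (B.map (frobenius k p))ᵀ * (A.map (frobenius k p))ᵀ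
    rw [Matrix.map_mul, Matrix.transpose_mul]
  have st_add : ∀ A B, st (A + B) = st A + st B := by
    intro A B
    ext i j
    simp [st]
  have st_smul : ∀ (c : k) (A : M8 k), st (c • A) = c ^ p • st A := by
    intro c A
    ext i j
    simp [st, frobenius_def, mul_pow]
  have st_st : ∀ A, st (st A) = A := by
    intro A
    ext i j
    simp [st, frobenius_def, hkk]
  have st_one : st 1 = 1 := by
    ext i j
    by_cases hij : i = j
    · subst hij; simp [st]
    · simp [st, hij, Ne.symm hij]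
  have st_rho : ∀ g, st (ρ g) = ρ g⁻¹ := by
    intro g
    rw [← hU g]
    rfl
  have st_cj : ∀ x A, st (h.cj x A) = h.cj x (st A) := by
    intro x A
    obtain ⟨g, rfl⟩ := h.surj x
    rw [PR.cj_apply, PR.cj_apply, st_mul, st_mul, st_rho, st_rho, inv_inv, mul_assoc]
  have st_zero : st 0 = 0 := by
    ext i j
    simp [st, frobenius_def, hp.out.ne_zero]
  have st_neg : ∀ A, st (-A) = -st A := by
    intro A
    ext i j
    simp [st]
  have st_C : ∀ A ∈ h.Fx (Qb K), st A ∈ h.Fx (Qb K) := by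
    intro A hA a ha
    rw [← st_cj, hA a ha]
  let Hs : AddSubgroup (M8 k) :=
    { carrier := {A | A ∈ h.Fx (Qb K) ∧ st A = A}
      add_mem' := fun {A B} hA hB => ⟨(h.Fx (Qb K)).add_mem hA.1 hB.1, by rw [st_add, hA.2, hB.2]⟩
      zero_mem' := ⟨Submodule.zero_mem _, st_zero⟩
      neg_mem' := fun {A} hA => ⟨(h.Fx (Qb K)).neg_mem hA.1, by rw [st_neg, hA.2]⟩ }
  have hHs : ∀ A, A ∈ Hs ↔ A ∈ h.Fx (Qb K) ∧ st A = A := fun _ => Iff.rfl
  -- the skew scalar
  obtain ⟨l, hl0, hl⟩ : ∃ l : k, l ≠ 0 ∧ l ^ p = -l := by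
    by_contra hcon
    push Not at hcon
    have hall : ∀ x : k, x ^ p = x := by
      intro x
      by_contra hx
      apply hcon (x - x ^ p) (fun h0 => hx (sub_eq_zero.1 h0).symm)
      rw [sub_pow_char, hkk]
      ring
    have hle : Nat.card k ≤ p := by
      have := Fintype.ofFinite k
      have hlt : 1 < p := hp.out.one_lt
      have h3 : (Polynomial.X ^ p - Polynomial.X : Polynomial k) ≠ 0 := FiniteField.X_pow_card_sub_X_ne_zero k hlt
      have h4 : (Finset.univ : Finset k).val ≤ (Polynomial.X ^ p - Polynomial.X : Polynomial k).roots := by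
        rw [Finset.val_le_iff_val_subset]
        intro x _
        rw [Polynomial.mem_roots h3]
        simp [hall x]
      have h5 := Multiset.card_le_card h4
      rw [Nat.card_eq_fintype_card]
      exact h5.trans ((Polynomial.card_roots' _).trans (FiniteField.X_pow_card_sub_X_natDegree_eq k hlt).le)
    rw [hk] at hle
    have := hp.out.one_lt
    nlinarith
  have h22 : (2 : k) ^ p = 2 := by
    have := map_ofNat (frobenius k p) 2
    rwa [frobenius_def] at this
  -- decomposition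
  have hdec : ∀ A ∈ h.Fx (Qb K), ((2 : k)⁻¹ • (A + st A)) ∈ Hs ∧ ((2 * l)⁻¹ • (A - st A)) ∈ Hs ∧
      A = (2 : k)⁻¹ • (A + st A) + l • ((2 * l)⁻¹ • (A - st A)) := by
    intro A hA
    refine ⟨⟨Submodule.smul_mem _ _ (Submodule.add_mem _ hA (st_C A hA)), ?_⟩,
      ⟨Submodule.smul_mem _ _ (Submodule.sub_mem _ hA (st_C A hA)), ?_⟩, ?_⟩
    · rw [st_smul, st_add, st_st, inv_pow, h22, add_comm]
    · rw [st_smul, sub_eq_add_neg, st_add, st_neg, st_st, inv_pow, mul_pow, h22, hl, mul_neg, inv_neg, neg_smul,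
        ← smul_neg, neg_add_rev, neg_neg]
    · rw [smul_smul, mul_inv, mul_comm (2 : k)⁻¹ l⁻¹, ← mul_assoc, mul_inv_cancel₀ hl0, one_mul, ← smul_add,
        add_add_sub_cancel, ← two_smul k A, smul_smul, inv_mul_cancel₀ h2, one_smul]
  have hfin : Finite Hs := Subtype.finite
  have hcardHs : Nat.card Hs = p ^ 4 := by
    have e : (Hs × Hs) ≃ h.Fx (Qb K) :=
      { toFun := fun AB => ⟨(AB.1 : M8 k) + l • (AB.2 : M8 k), Submodule.add_mem _ AB.1.2.1 (Submodule.smul_mem _ _ AB.2.2.1)⟩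
        invFun := fun A => (⟨_, (hdec A A.2).1⟩, ⟨_, (hdec A A.2).2.1⟩)
        left_inv := by
          rintro ⟨⟨B, hB1, hB2⟩, ⟨C, hC1, hC2⟩⟩
          have h3 : st (B + l • C) = B - l • C := by
            rw [st_add, st_smul, hB2, hC2, hl, neg_smul, ← sub_eq_add_neg]
          refine Prod.ext (Subtype.ext ?_) (Subtype.ext ?_)
          · change (2 : k)⁻¹ • ((B + l • C) + st (B + l • C)) = B
            rw [h3, add_add_sub_cancel, ← two_smul k B, smul_smul, inv_mul_cancel₀ h2, one_smul]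
          · change (2 * l)⁻¹ • ((B + l • C) - st (B + l • C)) = C
            rw [h3, add_sub_sub_cancel, ← two_smul k (l • C), smul_smul, smul_smul, mul_assoc,
              inv_mul_cancel₀ (mul_ne_zero h2 hl0), one_smul]
        right_inv := by
          intro A
          apply Subtype.ext
          exact (hdec A A.2).2.2.symm }
    have h3 := Nat.card_congr e
    rw [Nat.card_prod, Module.natCard_eq_pow_finrank (K := k) (V := h.Fx (Qb K)), finrank_Qb h h2 hK, hk] at h3
    have h4 : Nat.card Hs * Nat.card Hs = p ^ 4 * p ^ 4 := by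
      rw [h3]; ring
    exact Nat.mul_self_inj.1 h4
  refine no_small h h2 hK hp.out hp5 Hs hcardHs ⟨h.one_mem_Fx _, st_one⟩ ?_ ?_
  · intro A hA
    obtain ⟨h3, h4, h5⟩ := hdec A hA
    exact ⟨_, h3, _, h4, l, h5⟩
  · intro y hy A hA
    exact ⟨h.cj_mem_Fx (Qb_normal y hy) hA.1, by rw [st_cj, hA.2]⟩

end Main

end Cfsg.Agent.H924.L34
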