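import Cfsg.Agent.H924.L34Glue
import Cfsg.Agent.H924.L34Small
import Cfsg.Agent.H915.LD
import Cfsg.Agent.ClassicalGeometry.GUBasic
import Cfsg.Agent.S2088

/-!
# Cores with simple quotient `PSL₃(4)` in dimension eight, odd characteristic (helper924)

* `L34.fr` : `Fr P p` if `p = 5` or `p ≡ 1, 9 mod 20`;
* `L34.cj` : `Cj P p` if `p ≡ 11, 19 mod 20`;
* `L34.fr_sq` : `Fr P (p²)` if `p ≡ 3, 7, 13, 17 mod 20`;
* `L34.card_ne`, `L34.not_GU` : then `|F| ≠ p`, and `P` is not in `GU₈(p)`;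
* `L34.linear`, `L34.unitary` : the field and the congruences.
-/

set_option autoImplicit false

namespace Cfsg.Agent.H924.L34

open Cfsg Cfsg.Geo Module Matrix Cfsg.Agent.H906.SL3Par Cfsg.Agent.H906.L34 Cfsg.Agent.H915.LD

section Wrap

variable {F : Type*} [Field F] {P : Subgroup (GL (Fin 8) F)} {K : Type*} [Field K]

/-- pairs of an element of `P` and a lift to `SL₃(K)` of its image -/
def Lam (P : Subgroup (GL (Fin 8) F)) (e : Soc P ≃* Matrix.ProjectiveSpecialLinearGroup (Fin 3) K) :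
    Subgroup (P × X K) :=
  ((e.toMonoidHom.comp (toSoc P)).comp (MonoidHom.fst P (X K))).eqLocus ((pj K).comp (MonoidHom.snd P (X K)))

variable (e : Soc P ≃* Matrix.ProjectiveSpecialLinearGroup (Fin 3) K)

theorem mem_Lam {x : P × X K} : x ∈ Lam P e ↔ e (toSoc P x.1) = pj K x.2 := Iff.rfl

/-- the matrix -/
def rho : Lam P e →* M8 F :=
  (Units.coeHom (M8 F)).comp (P.subtype.comp ((MonoidHom.fst P (X K)).comp (Lam P e).subtype))

/-- the element of `SL₃(K)` -/
def pii : Lam P e →* X K := (MonoidHom.snd P (X K)).comp (Lam P e).subtype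

theorem rho_apply (x : Lam P e) : rho e x = (((x : P × X K).1 : GL (Fin 8) F) : M8 F) := rfl

theorem pii_apply (x : Lam P e) : pii e x = (x : P × X K).2 := rfl

theorem exists_lift (g : P) : ∃ x : Lam P e, (x : P × X K).1 = g := by
  obtain ⟨y, hy⟩ := QuotientGroup.mk'_surjective _ (e (toSoc P g))
  exact ⟨⟨(g, y), (mem_Lam e).2 hy.symm⟩, rfl⟩

theorem pr_rho (hC : Core P) : PR (rho e) (pii e) where
  surj := by
    intro y
    obtain ⟨g, hg⟩ := toSoc_surjective P (e.symm (pj K y))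
    exact ⟨⟨(g, y), (mem_Lam e).2 (by rw [hg, MulEquiv.apply_symm_apply])⟩, rfl⟩
  scal := by
    intro x hx
    have h1 := (mem_Lam e).1 x.2
    rw [← pii_apply, hx, map_one] at h1
    have h2 : toSoc P (x : P × X K).1 = 1 := by
      apply e.injective
      rw [h1, map_one]
    have h3 : (x : P × X K).1 ∈ (toSoc P).ker := h2
    rw [ker_toSoc, Subgroup.mem_subgroupOf, mem_scalars_iff] at h3
    obtain ⟨c, hc⟩ := h3
    exact ⟨c, hc⟩
  cent := by
    intro x hx
    have h3 : (x : P × X K).1 ∈ (toSoc P).ker := by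
      rw [ker_toSoc, Subgroup.mem_subgroupOf, mem_scalars_iff]
      obtain ⟨c, hc⟩ := hx
      have hc0 : c ≠ 0 := by
        rintro rfl
        rw [zero_smul] at hc
        have h1 := mul_inv' (rho e) x
        rw [hc, zero_mul] at h1
        exact zero_ne_one h1
      exact ⟨Units.mk0 c hc0, hc⟩
    have h1 := (mem_Lam e).1 x.2
    rw [show toSoc P (x : P × X K).1 = 1 from h3, map_one] at h1
    exact (QuotientGroup.eq_one_iff _).1 h1.symm
  span := by
    rw [eq_top_iff, ← H920.span_eq_top hC.absIrred]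
    apply Submodule.span_mono
    rintro _ ⟨g, hg, rfl⟩
    obtain ⟨x, hx⟩ := exists_lift e ⟨g, hg⟩
    exact ⟨x, by rw [rho_apply, hx]⟩

theorem scalar_four [Fintype K] (hK : Fintype.card K = 4) (hC : Core P) (x : Lam P e) (hx : pii e x = 1) :
    ∃ c : F, c ^ 4 = 1 ∧ rho e x = c • (1 : M8 F) := by
  obtain ⟨c, hc⟩ := (pr_rho e hC).scal x hx
  refine ⟨c, ?_, hc⟩
  have h8 : c ^ 8 = 1 := by
    have := hC.scalar_pow (x : P × X K).1.2 hc
    rwa [Fintype.card_fin] at this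
  have h3 : (x : P × X K).1 ∈ (e.toMonoidHom.comp (toSoc P)).ker := by
    have h1 := (mem_Lam e).1 x.2
    rw [← pii_apply, hx, map_one] at h1
    exact h1
  obtain ⟨f, hf⟩ := H95.StemCover.exists_surj_ker (S2088.result hK) hC.commutator_top
    (e.toMonoidHom.comp (toSoc P)) (e.surjective.comp (toSoc_surjective P)) (by
      rw [ker_comp e]
      exact scalars_le_center)
  obtain ⟨a, ha⟩ := hf ⟨_, h3⟩
  have ha12 : a ^ 12 = 1 := by
    apply Multiplicative.toAdd.injective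
    change 12 • (Multiplicative.toAdd a) = 0
    generalize Multiplicative.toAdd a = b
    obtain ⟨b1, b2, b3⟩ := b
    revert b1 b2 b3
    decide
  have h4 : ((x : P × X K).1) ^ 12 = 1 := by
    have h5 : (⟨_, h3⟩ : (e.toMonoidHom.comp (toSoc P)).ker) ^ 12 = 1 := by
      rw [← ha, ← map_pow, ha12, map_one]
    exact congrArg Subtype.val h5
  have h5 : rho e x ^ 12 = 1 := by
    rw [rho_apply, ← Units.val_pow_eq_pow_val, ← Subgroup.coe_pow, h4]
    rfl
  rw [hc, smul_pow, one_pow] at h5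
  have h6 : c ^ 12 = 1 := by
    apply smul_one_inj
    rw [h5, one_smul]
  calc c ^ 4 = c ^ 4 * c ^ 8 := by rw [h8, mul_one]
    _ = c ^ 12 := by ring
    _ = 1 := h6

theorem two_ne_zero' (p : ℕ) [hp : Fact p.Prime] [CharP F p] (hp2 : p ≠ 2) : (2 : F) ≠ 0 := by
  intro h
  have h1 : ((2 : ℕ) : F) = 0 := by exact_mod_cast h
  rw [CharP.cast_eq_zero_iff F p] at h1
  exact hp2 ((Nat.prime_dvd_prime_iff_eq hp.out Nat.prime_two).1 h1)

section fin

variable [Finite F] [Fintype K] (hK : Fintype.card K = 4) (hC : Core P) (p : ℕ) [hp : Fact p.Prime] [CharP F p]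

include hK hC e

theorem fr_pow (hp2 : p ≠ 2) (m : ℕ) (hQ : p ^ m % 5 = 0 ∨ p ^ m % 5 = 1 ∨ p ^ m % 5 = 4) (hQ4 : p ^ m % 4 = 1) :
    Fr P (p ^ m) := by
  intro g hg
  obtain ⟨x, hx⟩ := exists_lift e ⟨g, hg⟩
  have h1 := fr_all (pr_rho e hC) (two_ne_zero' p hp2) hK p m hQ hQ4 (scalar_four e hK hC) x
  rw [rho_apply, hx] at h1
  exact h1

theorem fr (hp20 : p = 5 ∨ p % 20 = 1 ∨ p % 20 = 9) : Fr P p := by
  have h1 := fr_pow e hK hC p (by
    rintro rfl
    omega) 1 (by rw [pow_one]; omega) (by rw [pow_one]; omega)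
  rwa [pow_one] at h1

theorem cj (hp20 : p % 20 = 11 ∨ p % 20 = 19) : Cj P p := by
  intro g hg
  obtain ⟨x, hx⟩ := exists_lift e ⟨g, hg⟩
  have h1 := cj_all (pr_rho e hC) (two_ne_zero' p (by rintro rfl; omega)) hK p 1 (by rw [pow_one]; omega)
    (by rw [pow_one]; omega) (scalar_four e hK hC) x
  rw [pow_one, rho_apply, hx] at h1
  have h2 : rho e x⁻¹ = ((g⁻¹ : GL (Fin 8) F) : M8 F) := by
    rw [rho_apply, Subgroup.coe_inv, Prod.fst_inv, hx]
    rfl
  rw [h2] at h1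
  exact h1

theorem fr_sq (hp20 : p % 20 = 3 ∨ p % 20 = 7 ∨ p % 20 = 13 ∨ p % 20 = 17) : Fr P (p ^ 2) := by
  have h1 : p ^ 2 % 20 = 9 := by
    rw [Nat.pow_mod]
    rcases hp20 with h | h | h | h <;> rw [h]
  exact fr_pow e hK hC p (by rintro rfl; omega) 2 (by omega) (by omega)

theorem card_ne (hp20 : p % 20 = 3 ∨ p % 20 = 7 ∨ p % 20 = 13 ∨ p % 20 = 17) : Nat.card F ≠ p :=
  not_prime_field (pr_rho e hC) (two_ne_zero' p (by rintro rfl; omega)) hK hp.out (by omega)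

theorem not_GU (hp20 : p % 20 = 3 ∨ p % 20 = 7 ∨ p % 20 = 13 ∨ p % 20 = 17) (hF : Nat.card F = p ^ 2)
    (hU : P ≤ Cfsg.GU 8 F p) : False := by
  apply not_unitary (pr_rho e hC) (two_ne_zero' p (by rintro rfl; omega)) hK (p := p) (by omega) hF
  intro x
  have h1 := Cfsg.Agent.ClassicalGeometry.GUBasic.transpose_mul_map hp.out.ne_zero
    ((Cfsg.Agent.ClassicalGeometry.GUBasic.mem_GU_iff _).1 (hU (x : P × X K).1.2))
  have h2 : ((rho e x).map (fun x => x ^ p))ᵀ * rho e x = 1 := by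
    have h3 := congrArg Matrix.transpose h1
    rw [Matrix.transpose_mul, Matrix.transpose_transpose, Matrix.transpose_one] at h3
    exact h3
  calc ((rho e x).map (fun x => x ^ p))ᵀ = ((rho e x).map (fun x => x ^ p))ᵀ * (rho e x * rho e x⁻¹) := by
        rw [mul_inv', mul_one]
    _ = rho e x⁻¹ := by rw [← mul_assoc, h2, one_mul]

end fin

section final

variable [Fintype F] [Fintype K] (hK : Fintype.card K = 4) (hC : Core P) (p : ℕ) [hp : Fact p.Prime] [CharP F p]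

include hK hC e

theorem card_sq (hp20 : p % 20 = 3 ∨ p % 20 = 7 ∨ p % 20 = 13 ∨ p % 20 = 17) : Fintype.card F = p ^ 2 := by
  have h1 := hC.card_le p two_ne_zero (fr_sq e hK hC p hp20)
  have h2 := card_ne e hK hC p hp20
  rw [Nat.card_eq_fintype_card] at h2
  obtain ⟨n, -, hn⟩ := FiniteField.card F p
  rw [hn] at h1 h2 ⊢
  have h3 : (n : ℕ) ≤ 2 := (Nat.pow_le_pow_iff_right hp.out.one_lt).1 h1
  have h4 : (n : ℕ) ≠ 1 := by
    intro h0
    rw [h0, pow_one] at h2
    exact h2 rfl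
  have h5 := n.pos
  have h6 : (n : ℕ) = 2 := by omega
  rw [h6]

theorem mod_cases (hp2 : p ≠ 2) : (p = 5 ∨ p % 20 = 1 ∨ p % 20 = 9) ∨ (p % 20 = 11 ∨ p % 20 = 19) ∨
    (p % 20 = 3 ∨ p % 20 = 7 ∨ p % 20 = 13 ∨ p % 20 = 17) := by
  have h2 : p % 2 = 1 := by
    rcases hp.out.eq_two_or_odd with h | h
    · exact absurd h hp2
    · exact h
  have h5 : p % 5 = 0 → p = 5 := by
    intro h
    exact ((Nat.prime_dvd_prime_iff_eq (by norm_num) hp.out).1 (Nat.dvd_of_mod_eq_zero h)).symm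
  by_cases h : p = 5
  · exact Or.inl (Or.inl h)
  · have h6 : p % 5 ≠ 0 := fun h0 => h (h5 h0)
    omega

/-- **Linear case.** -/
theorem linear (hp2 : p ≠ 2) (hcj : ¬ Cj P p) :
    (Fintype.card F = p ∧ (p = 5 ∨ p % 20 = 1 ∨ p % 20 = 9)) ∨
      (Fintype.card F = p ^ 2 ∧ (p % 20 = 3 ∨ p % 20 = 7 ∨ p % 20 = 13 ∨ p % 20 = 17)) := by
  rcases mod_cases e hK hC p hp2 with h | h | h
  · exact Or.inl ⟨hC.card_eq p (fr e hK hC p h), h⟩
  · exact absurd (cj e hK hC p h) hcj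
  · exact Or.inr ⟨card_sq e hK hC p h, h⟩

/-- **Unitary case.** -/
theorem unitary {q : ℕ} (hF : Fintype.card F = q ^ 2) (hU : P ≤ Cfsg.GU 8 F q) (hp2 : p ≠ 2) :
    q = p ∧ (p % 20 = 11 ∨ p % 20 = 19) := by
  rcases mod_cases e hK hC p hp2 with h | h | h
  · exact absurd (fr e hK hC p h) (not_fr_of_card hC p hF)
  · exact ⟨q_eq_of_cj hC p hF (cj e hK hC p h), h⟩
  · exfalso
    have h1 := q_eq_of_fr hC p hF (fr_sq e hK hC p h)
    subst h1
    exact not_GU e hK hC q h (by rw [Nat.card_eq_fintype_card, hF]) hU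

end final

end Wrap

end Cfsg.Agent.H924.L34
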