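import Cfsg.Agent.H924.D5E

/-!
# Type `B3`: simple modules of dimension at most 12 (helper924)

`ρ` simple in characteristic `p`, `dim V ≤ 12`, not trivial.

* `not_node1` : the type is not `J^c = {1}`;
* `node2` : if `J^c = {2}` then `dim V = 8`, `V` is the sum of the eight vertices, faces are sums of vertices;
* **`cases`** : `J^c = {0}` or (`J^c = {2}` and `dim V = 8`).
-/

set_option autoImplicit false
set_option linter.unusedSectionVars false
set_option linter.style.haveILetI false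

namespace Cfsg.Agent.H924.D5.B

open CoxeterSystem Cfsg.Agent.ChevalleyStructure.CoxeterGeom Cfsg.Agent.Tits.Roots Cfsg.Agent.Tits.Core
  Cfsg.Agent.Tits.Exchange Cfsg.Agent.Nodes.Reps Cfsg.Agent.Nodes.BNOf Cfsg.Agent.Nodes.StabComb
  Cfsg.Agent.Nodes.Bruhat Cfsg.Agent.Nodes.OppDec Cfsg.Agent.Nodes.LeviDec Cfsg.Agent.KFacts.RgdOpp
  Cfsg.Agent.Omega.CR Cfsg.Agent.Omega.FOne.Lift.Sd Cfsg.Agent.H905.Md Cfsg.Agent.H905
open scoped commutatorElement

variable {W Y : Type*} [Group W] [Group Y] {cs : CoxeterSystem (CoxeterMatrix.B 3) W} {A : Fin 3 → Fin 3 → ℤ}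
  {h : IsCartan (CoxeterMatrix.B 3) A} {p : ℕ} {T : Subgroup Y} {n : Fin 3 → Y}
  {X : (Fin 3 → ℤ) → Subgroup Y} {k V : Type*} [Field k] [AddCommGroup V] [Module k V]

variable (R : RGD cs h p T n X) [Finite Y] [Finite W] [Fact p.Prime] [CharP k p]
  {ρ : Y →* Module.End k V} [FiniteDimensional k V]
  (hirr : ∀ L : Submodule k V, Ivt ρ (GG cs h T X) L → L = ⊥ ∨ L = ⊤)
include R hirr

theorem D_pos [Nontrivial V] : 0 < Module.finrank k (D cs h X ρ) := by
  have h1 : D cs h X ρ ≠ ⊥ := (simp_fx R ρ hirr).ne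
  exact Module.finrank_pos_iff.2 ((Submodule.nontrivial_iff_ne_bot).2 h1)

theorem not_node1 [Nontrivial V] (hJ : ∀ j, j ∉ Jx cs h X ρ ↔ j = 1) : 12 < Module.finrank k V := by
  by_contra hV
  push Not at hV
  have hi : (1 : Fin 3) ∉ Jx cs h X ρ := (hJ 1).2 rfl
  have h1 := length_le_edges R hirr hi l1 (nl1 h) e1 (ne1 h) (pe1 h)
  have h2 := Kv_bound R hirr [1] (by simpa using hi) l1 (by
    have := nl1 h
    rw [show (fun ω => List.map (fun i => lbw A i ω) [(1 : Fin 3)]) = (fun x => [x]) ∘ lbw A 1 from rfl,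
      ← List.map_map]
    exact this.map fun a b hab => by simpa using hab)
  have hD := D_pos R hirr
  have hl1 : l1.length = 12 := rfl
  have he1 : e1.length = 24 := rfl
  rw [hl1, he1] at h1
  rw [hl1] at h2
  have hd : Module.finrank k (D cs h X ρ) = 1 := by omega
  have hIo : Module.finrank k (Io cs h T X ρ 1) = 0 := by omega
  have hKv : Module.finrank k (Kv cs h R.nsys X ρ) = 0 := by omega
  have hK : Kv cs h R.nsys X ρ = ⊥ := Submodule.finrank_eq_zero.1 hKv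
  have hLe : Module.finrank k (Le cs h T X ρ {1}) ≤ 2 * Module.finrank k (D cs h X ρ) := by
    have := finrank_Io R hirr 1
    omega
  obtain ⟨f1, f2, f3, f4, f5, f6, f7, f8⟩ := lab1 h
  -- the non-commuting elements
  have hA01 : A 1 0 = -1 := by
    rcases cartan_B3 h with rfl | rfl <;> rfl
  obtain ⟨y, hy, x, hx, hne⟩ := exists_comm_ne R (i := 0) (j := 1) (by decide) hA01
  set β : Fin 3 → ℤ := rww A [0] (Pi.single 1 1) with hβ
  have hβr : IsRoot cs h β := isRoot_word [0] 1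
  have hr0 : IsRoot cs h (Pi.single 0 1 : Fin 3 → ℤ) := isRoot_sr cs h 0
  have hr1 : IsRoot cs h (Pi.single 1 1 : Fin 3 → ℤ) := isRoot_sr cs h 1
  have hz : ⁅y, x⁆ ∈ X β := by
    have h3 := R.comm (sr 0) (sr 1) (isRoot_sr cs h 0) (isRoot_sr cs h 1) (by decide) (by decide) y hy x hx
    have h4 : btw cs h X (sr 0) (sr 1) ≤ X β := by
      unfold Nodes.Reps.btw
      refine iSup_le ?_
      rintro ⟨z, hz, m, c, d, hm, hc, hd, he⟩
      have e0 := congrFun he 0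
      have e1 := congrFun he 1
      have e2 := congrFun he 2
      simp only [Pi.smul_apply, Pi.add_apply, smul_eq_mul, sr, Pi.single_apply] at e0 e1 e2
      norm_num at e0 e1 e2
      have g0 : 0 < z 0 := by
        by_contra hcon
        have : m * z 0 ≤ 0 := mul_nonpos_of_nonneg_of_nonpos hm.le (not_lt.1 hcon)
        linarith
      have g1 : 0 < z 1 := by
        by_contra hcon
        have : m * z 1 ≤ 0 := mul_nonpos_of_nonneg_of_nonpos hm.le (not_lt.1 hcon)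
        linarith
      have g2 : z 2 = 0 := (mul_eq_zero.1 e2).resolve_left hm.ne'
      have hzβ : z = β := by
        obtain ⟨q, hq, e⟩ := mem_rl h hz
        rw [e] at g0 g1 g2 ⊢
        exact btw01 h q hq g0 g1 g2
      exact (congrArg X hzβ).le
    exact h4 h3
  -- the vertices
  set wa := cs.wordProd [1, 2, 0, 1, 0] with hwa
  set w1 := cs.wordProd [2, 0, 1, 0] with hw1
  obtain ⟨ga, hga⟩ := exists_rp cs R.nsys wa
  obtain ⟨g1, hg1⟩ := exists_rp cs R.nsys w1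
  have hla : lb cs h 1 wa = lbw A 1 [1, 2, 0, 1, 0] := lb_wordProd _ _
  have hl1' : lb cs h 1 w1 = lbw A 1 [2, 0, 1, 0] := lb_wordProd _ _
  obtain ⟨c₀, hc₀, hc₀0⟩ := (Submodule.ne_bot_iff _).1 (simp_fx R ρ hirr).ne
  set c := ρ ga c₀ with hc
  have hcm : c ∈ (D cs h X ρ).map (ρ ga) := ⟨c₀, hc₀, rfl⟩
  have hyc : ρ y c = c := fixv R hirr hJ hga hr0 (by rw [hla]; exact f4) hy hcm
  set u := ρ x c - c with hu
  have hum : u ∈ (D cs h X ρ).map (ρ g1) := by
    refine mem_vertex R hirr hJ hK hg1 fun w' g' hg' hne' φ hφ => ?_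
    rw [hu, map_sub, sub_eq_zero]
    obtain ⟨ω, hω, hωe⟩ := orbit_of_closed (cs := cs) (h := h) 1 l1 ⟨[], by decide, rfl⟩ (cl1 h) w'
    rcases lab1' h ω hω with h3 | h3 | ⟨ω', -, h4, h5, h6, h7⟩
    · exact fixd_apply R hirr hJ hg' hr1 (by rw [hωe]; exact h3) hx hφ c
    · exact absurd (by rw [hωe, h3, hl1']) hne'
    · obtain ⟨g'', hg''⟩ := exists_rp cs R.nsys (cs.wordProd (ω' ++ [1]))
      rw [edged_apply R hirr hJ hLe hg' hg'' hga ω' (by rw [hωe, h4]) (lb_wordProd _ _) hr1 h5 hx hφ hcm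
        (by rw [hωe, h4, hla]; exact h6) (by rw [lb_wordProd, hla]; exact h7),
        pair_zero R hirr hJ hg' hga (by rw [hωe, h4, hla]; exact h6) hφ hcm]
  have hzu : ρ ⁅y, x⁆ u = u := fixv R hirr hJ hg1 hβr (by rw [hl1']; exact f5) hz hum
  -- `z (x c) = y (x c)`
  have hkey : ρ ⁅y, x⁆ (ρ x c) = ρ y (ρ x c) := by
    have e : y * x = ⁅y, x⁆ * (x * y) := by rw [commutatorElement_def]; group
    conv_rhs => rw [← rho_mul, e, rho_mul, rho_mul, hyc]
  have hxc : ρ x c = c + u := by rw [hu]; abel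
  have hkey2 : ρ ⁅y, x⁆ c - c = ρ y u - u := by
    rw [hxc, map_add, map_add, hzu, hyc] at hkey
    rw [sub_eq_sub_iff_add_eq_add, hkey]
    abel
  obtain ⟨ga', hga'⟩ := exists_rp cs R.nsys (cs.wordProd [1, 2, 0, 1, 0, 1])
  obtain ⟨g1', hg1'⟩ := exists_rp cs R.nsys (cs.wordProd [2, 0, 1, 0, 1])
  have hm1 : ρ ⁅y, x⁆ c - c ∈ (D cs h X ρ).map (ρ ga) ⊔ (D cs h X ρ).map (ρ ga') := by
    refine Submodule.sub_mem _ ?_ (Submodule.mem_sup_left hcm)
    exact edgev R hirr hJ hLe hga hga' [1, 2, 0, 1, 0] hla (lb_wordProd _ _) hβr f2 hz hcm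
  have hm2 : ρ ⁅y, x⁆ c - c ∈ (D cs h X ρ).map (ρ g1) ⊔ (D cs h X ρ).map (ρ g1') := by
    rw [hkey2]
    refine Submodule.sub_mem _ ?_ (Submodule.mem_sup_left hum)
    exact edgev R hirr hJ hLe hg1 hg1' [2, 0, 1, 0] hl1' (lb_wordProd _ _) hr0 f3 hy hum
  have h0 : ρ ⁅y, x⁆ c - c = 0 := by
    refine eq_zero_of_vertices R hirr hK fun w g hg φ hφ => ?_
    have key : ∀ {wx wy : W} {gx gy : Y}, Rp cs R.nsys wx gx → Rp cs R.nsys wy gy → lb cs h 1 w ≠ lb cs h 1 wx →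
        lb cs h 1 w ≠ lb cs h 1 wy → ∀ v ∈ (D cs h X ρ).map (ρ gx) ⊔ (D cs h X ρ).map (ρ gy), φ v = 0 := by
      intro wx wy gx gy hgx hgy hx' hy' v hv
      obtain ⟨a, ha, b, hb, rfl⟩ := Submodule.mem_sup.1 hv
      rw [map_add, pair_zero R hirr hJ hg hgx hx' hφ ha, pair_zero R hirr hJ hg hgy hy' hφ hb, add_zero]
    by_cases e1 : lb cs h 1 w = lb cs h 1 wa
    · refine key hg1 hg1' ?_ ?_ _ hm2
      · rw [e1, hla, hl1']; exact f1
      · rw [e1, hla, lb_wordProd]; exact f6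
    · by_cases e2 : lb cs h 1 w = lb cs h 1 (cs.wordProd [1, 2, 0, 1, 0, 1])
      · refine key hg1 hg1' ?_ ?_ _ hm2
        · rw [e2, lb_wordProd, hl1']; exact f7
        · rw [e2, lb_wordProd, lb_wordProd]; exact f8
      · exact key hga hga' e1 e2 _ hm1
  -- the contradiction
  rw [sub_eq_zero] at h0
  have h5 : ρ (ga⁻¹ * ⁅y, x⁆ * ga) c₀ = c₀ := by
    have e : ga⁻¹ * ⁅y, x⁆ * ga = ga⁻¹ * (⁅y, x⁆ * ga) := by group
    rw [e, rho_mul, rho_mul]
    rw [hc] at h0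
    rw [h0, rho_inv_rho]
  have h6 := R.conj_mem' hga hβr hz
  have h7 : rep cs h wa⁻¹ β = -sr 1 := by
    have h8 : rep cs h wa (sr 1) = -β := by rw [hwa, rep_wordProd]; exact f2
    have h9 : β = rep cs h wa (-sr 1) := by rw [map_neg, h8, neg_neg]
    rw [h9, rep_inv_apply]
  rw [h7] at h6
  refine hi (mem_Jx_of_fix R hirr h6 ?_ hc₀ hc₀0 h5)
  intro h8
  apply hne
  have h9 : ⁅y, x⁆ = ga * (ga⁻¹ * ⁅y, x⁆ * ga) * ga⁻¹ := by group
  rw [h9, h8]
  group

/-- the edges at node `2` are two dimensional -/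
theorem node2_edge [Nontrivial V] (hJ : ∀ j, j ∉ Jx cs h X ρ ↔ j = 2) (hV : Module.finrank k V ≤ 12) :
    Module.finrank k (D cs h X ρ) = 1 ∧
      Module.finrank k (Le cs h T X ρ {2}) ≤ 2 * Module.finrank k (D cs h X ρ) := by
  have hi : (2 : Fin 3) ∉ Jx cs h X ρ := (hJ 2).2 rfl
  have h1 := length_le_edges R hirr hi l2 (nl2 h) e2 (ne2 h) (pe2 h)
  have hD := D_pos R hirr
  have hl : l2.length = 8 := rfl
  have he : e2.length = 12 := rfl
  rw [hl, he] at h1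
  have := finrank_Io R hirr 2
  constructor <;> omega

/-- the faces `{1, 2}` of the node `2` have no interior -/
theorem node2_face [Nontrivial V] (hJ : ∀ j, j ∉ Jx cs h X ρ ↔ j = 2) (hV : Module.finrank k V ≤ 12) :
    Le cs h T X ρ {j | j ≠ 0} ⊓ Kv cs h R.nsys X ρ = ⊥ := by
  have hi : (2 : Fin 3) ∉ Jx cs h X ρ := (hJ 2).2 rfl
  obtain ⟨hd, hLe⟩ := node2_edge R hirr hJ hV
  have hJ' : ∀ j : Fin 3, j ∉ ({j | j ≠ 0} : Set (Fin 3)) ↔ j = 0 := fun j => by simp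
  have hperp : ∀ {ψ : Module.Dual k V}, ψ ∈ Les cs h T X ρ {j | j ≠ 0} → ∀ {m : V},
      m ∈ Le cs h T X ρ {j | j ≠ 0} → m ∈ Kv cs h R.nsys X ρ → ψ (ρ (n 0) m) = 0 := by
    intro ψ hψ m hm hmK
    refine face_perp R hirr hi hLe ?_ hψ hm hmK
    rintro x hx ⟨l, hl, hl0⟩
    obtain ⟨q, hq, rfl⟩ := mem_rl h hx.1
    have hx0 : rv A q 0 = 0 := hx.2.2 0 (by simp)
    have hl1 : l = 1 := by
      fin_cases l
      · exact absurd hx0 hl0.ne'
      · rfl
      · exact absurd rfl hl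
    subst hl1
    obtain ⟨g1, g2⟩ := perp h q hq hx0 hx.2.1 hl0
    rw [rep_simple_rf]
    refine ⟨?_, g1, 0, by simp, g2⟩
    rw [← rep_simple_rf (cs := cs) (h := h)]
    exact hx.1.act _
  have hLJ : ∀ {b : W} {gb : Y}, b ∈ WJ cs {j | j ≠ 0} → Rp cs R.nsys b gb → gb ∈ LJ cs h T X {j | j ≠ 0} :=
    fun hb hgb => rp_mem_LJ R hb hgb
  have hF : ∀ u g, Rp cs R.nsys u g → u ∉ WJ cs {j | j ≠ 0} → ∀ ψ ∈ Les cs h T X ρ {j | j ≠ 0},
      ∀ m ∈ Le cs h T X ρ {j | j ≠ 0}, m ∈ Kv cs h R.nsys X ρ → ψ (ρ g m) = 0 := by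
    intro u g hg hu ψ hψ m hm hmK
    obtain ⟨ω, hω, he⟩ := orbit_of_closed (cs := cs) (h := h) 0 l0 ⟨[], by decide, rfl⟩ (cl0 h) u
    rw [← lb_wordProd (cs := cs) (h := h)] at he
    have hb : (cs.wordProd ω)⁻¹ * u ∈ WJ cs {j | j ≠ 0} := (mem_WJ_iff_lb hJ').2 he.symm
    -- adjacent faces
    have hadj : ∀ ω' : List (Fin 3), (∀ j ∈ ω', j ∈ ({j | j ≠ 0} : Set (Fin 3))) → ω = ω' ++ [0] →
        ψ (ρ g m) = 0 := by
      intro ω' hω' e
      have ha : cs.wordProd ω' ∈ WJ cs {j | j ≠ 0} := word_mem_WJ hω'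
      obtain ⟨ga, hga⟩ := exists_rp cs R.nsys (cs.wordProd ω')
      have hgb := ((hga.mul (rp_simple cs R.nsys 0)).inv).mul hg
      have e1 : (cs.wordProd ω' * cs.simple 0)⁻¹ * u = (cs.wordProd ω)⁻¹ * u := by
        rw [e, cs.wordProd_append, cs.wordProd_singleton]
      rw [e1] at hgb
      have e2 : ψ (ρ g m) = dualRep ρ ga⁻¹ ψ (ρ (n 0) (ρ ((ga * n 0)⁻¹ * g) m)) := by
        rw [dualRep_apply, inv_inv, ← rho_mul, ← rho_mul]
        congr 3
        group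
      rw [e2]
      exact hperp (Ivt_Les R _ _ (inv_mem (hLJ ha hga)) ψ hψ) (Ivt_Le R _ _ (hLJ hb hgb) m hm) (Kv_map hgb hmK)
    have hcases : ω = [] ∨ ω = [0] ∨ ω = [1, 0] ∨ ω = [2, 1, 0] ∨ ω = [1, 2, 1, 0] ∨ ω = [0, 1, 2, 1, 0] := by
      simpa [l0] using hω
    rcases hcases with e | e | e | e | e | e
    · exfalso
      apply hu
      rw [e, cs.wordProd_nil, inv_one, one_mul] at hb
      exact hb
    · exact hadj [] (by simp) e
    · exact hadj [1] (by simp) e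
    · exact hadj [2, 1] (by simp) e
    · exact hadj [1, 2, 1] (by simp) e
    · obtain ⟨ga, hga⟩ := exists_rp cs R.nsys (cs.wordProd ω)
      have hgb := hga.inv.mul hg
      have e2 : ρ g m = ρ ga (ρ (ga⁻¹ * g) m) := by
        rw [← rho_mul, mul_inv_cancel_left]
      rw [e2]
      refine face_opp R hirr (J' := {j | j ≠ 0}) hga ?_ ?_ hψ (Ivt_Le R _ _ (hLJ hb hgb) m hm)
      · intro x hx
        obtain ⟨q, hq, rfl⟩ := mem_rl h hx.1
        rw [rep_wordProd, e]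
        exact opp0 h q hq (hx.2 0 (by simp))
      · intro hcon
        have h3 := lb_eq_of_mem (h := h) (J := Jx cs h X ρ) hi (w := 1) (w' := cs.wordProd ω)
          (by rw [inv_one, one_mul]; exact hcon)
        rw [lb_one, lb_wordProd, e] at h3
        exact oppJ h h3.symm
  have hnd := nl0 h
  have h1 := face_bound R hirr hF (α := Fin l2.length) (β := Fin l0.length) (fun a => cs.wordProd (l2.get a)) (by
    intro a a' haa hcon
    apply haa
    have h2 := List.nodup_iff_injective_get.1 (nl2 h)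
    have h3 : (⟨a, by rw [List.length_map]; exact a.2⟩ : Fin (l2.map (lbw A 2)).length) =
        ⟨a', by rw [List.length_map]; exact a'.2⟩ := by
      apply h2
      simp only [List.get_eq_getElem, List.getElem_map]
      have := lb_eq_of_mem (h := h) hi hcon
      rw [lb_wordProd, lb_wordProd] at this
      exact this
    have h4 := congrArg Fin.val h3
    exact Fin.ext h4) (fun b => cs.wordProd (l0.get b)) (by
    intro a a' haa hcon
    apply haa
    have h2 := List.nodup_iff_injective_get.1 (nl0 h)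
    have h3 : (⟨a, by rw [List.length_map]; exact a.2⟩ : Fin (l0.map (lbw A 0)).length) =
        ⟨a', by rw [List.length_map]; exact a'.2⟩ := by
      apply h2
      simp only [List.get_eq_getElem, List.getElem_map]
      have := lb_eq_of_mem (h := h) ((hJ' 0).2 rfl) hcon
      rw [lb_wordProd, lb_wordProd] at this
      exact this
    have h4 := congrArg Fin.val h3
    exact Fin.ext h4)
  rw [Fintype.card_fin, Fintype.card_fin] at h1
  have hl : l2.length = 8 := rfl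
  have hl' : l0.length = 6 := rfl
  rw [hl, hl', hd] at h1
  have h2 : Module.finrank k (Le cs h T X ρ {j | j ≠ 0} ⊓ Kv cs h R.nsys X ρ : Submodule k V) = 0 := by omega
  exact Submodule.finrank_eq_zero.1 h2

/-- **`V` is the sum of the vertices** -/
theorem node2_top [Nontrivial V] (hJ : ∀ j, j ∉ Jx cs h X ρ ↔ j = 2) (hV : Module.finrank k V ≤ 12)
    {g : W → Y} (hg : ∀ w, Rp cs R.nsys w (g w)) : (⨆ w, (D cs h X ρ).map (ρ (g w))) = ⊤ := by
  refine V0_eq_top' R hirr hg fun x hx => ?_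
  obtain ⟨q, hq, e⟩ := mem_rl h hx.1
  obtain ⟨l, hl, hl0⟩ := hx.2.2
  rw [hJ] at hl
  subst hl
  have hx0 : ∀ l, 0 ≤ rv A q l := by rw [← e]; exact hx.2.1
  rw [e] at hl0
  obtain ⟨ω, hω, hω0⟩ := not2 h q hq hx0 hl0
  refine ⟨cs.wordProd ω, word_mem_WJ ?_, {j | j ≠ 0}, ⟨hx.1.act _, fun j hj => ?_⟩, ?_⟩
  · intro j hj
    by_contra hj'
    rw [hJ] at hj'
    subst hj'
    revert hj
    have hcases : ω = [] ∨ ω = [0] ∨ ω = [1] ∨ ω = [0, 1] ∨ ω = [1, 0] ∨ ω = [0, 1, 0] := by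
      simpa using hω
    rcases hcases with e | e | e | e | e | e <;> rw [e] <;> decide
  · have hj0 : j = 0 := by simpa using hj
    subst hj0
    rw [rep_wordProd_inv, e]
    exact hω0
  · refine (face_le R hirr (node2_face R hirr hJ hV) hg).trans ?_
    exact iSup_le fun u => le_iSup (fun w => (D cs h X ρ).map (ρ (g w))) u.1

/-- **the node `2` has dimension `8`** -/
theorem node2_dim [Nontrivial V] (hJ : ∀ j, j ∉ Jx cs h X ρ ↔ j = 2) (hV : Module.finrank k V ≤ 12) :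
    Module.finrank k V = 8 := by
  choose g hg using fun w => exists_rp cs R.nsys w
  have h1 := finrank_le_words R hirr hJ hg (node2_top R hirr hJ hV hg) l2
    (orbit_of_closed (cs := cs) (h := h) 2 l2 ⟨[], by decide, rfl⟩ (cl2 h))
  have hi : (2 : Fin 3) ∉ Jx cs h X ρ := (hJ 2).2 rfl
  have h2 := length_le_edges R hirr hi l2 (nl2 h) e2 (ne2 h) (pe2 h)
  have hd := (node2_edge R hirr hJ hV).1
  have hl : l2.length = 8 := rfl
  rw [hl, hd] at h1 h2
  omega

/-- two nodes outside `J` -/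
theorem not_two [Nontrivial V] (hV : Module.finrank k V ≤ 12) {i j : Fin 3} (hij : i ≠ j)
    (hi : i ∉ Jx cs h X ρ) (hj : j ∉ Jx cs h X ρ) : False := by
  have hD := D_pos R hirr
  have key : ∀ (S : List (Fin 3)) (L : List (List (Fin 3))), (∀ i ∈ S, i ∉ Jx cs h X ρ) → L.length = 13 →
      (L.map fun ω => S.map fun i => lbw A i ω).Nodup → False := by
    intro S L hS hl hL
    have h1 := length_le R hirr S hS L hL
    rw [hl] at h1
    omega
  have h01 : ¬ ((0 : Fin 3) ∉ Jx cs h X ρ ∧ (1 : Fin 3) ∉ Jx cs h X ρ) := fun hc =>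
    key [0, 1] p01 (by simpa using hc) rfl (np01 h)
  have h02 : ¬ ((0 : Fin 3) ∉ Jx cs h X ρ ∧ (2 : Fin 3) ∉ Jx cs h X ρ) := fun hc =>
    key [0, 2] p02 (by simpa using hc) rfl (np02 h)
  have h12 : ¬ ((1 : Fin 3) ∉ Jx cs h X ρ ∧ (2 : Fin 3) ∉ Jx cs h X ρ) := fun hc =>
    key [1, 2] p12 (by simpa using hc) rfl (np12 h)
  fin_cases i <;> fin_cases j
  · exact hij rfl
  · exact h01 ⟨hi, hj⟩
  · exact h02 ⟨hi, hj⟩
  · exact h01 ⟨hj, hi⟩
  · exact hij rfl
  · exact h12 ⟨hi, hj⟩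
  · exact h02 ⟨hj, hi⟩
  · exact h12 ⟨hj, hi⟩
  · exact hij rfl

/-- **type `B3`: simple modules of dimension at most `12`** -/
theorem cases [Nontrivial V] (hV : Module.finrank k V ≤ 12) {i : Fin 3} (hi : i ∉ Jx cs h X ρ) :
    (∀ j, j ∉ Jx cs h X ρ ↔ j = 0) ∨ ((∀ j, j ∉ Jx cs h X ρ ↔ j = 2) ∧ Module.finrank k V = 8) := by
  have hJ : ∀ j, j ∉ Jx cs h X ρ ↔ j = i := by
    intro j
    refine ⟨fun hj => ?_, fun e => e ▸ hi⟩
    by_contra hne
    exact not_two R hirr hV hne hj hi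
  have hi3 : i = 0 ∨ i = 1 ∨ i = 2 := (by decide : ∀ i : Fin 3, i = 0 ∨ i = 1 ∨ i = 2) i
  rcases hi3 with e | e | e
  · subst e; exact Or.inl hJ
  · subst e
    have := not_node1 R hirr hJ
    omega
  · subst e; exact Or.inr ⟨hJ, node2_dim R hirr hJ hV⟩

end Cfsg.Agent.H924.D5.B
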