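import Cfsg.Agent.H905.MdF
import Cfsg.Agent.H905.DCIndex

/-!
# Simple modules in the defining characteristic: vertices and faces (helper924)

`R : RGD cs h p T n X`, `ρ` simple in characteristic `p`, `D = V^U`.

* `exists_Les` : every functional agrees on `Le J` with an element of `Les J`; `Les_ext`, `Les_eq`;
* `Jx_opp` : the type of the dual is the same;
* `lb i w` : the label of the vertex `w`; `mem_WJ_iff_lb`;
* `fix_vertex`, `fix_dual`, `edge_move`, `edge_dual`;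
* `vertex_face` : a vertex functional which is nonzero on `Le J'`.
-/

set_option autoImplicit false
set_option linter.unusedSectionVars false
set_option linter.style.haveILetI false

namespace Cfsg.Agent.H924.D5

open CoxeterSystem Cfsg.Agent.ChevalleyStructure.CoxeterGeom Cfsg.Agent.Tits.Roots Cfsg.Agent.Tits.Core
  Cfsg.Agent.Tits.Exchange Cfsg.Agent.Nodes.Reps Cfsg.Agent.Nodes.BNOf Cfsg.Agent.Nodes.StabComb
  Cfsg.Agent.Nodes.Bruhat Cfsg.Agent.Nodes.OppDec Cfsg.Agent.Nodes.LeviDec Cfsg.Agent.KFacts.RgdOpp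
  Cfsg.Agent.Omega.CR Cfsg.Agent.Omega.FOne.Lift.Sd Cfsg.Agent.H905.Md Cfsg.Agent.H905

variable {I W Y : Type*} [Fintype I] [DecidableEq I] [Group W] [Group Y] {M : CoxeterMatrix I}
  {cs : CoxeterSystem M W} {A : I → I → ℤ} {h : IsCartan M A} {p : ℕ} {T : Subgroup Y} {n : I → Y}
  {X : (I → ℤ) → Subgroup Y}

variable {k V : Type*} [Field k] [AddCommGroup V] [Module k V]

/-! ### labels -/

/-- the label of the vertex `w` : the vector `w ω_i^∨` on the simple roots -/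
def lb (cs : CoxeterSystem M W) (h : IsCartan M A) (i : I) (w : W) : I → ℤ := DC.co cs h i w⁻¹

theorem lb_one (i : I) : lb cs h i 1 = sr i := by
  unfold lb
  rw [inv_one, DC.co_one]

theorem lb_simple_mul (i j : I) (w : W) : lb cs h i (cs.simple j * w) = DC.fire A (lb cs h i w) j := by
  unfold lb
  rw [mul_inv_rev, cs.inv_simple, DC.co_mul_simple]

/-- the pairing of labels and roots -/
theorem rep_inv_coord (i : I) (w : W) (x : I → ℤ) : rep cs h w⁻¹ x i = ∑ m, x m * lb cs h i w m := by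
  have h1 : x = ∑ m, x m • (sr m : I → ℤ) := by
    funext l
    rw [Finset.sum_apply]
    rw [Finset.sum_eq_single l]
    · rw [Pi.smul_apply, sr_self, smul_eq_mul, mul_one]
    · intro m _ hm
      rw [Pi.smul_apply, sr_ne hm.symm, smul_zero]
    · intro hl; exact absurd (Finset.mem_univ l) hl
  conv_lhs => rw [h1]
  rw [map_sum, Finset.sum_apply]
  refine Finset.sum_congr rfl fun m _ => ?_
  rw [map_smul, Pi.smul_apply, smul_eq_mul]
  rfl

theorem lb_eq_of_mem {J : Set I} {i : I} (hi : i ∉ J) {w w' : W} (hw : w⁻¹ * w' ∈ WJ cs J) :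
    lb cs h i w = lb cs h i w' := by
  unfold lb
  have h1 : w'⁻¹ = (w⁻¹ * w')⁻¹ * w⁻¹ := by group
  rw [h1, DC.co_mul_left cs h hi (inv_mem hw)]

theorem mem_WJ_iff_lb {J : Set I} {i : I} (hJ : ∀ j, j ∉ J ↔ j = i) {w w' : W} :
    w⁻¹ * w' ∈ WJ cs J ↔ lb cs h i w = lb cs h i w' := by
  constructor
  · exact fun hw => lb_eq_of_mem ((hJ i).2 rfl) hw
  · intro e
    rw [mem_WJ_iff (h := h)]
    intro x j hj
    rw [(hJ j).1 hj]
    have h1 := rep_inv_coord (cs := cs) (h := h) i w (rep cs h w' x)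
    have h2 := rep_inv_coord (cs := cs) (h := h) i w' (rep cs h w' x)
    rw [rep_mul_apply, h1, e, ← h2, rep_inv_apply]

/-- the stabiliser of a vector -/
def stb (ρ : Y →* Module.End k V) (v : V) : Subgroup Y where
  carrier := {g | ρ g v = v}
  one_mem' := rho_one ρ _
  mul_mem' := by
    intro a b (ha : ρ a _ = _) (hb : ρ b _ = _)
    change ρ (a * b) _ = _
    rw [rho_mul, hb, ha]
  inv_mem' := by
    intro a (ha : ρ a _ = _)
    change ρ a⁻¹ _ = _
    conv_lhs => rw [← ha]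
    exact rho_inv_rho ρ a _

theorem mem_fx_Sup {ρ : Y →* Module.End k V} {S : Set (I → ℤ)} {v : V} (hv : ∀ x ∈ S, ∀ b ∈ X x, ρ b v = v) :
    v ∈ fx ρ (RGD.Sup X S) := by
  have h1 : RGD.Sup X S ≤ stb ρ v := RGD.Sup_le fun x hx b hb => hv x hx b hb
  exact fun b hb => h1 hb

section

variable (R : RGD cs h p T n X) [Finite Y] [Finite W] [Fact p.Prime] [CharP k p]
  {ρ : Y →* Module.End k V} [FiniteDimensional k V]
  (hirr : ∀ L : Submodule k V, Ivt ρ (GG cs h T X) L → L = ⊥ ∨ L = ⊤)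
include R hirr

/-- the elements of `Les J` are determined by their values on `Le J` -/
theorem Les_ext [Nontrivial V] {J : Set I} {ψ ψ' : Module.Dual k V} (hψ : ψ ∈ Les cs h T X ρ J)
    (hψ' : ψ' ∈ Les cs h T X ρ J) (he : ∀ v ∈ Le cs h T X ρ J, ψ v = ψ' v) : ψ = ψ' := by
  rw [← sub_eq_zero]
  refine pair_fx' R hirr (J := J) (Les_le_fx R J (Submodule.sub_mem _ hψ hψ')) fun v hv => ?_
  rw [LinearMap.sub_apply, he v hv, sub_self]

/-- every functional agrees on `Le J` with an element of `Les J` -/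
theorem exists_Les [Nontrivial V] (J : Set I) (φ : Module.Dual k V) :
    ∃ ψ ∈ Les cs h T X ρ J, ∀ v ∈ Le cs h T X ρ J, ψ v = φ v := by
  let Φ : Les cs h T X ρ J →ₗ[k] Module.Dual k (Le cs h T X ρ J) :=
    { toFun := fun ψ => ψ.1.comp (Le cs h T X ρ J).subtype
      map_add' := fun _ _ => rfl
      map_smul' := fun _ _ => rfl }
  have hΦ : Function.Injective Φ := by
    rw [injective_iff_map_eq_zero]
    intro ψ hψ
    apply Subtype.ext
    refine Les_ext R hirr ψ.2 (zero_mem _) fun v hv => ?_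
    exact congrArg (fun f : Module.Dual k (Le cs h T X ρ J) => f ⟨v, hv⟩) hψ
  have hd : Module.finrank k (Les cs h T X ρ J) = Module.finrank k (Module.Dual k (Le cs h T X ρ J)) := by
    rw [Subspace.dual_finrank_eq, finrank_Les R hirr]
  have hs : Function.Surjective Φ := by
    refine LinearMap.range_eq_top.1 (Submodule.eq_top_of_finrank_eq ?_)
    rw [LinearMap.finrank_range_of_inj hΦ, hd]
  obtain ⟨ψ, hψ⟩ := hs (φ.comp (Le cs h T X ρ J).subtype)
  exact ⟨ψ.1, ψ.2, fun v hv => congrArg (fun f : Module.Dual k (Le cs h T X ρ J) => f ⟨v, hv⟩) hψ⟩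

omit hirr in
theorem GG_irr_opp (hirr : ∀ L : Submodule k V, Ivt ρ (GG cs h T X) L → L = ⊥ ∨ L = ⊤)
    (L : Submodule k (Module.Dual k V)) (hL : Ivt (dualRep ρ) (GG cs h T (fun x => X (-x))) L) :
    L = ⊥ ∨ L = ⊤ := hirr_opp R hirr L hL

/-- dual Smith -/
theorem Les_eq [Nontrivial V] (J : Set I) : Les cs h T X ρ J = fx (dualRep ρ) (VNJ cs h X J) := by
  rw [← Le_opp, Le_eq (opp R) (hirr_opp R hirr), VJ_opp]

/-- the fixed functionals pair with `D` on the right -/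
theorem exists_pair_D' [Nontrivial V] {φ : Module.Dual k V} (hφ : φ ∈ fx (dualRep ρ) (UN cs h X)) (hφ0 : φ ≠ 0) :
    ∃ v ∈ D cs h X ρ, φ v ≠ 0 := by
  by_contra hcon
  push Not at hcon
  exact hφ0 (eq_zero_of_fx R ρ hirr hφ hcon)

theorem finrank_Ds [Nontrivial V] :
    Module.finrank k (fx (dualRep ρ) (UN cs h X)) = Module.finrank k (D cs h X ρ) := by
  apply le_antisymm
  · refine finrank_le_of_pair' fun φ hφ h0 => ?_
    by_contra hne
    obtain ⟨v, hv, hv0⟩ := exists_pair_D' R hirr hφ hne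
    exact hv0 (h0 v hv)
  · refine finrank_le_of_pair fun v hv h0 => ?_
    by_contra hne
    obtain ⟨φ, hφ, hφ0⟩ := exists_pair_D R hirr hv hne
    exact hφ0 (h0 φ hφ)

/-- the type of the dual -/
theorem Jx_opp [Nontrivial V] : Jx cs h (fun x => X (-x)) (dualRep ρ) = Jx cs h X ρ := by
  apply Set.Subset.antisymm
  · intro i hi x hx v hv
    have h1 : Les cs h T X ρ {i} = fx (dualRep ρ) (UN cs h X) := by
      rw [← Le_opp, ← D_opp, Le_single (opp R) (hirr_opp R hirr)]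
      refine le_antisymm (Sp_le le_rfl ?_) (le_Sp _)
      intro b hb φ hφ
      rw [hi b hb φ hφ]
      exact hφ
    have hxL : x ∈ LJ cs h T X {i} := X_le_LJ (RootsJ.neg (sr_mem_Roots i)) hx
    have h2 : ρ x v - v ∈ Le cs h T X ρ {i} :=
      Submodule.sub_mem _ (Ivt_Le R {i} x hxL v (D_le_Le R {i} hv)) (D_le_Le R {i} hv)
    have h3 := pair_Le R hirr h2 fun φ hφ => by
      rw [h1] at hφ
      rw [map_sub, dual_fx_pair R hφ (X_le_UN (isRoot_sr cs h i).neg (neg_nonpos.2 (sr_nonneg i)) hx), sub_self]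
    rwa [sub_eq_zero] at h3
  · intro i hi x hx φ hφ
    change x ∈ X (- -sr i) at hx
    rw [neg_neg] at hx
    rw [D_opp] at hφ
    have h1 : Le cs h T X ρ {i} = D cs h X ρ := by
      rw [Le_single R hirr]
      refine le_antisymm (Sp_le le_rfl ?_) (le_Sp _)
      intro b hb v hv
      rw [hi b hb v hv]
      exact hv
    have hxL : x ∈ LJ cs h T X {i} := X_le_LJ (sr_mem_Roots i) hx
    refine Les_ext R hirr (J := {i}) (Ivt_Les R {i} x hxL φ (D_le_Les R {i} hφ)) (D_le_Les R {i} hφ) fun v hv => ?_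
    rw [h1] at hv
    rw [dualRep_apply, X_fix R ρ hv i (inv_mem hx)]

theorem finrank_D_opp [Nontrivial V] :
    Module.finrank k (D cs h (fun x => X (-x)) (dualRep ρ)) = Module.finrank k (D cs h X ρ) := by
  rw [D_opp, finrank_Ds R hirr]

theorem finrank_Le_opp [Nontrivial V] (J : Set I) :
    Module.finrank k (Le cs h T (fun x => X (-x)) (dualRep ρ) J) = Module.finrank k (Le cs h T X ρ J) := by
  rw [Le_opp, finrank_Les R hirr]

/-! ### the action on the vertices -/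

theorem fix_vertex [Nontrivial V] {i : I} (hJ : ∀ j, j ∉ Jx cs h X ρ → j = i) {w : W} {g : Y}
    (hg : Rp cs R.nsys w g) {x : I → ℤ} (hx : IsRoot cs h x) (h0 : 0 ≤ rep cs h w⁻¹ x i) {b : Y} (hb : b ∈ X x)
    {v : V} (hv : v ∈ D cs h X ρ) : ρ b (ρ g v) = ρ g v := by
  have h1 := R.conj_mem' hg hx hb
  have hyr : IsRoot cs h (rep cs h w⁻¹ x) := hx.act _
  have e : ρ b (ρ g v) = ρ g (ρ (g⁻¹ * b * g) v) := by
    rw [← rho_mul, ← rho_mul]
    congr 2
    group
  rw [e]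
  congr 1
  rcases h0.lt_or_eq with h2 | h2
  · have h3 : 0 ≤ rep cs h w⁻¹ x := nonneg_of_pos_apply hyr h2
    exact hv _ (RGD.le_Sup (S := RGD.Pos cs h) ⟨hyr, h3⟩ h1)
  · refine X_fix_J R hirr (x := rep cs h w⁻¹ x) ⟨hyr, fun j hj => ?_⟩ h1 hv
    rw [hJ j hj]
    exact h2.symm

/-- the dual statement -/
theorem fix_dual [Nontrivial V] {i : I} (hJ : ∀ j, j ∉ Jx cs h X ρ → j = i) {w : W} {g : Y}
    (hg : Rp cs R.nsys w g) {x : I → ℤ} (hx : IsRoot cs h x) (h0 : rep cs h w⁻¹ x i ≤ 0) {b : Y} (hb : b ∈ X x)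
    {φ : Module.Dual k V} (hφ : φ ∈ fx (dualRep ρ) (UN cs h X)) :
    dualRep ρ b (dualRep ρ g φ) = dualRep ρ g φ := by
  have h1 := fix_vertex (opp R) (ρ := dualRep ρ) (hirr_opp R hirr) (i := i) (by rw [Jx_opp R hirr]; exact hJ)
    (w := w) (g := g) hg (x := -x) hx.neg (by rw [map_neg, Pi.neg_apply]; omega) (b := b)
    (by change b ∈ X (- -x); rw [neg_neg]; exact hb) (v := φ) (by rw [D_opp]; exact hφ)
  exact h1

/-- an edge of dimension `≤ 2 dim D` -/
theorem edge_move [Nontrivial V] {i : I} (hi : i ∉ Jx cs h X ρ)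
    (hd : Module.finrank k (Le cs h T X ρ {i}) ≤ 2 * Module.finrank k (D cs h X ρ)) {w : W} {g : Y}
    (hg : Rp cs R.nsys w g) {x : I → ℤ} (hx : IsRoot cs h x) (hwx : rep cs h w⁻¹ x = -sr i) {b : Y} (hb : b ∈ X x)
    {v : V} (hv : v ∈ D cs h X ρ) :
    ρ b (ρ g v) ∈ (D cs h X ρ).map (ρ g) ⊔ (D cs h X ρ).map (ρ (g * n i)) := by
  have h1 := R.conj_mem' hg hx hb
  rw [hwx] at h1
  have e : ρ b (ρ g v) = ρ g (ρ (g⁻¹ * b * g) v) := by
    rw [← rho_mul, ← rho_mul]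
    congr 2
    group
  have h2 : ρ (g⁻¹ * b * g) v ∈ Le cs h T X ρ {i} :=
    Ivt_Le R {i} _ (X_le_LJ (RootsJ.neg (sr_mem_Roots i)) h1) _ (D_le_Le R {i} hv)
  obtain ⟨c, hc, d, hd', e3⟩ := Submodule.mem_sup.1 (edge_le R hirr hi hd h2)
  rw [e, ← e3, map_add]
  refine Submodule.add_mem_sup ⟨c, hc, rfl⟩ ?_
  obtain ⟨d', hd'', rfl⟩ := hd'
  exact ⟨d', hd'', rho_mul ρ _ _ _⟩

theorem edge_dual [Nontrivial V] {i : I} (hi : i ∉ Jx cs h X ρ)
    (hd : Module.finrank k (Le cs h T X ρ {i}) ≤ 2 * Module.finrank k (D cs h X ρ)) {w : W} {g : Y}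
    (hg : Rp cs R.nsys w g) {x : I → ℤ} (hx : IsRoot cs h x) (hwx : rep cs h w⁻¹ x = sr i) {b : Y} (hb : b ∈ X x)
    {φ : Module.Dual k V} (hφ : φ ∈ fx (dualRep ρ) (UN cs h X)) :
    dualRep ρ b (dualRep ρ g φ) ∈ (fx (dualRep ρ) (UN cs h X)).map (dualRep ρ g) ⊔
      (fx (dualRep ρ) (UN cs h X)).map (dualRep ρ (g * n i)) := by
  have h1 := edge_move (opp R) (ρ := dualRep ρ) (hirr_opp R hirr) (i := i) (by rw [Jx_opp R hirr]; exact hi)
    (by rw [finrank_Le_opp R hirr, finrank_D_opp R hirr]; exact hd)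
    (w := w) (g := g) hg (x := -x) hx.neg (by rw [map_neg, hwx]) (b := b)
    (by change b ∈ X (- -x); rw [neg_neg]; exact hb) (v := φ) (by rw [D_opp]; exact hφ)
  rwa [D_opp] at h1

omit hirr in
/-- the functionals of the vertex `w`, `w` minimal in `W_J' w` -/
theorem vertex_fix {J' : Set I} {w : W} {g : Y} (hg : Rp cs R.nsys w g)
    (hw : ∀ y ∈ PosJ cs h J', 0 ≤ rep cs h w⁻¹ y) {y : I → ℤ} (hy : y ∈ PosJ cs h J') {b : Y} (hb : b ∈ X (-y))
    {φ : Module.Dual k V} (hφ : φ ∈ fx (dualRep ρ) (UN cs h X)) :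
    dualRep ρ b (dualRep ρ g φ) = dualRep ρ g φ := by
  have h1 := R.conj_mem' hg hy.1.neg hb
  have e : dualRep ρ b (dualRep ρ g φ) = dualRep ρ g (dualRep ρ (g⁻¹ * b * g) φ) := by
    rw [← rho_mul, ← rho_mul]
    congr 2
    group
  rw [e]
  congr 1
  refine hφ _ (X_le_UN (hy.1.neg.act w⁻¹) ?_ h1)
  rw [map_neg]
  exact neg_nonpos.2 (hw y hy)

/-- a functional of the vertex `w` which is nonzero on `Le J'`, `w` minimal in `W_J' w` -/
theorem vertex_face_min [Nontrivial V] {J' : Set I} {w : W} {g : Y} (hg : Rp cs R.nsys w g)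
    (hw : ∀ y ∈ PosJ cs h J', 0 ≤ rep cs h w⁻¹ y) {φ : Module.Dual k V} (hφ : φ ∈ fx (dualRep ρ) (UN cs h X))
    {m : V} (hm : m ∈ Le cs h T X ρ J') (hne : dualRep ρ g φ m ≠ 0) : w ∈ WJ cs (Jx cs h X ρ) := by
  obtain ⟨ψ, hψ, he⟩ := exists_Les R hirr J' (dualRep ρ g φ)
  have hψ0 : ψ ≠ 0 := by
    rintro rfl
    apply hne
    rw [← he m hm]
    rfl
  have hψU : ψ ∈ fx (dualRep ρ) (UN cs h X) := by
    refine mem_fx_Sup fun x hx b hb => ?_
    rcases mem_PosJ_or_NotJ J' hx.1.neg (neg_nonneg.2 hx.2) with h1 | h1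
    · have hbL : b ∈ LJ cs h T X J' := by
        have h2 := RootsJ.neg (PosJ_subset _ h1)
        rw [neg_neg] at h2
        exact X_le_LJ h2 hb
      refine Les_ext R hirr (J := J') (Ivt_Les R J' b hbL ψ hψ) hψ fun v hv => ?_
      rw [dualRep_apply, he _ (Ivt_Le R J' _ (inv_mem hbL) v hv), he v hv, ← dualRep_apply]
      rw [vertex_fix R hg hw h1 (by rw [neg_neg]; exact hb) hφ]
    · exact Les_le_fx R J' hψ b (RGD.le_Sup (S := NotNJ cs h J') h1 hb)
  obtain ⟨v, hv, hv0⟩ := exists_pair_D' R hirr hψU hψ0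
  rw [he v (D_le_Le R J' hv)] at hv0
  have h1 := vertex_pair R hirr hg (rp_one (cs := cs) (hN := R.nsys)) (φ := dualRep ρ g φ) (v := v) ⟨φ, hφ, rfl⟩
    (by rw [map_one]; exact ⟨v, hv, rfl⟩) hv0
  rw [mul_one] at h1
  rw [← inv_inv w]
  exact inv_mem h1

end

end Cfsg.Agent.H924.D5
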