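import Cfsg.Agent.H924.D5A

/-!
# Simple modules in the defining characteristic: words, counting, sums of vertices (helper924)

* `rww`, `lbw` : roots and labels of words (decidable); `orbit_of_closed`, `root_of_closed`;
* `length_le`, `length_le_edges` : dimension bounds by words;
* `exists_min_coset`, `vertex_face`;
* `V0_eq_top'` : `V` is the sum of the vertices if the faces are.
-/

set_option autoImplicit false
set_option linter.unusedSectionVars false
set_option linter.style.haveILetI false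

namespace Cfsg.Agent.H924.D5

open CoxeterSystem Cfsg.Agent.ChevalleyStructure.CoxeterGeom Cfsg.Agent.Tits.Roots Cfsg.Agent.Tits.Core
  Cfsg.Agent.Tits.Exchange Cfsg.Agent.Nodes.Reps Cfsg.Agent.Nodes.BNOf Cfsg.Agent.Nodes.StabComb
  Cfsg.Agent.Nodes.Bruhat Cfsg.Agent.Nodes.OppDec Cfsg.Agent.Nodes.LeviDec Cfsg.Agent.KFacts.RgdOpp
  Cfsg.Agent.Omega.CR Cfsg.Agent.Omega.FOne.Lift.Sd Cfsg.Agent.H905.Md Cfsg.Agent.H905

/-! ### words -/

section words

variable {I W : Type*} [Fintype I] [DecidableEq I] [Group W] {M : CoxeterMatrix I}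
  {cs : CoxeterSystem M W} {A : I → I → ℤ} {h : IsCartan M A}

/-- the reflection on vectors -/
def rf (A : I → I → ℤ) (j : I) (x : I → ℤ) : I → ℤ := fun m => if m = j then x m - ∑ k, A j k * x k else x m

theorem rep_simple_rf (j : I) (x : I → ℤ) : rep cs h (cs.simple j) x = rf A j x := by
  funext m
  unfold rf
  split_ifs with hm
  · subst hm
    rw [rep_simple_apply_self]
    rfl
  · rw [rep_simple_apply cs h j x m hm]

/-- the action of a word -/
def rww (A : I → I → ℤ) (ω : List I) (x : I → ℤ) : I → ℤ := ω.foldr (rf A) x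

theorem rep_wordProd (ω : List I) (x : I → ℤ) : rep cs h (cs.wordProd ω) x = rww A ω x := by
  induction ω with
  | nil => rw [cs.wordProd_nil, map_one]; rfl
  | cons j ω ih => rw [cs.wordProd_cons, rep_mul_apply, ih, rep_simple_rf]; rfl

theorem rep_wordProd_inv (ω : List I) (x : I → ℤ) : rep cs h (cs.wordProd ω)⁻¹ x = rww A ω.reverse x := by
  rw [← cs.wordProd_reverse, rep_wordProd]

/-- the label of a word -/
def lbw (A : I → I → ℤ) (i : I) (ω : List I) : I → ℤ := ω.foldr (fun j μ => DC.fire A μ j) (Pi.single i 1)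

theorem lb_wordProd (i : I) (ω : List I) : lb cs h i (cs.wordProd ω) = lbw A i ω := by
  induction ω with
  | nil => rw [cs.wordProd_nil, lb_one]; rfl
  | cons j ω ih => rw [cs.wordProd_cons, lb_simple_mul, ih]; rfl

/-- a closed set of labels contains all labels -/
theorem orbit_of_closed (i : I) (L : List (List I)) (h0 : ∃ ω ∈ L, (Pi.single i 1 : I → ℤ) = lbw A i ω)
    (hL : ∀ j, ∀ ω ∈ L, ∃ ω' ∈ L, DC.fire A (lbw A i ω) j = lbw A i ω') (w : W) :
    ∃ ω ∈ L, lb cs h i w = lbw A i ω := by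
  induction w using cs.simple_induction_left with
  | one => rw [lb_one]; exact h0
  | mul_simple_left w j ih =>
    obtain ⟨ω, hω, e⟩ := ih
    rw [lb_simple_mul, e]
    exact hL j ω hω

/-- a closed set of vectors contains all roots -/
theorem root_of_closed (L : List (I → ℤ)) (h0 : ∀ i, (Pi.single i 1 : I → ℤ) ∈ L)
    (hL : ∀ j, ∀ x ∈ L, rf A j x ∈ L) {x : I → ℤ} (hx : IsRoot cs h x) : x ∈ L := by
  obtain ⟨w, i, rfl⟩ := hx
  induction w using cs.simple_induction_left with
  | one => rw [map_one]; exact h0 i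
  | mul_simple_left w j ih =>
    rw [rep_mul_apply, rep_simple_rf]
    exact hL j _ ih

theorem isRoot_word (ω : List I) (i : I) : IsRoot cs h (rww A ω (Pi.single i 1)) :=
  ⟨cs.wordProd ω, i, (rep_wordProd ω _).symm⟩

theorem word_mem_WJ {J : Set I} {ω : List I} (hω : ∀ j ∈ ω, j ∈ J) : cs.wordProd ω ∈ WJ cs J := by
  induction ω with
  | nil => rw [cs.wordProd_nil]; exact one_mem _
  | cons j ω ih =>
    rw [cs.wordProd_cons]
    exact mul_mem (Subgroup.subset_closure ⟨j, hω j (by simp), rfl⟩) (ih fun l hl => hω l (by simp [hl]))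

/-- minimal representatives -/
theorem exists_min_coset (h : IsCartan M A) (J' : Set I) (w : W) :
    ∃ u ∈ WJ cs J', ∀ y ∈ PosJ cs h J', 0 ≤ rep cs h (u⁻¹ * w)⁻¹ y := by
  obtain ⟨v, hv, hmin⟩ := Nodes.Comb.exists_min cs w⁻¹ J'
  refine ⟨v, hv, fun y hy => ?_⟩
  have e : (v⁻¹ * w)⁻¹ = w⁻¹ * v := by group
  rw [e]
  have h1 : y = ∑ m, y m • (sr m : I → ℤ) := by
    funext l
    rw [Finset.sum_apply, Finset.sum_eq_single l]
    · rw [Pi.smul_apply, sr_self, smul_eq_mul, mul_one]
    · intro m _ hm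
      rw [Pi.smul_apply, sr_ne hm.symm, smul_zero]
    · intro hl; exact absurd (Finset.mem_univ l) hl
  rw [h1, map_sum]
  refine Finset.sum_nonneg fun m _ => ?_
  rw [map_smul]
  by_cases hm : m ∈ J'
  · have h2 := Nodes.Comb.nonneg_of_min cs h hv hmin hm
    intro l
    rw [Pi.smul_apply, smul_eq_mul]
    exact mul_nonneg (hy.2.1 m) (h2 l)
  · rw [hy.2.2 m hm, zero_smul]

end words

/-! ### modules -/

variable {I W Y : Type*} [Fintype I] [DecidableEq I] [Group W] [Group Y] {M : CoxeterMatrix I}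
  {cs : CoxeterSystem M W} {A : I → I → ℤ} {h : IsCartan M A} {p : ℕ} {T : Subgroup Y} {n : I → Y}
  {X : (I → ℤ) → Subgroup Y}

variable {k V : Type*} [Field k] [AddCommGroup V] [Module k V]

section

variable (R : RGD cs h p T n X) [Finite Y] [Finite W] [Fact p.Prime] [CharP k p]
  {ρ : Y →* Module.End k V} [FiniteDimensional k V]
  (hirr : ∀ L : Submodule k V, Ivt ρ (GG cs h T X) L → L = ⊥ ∨ L = ⊤)
include R hirr

/-- the number of vertices, by words -/
theorem length_le [Nontrivial V] (S : List I) (hS : ∀ i ∈ S, i ∉ Jx cs h X ρ) (L : List (List I))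
    (hL : (L.map fun ω => S.map fun i => lbw A i ω).Nodup) :
    L.length * Module.finrank k (D cs h X ρ) ≤ Module.finrank k V := by
  have h1 := dim_ge R hirr (α := Fin L.length) (β := Fin 0) (fun a => cs.wordProd (L.get a)) (by
    intro a a' haa hcon
    apply haa
    have h2 := List.nodup_iff_injective_get.1 hL
    have h3 : (⟨a, by rw [List.length_map]; exact a.2⟩ :
        Fin (L.map fun ω => S.map fun i => lbw A i ω).length) = ⟨a', by rw [List.length_map]; exact a'.2⟩ := by
      apply h2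
      simp only [List.get_eq_getElem, List.getElem_map]
      refine List.map_congr_left fun i hi => ?_
      have := lb_eq_of_mem (h := h) (hS i hi) hcon
      rw [lb_wordProd, lb_wordProd] at this
      exact this
    have h4 := congrArg Fin.val h3
    exact Fin.ext h4) (fun b => b.elim0) (fun b => b.elim0) (fun b => b.elim0)
  rw [Fintype.card_fin] at h1
  simpa using h1

/-- the number of vertices and edges, by words -/
theorem length_le_edges [Nontrivial V] {i : I} (hi : i ∉ Jx cs h X ρ) (L : List (List I))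
    (hL : (L.map (lbw A i)).Nodup) (E : List (List I))
    (hE : (E.map fun ω => (rww A ω (Pi.single i 1), lbw A i ω)).Nodup)
    (hpos : ∀ ω ∈ E, ∀ l, 0 ≤ rww A ω (Pi.single i 1) l) :
    L.length * Module.finrank k (D cs h X ρ) + E.length * Module.finrank k (Io cs h T X ρ i) ≤
      Module.finrank k V := by
  have h1 := dim_ge R hirr (α := Fin L.length) (β := Fin E.length) (fun a => cs.wordProd (L.get a)) (by
    intro a a' haa hcon
    apply haa
    have h2 := List.nodup_iff_injective_get.1 hL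
    have h3 : (⟨a, by rw [List.length_map]; exact a.2⟩ :
        Fin (L.map (lbw A i)).length) = ⟨a', by rw [List.length_map]; exact a'.2⟩ := by
      apply h2
      simp only [List.get_eq_getElem, List.getElem_map]
      have := lb_eq_of_mem (h := h) hi hcon
      rw [lb_wordProd, lb_wordProd] at this
      exact this
    have h4 := congrArg Fin.val h3
    exact Fin.ext h4) (fun b => cs.wordProd (E.get b)) (fun _ => i) (by
    intro b b' hbb hcon
    apply hbb
    have hr : ∀ b : Fin E.length, rep cs h (cs.wordProd (E.get b)) (sr i) = rww A (E.get b) (Pi.single i 1) :=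
      fun b => rep_wordProd _ _
    rcases hcon with ⟨h4, h5⟩ | ⟨h4, -⟩
    · have h2 := List.nodup_iff_injective_get.1 hE
      have h3 : (⟨b, by rw [List.length_map]; exact b.2⟩ :
          Fin (E.map fun ω => (rww A ω (Pi.single i 1), lbw A i ω)).length) =
            ⟨b', by rw [List.length_map]; exact b'.2⟩ := by
        apply h2
        simp only [List.get_eq_getElem, List.getElem_map]
        rw [hr, hr] at h4
        have := lb_eq_of_mem (h := h) hi h5
        rw [lb_wordProd, lb_wordProd] at this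
        exact Prod.ext h4 this
      have h4 := congrArg Fin.val h3
      exact Fin.ext h4
    · exfalso
      rw [hr, hr] at h4
      have h6 : (0 : I → ℤ) ≤ rww A (E.get b) (Pi.single i 1) := hpos _ (List.get_mem _ _)
      have h7 : (0 : I → ℤ) ≤ rww A (E.get b') (Pi.single i 1) := hpos _ (List.get_mem _ _)
      rw [h4] at h6
      exact (isRoot_word (cs := cs) (h := h) (E.get b') i).not_pos_neg h7 (neg_nonneg.1 h6))
  rw [Fintype.card_fin] at h1
  simpa using h1

/-- **a functional of the vertex `w` which is nonzero on `Le J'`** -/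
theorem vertex_face [Nontrivial V] {J' : Set I} {w : W} {g : Y} (hg : Rp cs R.nsys w g)
    {φ : Module.Dual k V} (hφ : φ ∈ fx (dualRep ρ) (UN cs h X))
    {m : V} (hm : m ∈ Le cs h T X ρ J') (hne : dualRep ρ g φ m ≠ 0) :
    ∃ u ∈ WJ cs J', u⁻¹ * w ∈ WJ cs (Jx cs h X ρ) := by
  obtain ⟨u, hu, hmin⟩ := exists_min_coset (cs := cs) h J' w
  obtain ⟨a, ha⟩ := exists_rp cs R.nsys u
  have haL : a ∈ LJ cs h T X J' := rp_mem_LJ R hu ha
  refine ⟨u, hu, vertex_face_min R hirr (ha.inv.mul hg) hmin hφ (m := ρ a⁻¹ m)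
    (Ivt_Le R J' _ (inv_mem haL) m hm) ?_⟩
  rw [dualRep_apply, mul_inv_rev, inv_inv, ← rho_mul, mul_assoc, mul_inv_cancel, mul_one]
  rwa [dualRep_apply] at hne

/-- **`V` is the sum of the vertices if the faces are** -/
theorem V0_eq_top' [Nontrivial V]
    {g : W → Y} (hg : ∀ w, Rp cs R.nsys w (g w))
    (hc : ∀ x ∈ NotJ cs h (Jx cs h X ρ), ∃ u ∈ WJ cs (Jx cs h X ρ), ∃ J', rep cs h u⁻¹ x ∈ RootsJ cs h J' ∧
      Le cs h T X ρ J' ≤ ⨆ w, (D cs h X ρ).map (ρ (g w))) :
    (⨆ w, (D cs h X ρ).map (ρ (g w))) = ⊤ := by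
  set V0 := ⨆ w, (D cs h X ρ).map (ρ (g w)) with hV0
  have hle : ∀ {w : W} {g' : Y}, Rp cs R.nsys w g' → (D cs h X ρ).map (ρ g') ≤ V0 := fun {w} {g'} hg' =>
    (map_eq_of_mem R hirr (hg w) hg' (by rw [inv_mul_cancel]; exact one_mem _)).trans
      (le_iSup (fun w => (D cs h X ρ).map (ρ (g w))) w)
  have key : ∀ K : Subgroup Y, (∀ w, ∀ b ∈ K, ∀ v ∈ D cs h X ρ, ρ b (ρ (g w) v) ∈ V0) → Ivt ρ K V0 := by
    intro K hK b hb v hv
    have h1 : V0 ≤ V0.comap (ρ b) := iSup_le fun w => by
      rintro _ ⟨m, hm, rfl⟩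
      exact hK w b hb m hm
    exact h1 hv
  have hN : ∀ {u : W} {a : Y}, Rp cs R.nsys u a → ∀ v ∈ V0, ρ a v ∈ V0 := by
    intro u a ha v hv
    have h1 : V0 ≤ V0.comap (ρ a) := iSup_le fun w => by
      rintro _ ⟨m, hm, rfl⟩
      change ρ a (ρ (g w) m) ∈ V0
      rw [← rho_mul]
      exact hle (ha.mul (hg w)) ⟨m, hm, rfl⟩
    exact h1 hv
  have hT : Ivt ρ T V0 := fun t ht v hv => hN (rp_of_mem (cs := cs) (hN := R.nsys) ht) v hv
  have hX : ∀ x, IsRoot cs h x → Ivt ρ (X x) V0 := by
    intro x hx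
    refine key _ fun w b hb v hv => ?_
    have h1 := R.conj_mem' (hg w) hx hb
    set y := rep cs h w⁻¹ x with hy
    have hyr : IsRoot cs h y := hx.act _
    have e : ρ b (ρ (g w) v) = ρ (g w) (ρ ((g w)⁻¹ * b * g w) v) := by
      rw [← rho_mul, ← rho_mul]
      congr 2
      group
    rw [e]
    rcases hyr.pos_or_neg with h0 | h0
    · rw [hv _ (RGD.le_Sup (S := RGD.Pos cs h) ⟨hyr, h0⟩ h1)]
      exact hle (hg w) ⟨v, hv, rfl⟩
    · rcases mem_PosJ_or_NotJ (Jx cs h X ρ) hyr.neg (neg_nonneg.2 h0) with h2 | h2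
      · have h3 : y ∈ RootsJ cs h (Jx cs h X ρ) := by
          have := RootsJ.neg (PosJ_subset _ h2)
          rwa [neg_neg] at this
        rw [X_fix_J R hirr h3 h1 hv]
        exact hle (hg w) ⟨v, hv, rfl⟩
      · obtain ⟨u, hu, J', hJ', hJV⟩ := hc _ h2
        obtain ⟨a, ha⟩ := exists_rp cs R.nsys u
        have h5 := R.conj_mem' ha hyr h1
        have h6 : ρ a⁻¹ v ∈ D cs h X ρ := rp_D R hirr (inv_mem hu) ha.inv hv
        have hyJ : rep cs h u⁻¹ y ∈ RootsJ cs h J' := by
          have := RootsJ.neg hJ'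
          rwa [map_neg, neg_neg] at this
        have h7 : ρ (a⁻¹ * ((g w)⁻¹ * b * g w) * a) (ρ a⁻¹ v) ∈ Le cs h T X ρ J' :=
          Ivt_Le R J' _ (X_le_LJ hyJ h5) _ (D_le_Le R J' h6)
        have h8 : ρ (g w) (ρ ((g w)⁻¹ * b * g w) v) =
            ρ (g w * a) (ρ (a⁻¹ * ((g w)⁻¹ * b * g w) * a) (ρ a⁻¹ v)) := by
          rw [← rho_mul, ← rho_mul, ← rho_mul]
          congr 2
          group
        rw [h8]
        exact hN ((hg w).mul ha) _ (hJV h7)
  refine (hirr V0 ?_).resolve_left ?_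
  · unfold GG
    exact Ivt.sup hT (Ivt_of_le ρ (RGD.Sup_le fun x hx => Ivt.le_stS (hX x hx)))
  · intro h0
    obtain ⟨c, hc, hc0⟩ := (Submodule.ne_bot_iff _).1 (simp_fx R ρ hirr).ne
    have h1 := hle (hg 1) ⟨c, hc, rfl⟩
    rw [h0, Submodule.mem_bot] at h1
    exact rho_ne_zero ρ _ hc0 h1

end

end Cfsg.Agent.H924.D5
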