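import Cfsg.Agent.H924.D5B

/-!
# Simple modules in the defining characteristic: faces (helper924)

* `Kv` : the common kernel of the vertex functionals;
* `face_perp`, `face_opp` : the functionals of a face kill the interiors of other faces;
* `face_bound` : the contribution of the interiors of the faces;
* `face_le` : a face without interior is the sum of its vertices.
-/

set_option autoImplicit false
set_option linter.unusedSectionVars false
set_option linter.style.haveILetI false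

namespace Cfsg.Agent.H924.D5

open CoxeterSystem Cfsg.Agent.ChevalleyStructure.CoxeterGeom Cfsg.Agent.Tits.Roots Cfsg.Agent.Tits.Core
  Cfsg.Agent.Tits.Exchange Cfsg.Agent.Nodes.Reps Cfsg.Agent.Nodes.BNOf Cfsg.Agent.Nodes.StabComb
  Cfsg.Agent.Nodes.Bruhat Cfsg.Agent.Nodes.OppDec Cfsg.Agent.Nodes.LeviDec Cfsg.Agent.KFacts.RgdOpp
  Cfsg.Agent.Omega.CR Cfsg.Agent.Omega.FOne.Lift.Sd Cfsg.Agent.H905.Md Cfsg.Agent.H905

variable {I W Y : Type*} [Fintype I] [DecidableEq I] [Group W] [Group Y] {M : CoxeterMatrix I}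
  {cs : CoxeterSystem M W} {A : I → I → ℤ} {h : IsCartan M A} {p : ℕ} {T : Subgroup Y} {n : I → Y}
  {X : (I → ℤ) → Subgroup Y}

variable {k V : Type*} [Field k] [AddCommGroup V] [Module k V]

/-- the common kernel of the vertex functionals -/
def Kv (cs : CoxeterSystem M W) (h : IsCartan M A) (hN : NSys M T n) (X : (I → ℤ) → Subgroup Y)
    (ρ : Y →* Module.End k V) : Submodule k V where
  carrier := {v | ∀ w g, Rp cs hN w g → ∀ φ ∈ fx (dualRep ρ) (UN cs h X), dualRep ρ g φ v = 0}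
  zero_mem' := fun _ _ _ _ _ => map_zero _
  add_mem' := fun {x y} hx hy w g hg φ hφ => by rw [map_add, hx w g hg φ hφ, hy w g hg φ hφ, add_zero]
  smul_mem' := fun c x hx w g hg φ hφ => by rw [map_smul, hx w g hg φ hφ, smul_zero]

theorem Kv_map {hN : NSys M T n} {ρ : Y →* Module.End k V} {u : W} {a : Y} (ha : Rp cs hN u a) {v : V}
    (hv : v ∈ Kv cs h hN X ρ) : ρ a v ∈ Kv cs h hN X ρ := by
  intro w g hg φ hφ
  have h1 := hv _ _ (ha.inv.mul hg) φ hφ
  rw [dualRep_apply] at h1 ⊢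
  rw [← rho_mul]
  rwa [mul_inv_rev, inv_inv] at h1

section

variable (R : RGD cs h p T n X) [Finite Y] [Finite W] [Fact p.Prime] [CharP k p]
  {ρ : Y →* Module.End k V} [FiniteDimensional k V]
  (hirr : ∀ L : Submodule k V, Ivt ρ (GG cs h T X) L → L = ⊥ ∨ L = ⊤)
include R hirr

/-- adjacent faces -/
theorem face_perp [Nontrivial V] {J' : Set I} {i j : I} (hi : i ∉ Jx cs h X ρ)
    (hd : Module.finrank k (Le cs h T X ρ {i}) ≤ 2 * Module.finrank k (D cs h X ρ))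
    (hr : ∀ x ∈ PosJ cs h J', (∃ l, l ≠ i ∧ 0 < x l) → rep cs h (cs.simple j) x ∈ NotJ cs h J')
    {ψ : Module.Dual k V} (hψ : ψ ∈ Les cs h T X ρ J') {m : V} (hm : m ∈ Le cs h T X ρ J')
    (hmK : m ∈ Kv cs h R.nsys X ρ) : ψ (ρ (n j) m) = 0 := by
  obtain ⟨ψ', hψ', he⟩ := exists_Les R hirr J' (dualRep ρ (n j)⁻¹ ψ)
  have h0 : ψ (ρ (n j) m) = ψ' m := by
    rw [he m hm, dualRep_apply, inv_inv]
  rw [h0]
  have h1 : ψ' ∈ Les cs h T X ρ {i} := by
    rw [Les_eq R hirr]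
    refine mem_fx_Sup fun x hx b hb => ?_
    have hx' : -x ∈ NotJ cs h ({i} : Set I) := hx
    rcases mem_PosJ_or_NotJ J' hx'.1 hx'.2.1 with h2 | h2
    · have hbL : b ∈ LJ cs h T X J' := by
        have h3 := RootsJ.neg (PosJ_subset _ h2)
        rw [neg_neg] at h3
        exact X_le_LJ h3 hb
      have hxr : IsRoot cs h x := by
        have := h2.1.neg
        rwa [neg_neg] at this
      refine Les_ext R hirr (J := J') (Ivt_Les R J' b hbL ψ' hψ') hψ' fun v hv => ?_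
      rw [dualRep_apply, he _ (Ivt_Le R J' _ (inv_mem hbL) v hv), he v hv, ← dualRep_apply]
      congr 1
      have h4 := R.conj_mem (rp_simple cs R.nsys j) hxr hb
      have h5 : rep cs h (cs.simple j) x ∈ NotNJ cs h J' := by
        obtain ⟨l, hl, hl0⟩ := hx'.2.2
        have := hr _ h2 ⟨l, fun e => hl e, hl0⟩
        rw [map_neg] at this
        exact this
      have h6 := Les_le_fx R J' hψ _ (RGD.le_Sup (S := NotNJ cs h J') h5 h4)
      have e : dualRep ρ b (dualRep ρ (n j)⁻¹ ψ) = dualRep ρ (n j)⁻¹ (dualRep ρ (n j * b * (n j)⁻¹) ψ) := by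
        rw [← rho_mul, ← rho_mul]
        congr 2
        group
      rw [e, h6]
    · exact Les_le_fx R J' hψ' b (RGD.le_Sup (S := NotNJ cs h J') h2 hb)
  have h2 := edge_le (opp R) (ρ := dualRep ρ) (hirr_opp R hirr) (i := i) (by rw [Jx_opp R hirr]; exact hi)
    (by rw [finrank_Le_opp R hirr, finrank_D_opp R hirr]; exact hd)
  rw [Le_opp, D_opp] at h2
  obtain ⟨a, ha, b, ⟨b', hb', rfl⟩, rfl⟩ := Submodule.mem_sup.1 (h2 h1)
  have h3 := hmK 1 1 rp_one a ha
  have h4 := hmK _ _ (rp_simple cs R.nsys i) b' hb'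
  rw [rho_one] at h3
  rw [LinearMap.add_apply, h3, h4, add_zero]

/-- the opposite face -/
theorem face_opp [Nontrivial V] {J' : Set I} {u : W} {g : Y} (hg : Rp cs R.nsys u g)
    (hu : ∀ x ∈ RootsJ cs h J', rep cs h u x = x) (huJ : u ∉ WJ cs (Jx cs h X ρ))
    {ψ : Module.Dual k V} (hψ : ψ ∈ Les cs h T X ρ J') {m : V} (hm : m ∈ Le cs h T X ρ J') :
    ψ (ρ g m) = 0 := by
  have hcj : ∀ y ∈ LJ cs h T X J', g⁻¹ * y * g ∈ LJ cs h T X J' := by
    intro y hy
    have h1 : LJ cs h T X J' ≤ (LJ cs h T X J').comap (MulAut.conj g⁻¹).toMonoidHom := by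
      refine sup_le ?_ (RGD.Sup_le fun x hx => ?_)
      · intro t ht
        have := (Subgroup.mem_normalizer_iff.1 hg.inv.mem_normalizer t).1 ht
        exact T_le_LJ this
      · intro b hb
        have h2 := R.conj_mem' hg hx.1 hb
        have h3 : rep cs h u⁻¹ x = x := by
          have := rep_inv_apply cs h u x
          rwa [hu x hx] at this
        rw [h3] at h2
        have h4 : g⁻¹ * b * g⁻¹⁻¹ ∈ LJ cs h T X J' := by
          rw [inv_inv]
          exact X_le_LJ hx h2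
        exact h4
    have h2 : g⁻¹ * y * g⁻¹⁻¹ ∈ LJ cs h T X J' := h1 hy
    rwa [inv_inv] at h2
  have hinv : Ivt ρ (LJ cs h T X J') ((Le cs h T X ρ J').map (ρ g)) := by
    rintro x hx _ ⟨v, hv, rfl⟩
    refine ⟨ρ (g⁻¹ * x * g) v, Ivt_Le R J' _ (hcj x hx) v hv, ?_⟩
    rw [← rho_mul, ← rho_mul]
    congr 2
    group
  set K : Submodule k (Module.Dual k V) :=
    Les cs h T X ρ J' ⊓ ((Le cs h T X ρ J').map (ρ g)).dualAnnihilator with hK
  have hKi : Ivt (dualRep ρ) (LJ cs h T X J') K := by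
    refine Ivt.inf (Ivt_Les R J') ?_
    intro x hx φ hφ
    rw [Submodule.mem_dualAnnihilator] at hφ ⊢
    intro v hv
    rw [dualRep_apply]
    exact hφ _ (hinv _ (inv_mem hx) v hv)
  by_cases hK0 : K = ⊥
  · exfalso
    obtain ⟨c, hc, hc0⟩ := (Submodule.ne_bot_iff _).1 (simp_fx R ρ hirr).ne
    obtain ⟨φ₀, hφ₀, hne₀⟩ := exists_pair_D R hirr hc hc0
    obtain ⟨v, hv, hv0⟩ : ∃ v ∈ Le cs h T X ρ J', φ₀ (ρ g v) ≠ 0 := by
      by_contra hcon
      push Not at hcon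
      have h1 : φ₀ ∈ K := by
        refine ⟨D_le_Les R J' hφ₀, (Submodule.mem_dualAnnihilator φ₀).2 ?_⟩
        rintro _ ⟨v, hv, rfl⟩
        exact hcon v hv
      rw [hK0, Submodule.mem_bot] at h1
      rw [h1] at hne₀
      exact hne₀ rfl
    have h2 := vertex_face_min R hirr (J' := J') hg.inv (by
      intro y hy
      rw [inv_inv, hu y (PosJ_subset _ hy)]
      exact hy.2.1) hφ₀ hv (by rw [dualRep_apply, inv_inv]; exact hv0)
    rw [← inv_inv u] at huJ
    exact huJ (inv_mem h2)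
  · have h1 := Les_le R hirr (J := J') hK0 (inf_le_left.trans (Les_le_fx R J')) hKi
    exact (Submodule.mem_dualAnnihilator ψ).1 (h1 hψ).2 _ ⟨m, hm, rfl⟩

/-- **the contribution of the interiors of the faces** -/
theorem face_bound [Nontrivial V] {J' : Set I}
    (hF : ∀ u g, Rp cs R.nsys u g → u ∉ WJ cs J' → ∀ ψ ∈ Les cs h T X ρ J', ∀ m ∈ Le cs h T X ρ J',
      m ∈ Kv cs h R.nsys X ρ → ψ (ρ g m) = 0)
    {α β : Type*} [Fintype α] [Fintype β] (v : α → W)
    (hv : ∀ a a', a ≠ a' → (v a)⁻¹ * v a' ∉ WJ cs (Jx cs h X ρ)) (w : β → W)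
    (hw : ∀ b b', b ≠ b' → (w b)⁻¹ * w b' ∉ WJ cs J') :
    Fintype.card α * Module.finrank k (D cs h X ρ) +
      Fintype.card β * Module.finrank k (Le cs h T X ρ J' ⊓ Kv cs h R.nsys X ρ : Submodule k V) ≤
      Module.finrank k V := by
  choose g hg using fun w => exists_rp cs R.nsys w
  have h1 : ∀ a, ∀ x ∈ (D cs h X ρ).map (ρ (g (v a))),
      (∀ φ ∈ (fx (dualRep ρ) (UN cs h X)).map (dualRep ρ (g (v a))), φ x = 0) → x = 0 := by
    rintro a _ ⟨x, hx, rfl⟩ h0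
    by_contra hx0
    have hx0' : x ≠ 0 := fun h => hx0 (by rw [h, map_zero])
    obtain ⟨φ, hφ, hne⟩ := exists_pair_D R hirr hx hx0'
    apply hne
    have h2 := h0 _ ⟨φ, hφ, rfl⟩
    rwa [dualRep_apply, rho_inv_rho] at h2
  have h2 : ∀ a a', a ≠ a' → ∀ φ ∈ (fx (dualRep ρ) (UN cs h X)).map (dualRep ρ (g (v a))),
      ∀ x ∈ (D cs h X ρ).map (ρ (g (v a'))), φ x = 0 := by
    intro a a' haa φ hφ x hx
    by_contra hne
    exact hv a a' haa (vertex_pair R hirr (hg _) (hg _) hφ hx hne)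
  have h3 : ∀ b, ∀ x ∈ (Le cs h T X ρ J' ⊓ Kv cs h R.nsys X ρ : Submodule k V).map (ρ (g (w b))),
      (∀ φ ∈ (Les cs h T X ρ J').map (dualRep ρ (g (w b))), φ x = 0) → x = 0 := by
    rintro b _ ⟨x, hx, rfl⟩ h0
    have h4 : x = 0 := by
      refine pair_Le R hirr (J := J') hx.1 fun φ hφ => ?_
      have h2 := h0 _ ⟨φ, hφ, rfl⟩
      rwa [dualRep_apply, rho_inv_rho] at h2
    rw [h4, map_zero]
  have h4 : ∀ b b', b ≠ b' → ∀ φ ∈ (Les cs h T X ρ J').map (dualRep ρ (g (w b))),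
      ∀ x ∈ (Le cs h T X ρ J' ⊓ Kv cs h R.nsys X ρ : Submodule k V).map (ρ (g (w b'))), φ x = 0 := by
    rintro b b' hbb _ ⟨φ, hφ, rfl⟩ _ ⟨x, hx, rfl⟩
    rw [dualRep_apply, ← rho_mul]
    exact hF _ _ ((hg (w b)).inv.mul (hg (w b'))) (hw b b' hbb) φ hφ x hx.1 hx.2
  have e1 := sum_le_of_sep h1 h2
  have e2 := sum_le_of_sep h3 h4
  have hK : (⨆ b, (Le cs h T X ρ J' ⊓ Kv cs h R.nsys X ρ : Submodule k V).map (ρ (g (w b)))) ≤
      Kv cs h R.nsys X ρ := by
    refine iSup_le fun b => ?_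
    rintro _ ⟨x, hx, rfl⟩
    exact Kv_map (hg (w b)) hx.2
  have hdis : (⨆ a, (D cs h X ρ).map (ρ (g (v a)))) ⊓
      (⨆ b, (Le cs h T X ρ J' ⊓ Kv cs h R.nsys X ρ : Submodule k V).map (ρ (g (w b)))) = ⊥ := by
    rw [eq_bot_iff]
    rintro x ⟨hx, hx'⟩
    rw [Submodule.mem_bot]
    refine eq_zero_of_sep h1 h2 hx fun a φ hφ => ?_
    obtain ⟨ψ, hψ, rfl⟩ := hφ
    exact hK hx' _ _ (hg (v a)) ψ hψ
  have e3 := Submodule.finrank_sup_add_finrank_inf_eq (⨆ a, (D cs h X ρ).map (ρ (g (v a))))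
    (⨆ b, (Le cs h T X ρ J' ⊓ Kv cs h R.nsys X ρ : Submodule k V).map (ρ (g (w b))))
  rw [hdis, finrank_bot, add_zero] at e3
  have e4 := Submodule.finrank_le ((⨆ a, (D cs h X ρ).map (ρ (g (v a)))) ⊔
    (⨆ b, (Le cs h T X ρ J' ⊓ Kv cs h R.nsys X ρ : Submodule k V).map (ρ (g (w b)))))
  simp only [finrank_map, Finset.sum_const, Finset.card_univ, smul_eq_mul] at e1 e2
  omega

/-- **a face without interior is the sum of its vertices** -/
theorem face_le [Nontrivial V] {J' : Set I} (hF : Le cs h T X ρ J' ⊓ Kv cs h R.nsys X ρ = ⊥)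
    {g : W → Y} (hg : ∀ w, Rp cs R.nsys w (g w)) :
    Le cs h T X ρ J' ≤ ⨆ u : WJ cs J', (D cs h X ρ).map (ρ (g u)) := by
  classical
  -- the cosets of the face
  let Q : Type _ := {q : W ⧸ WJ cs (Jx cs h X ρ) // ∃ u ∈ WJ cs J', QuotientGroup.mk u = q}
  haveI : Finite Q := Subtype.finite
  letI : Fintype Q := Fintype.ofFinite Q
  choose u hu hq using fun q : Q => q.2
  have hne : ∀ q q' : Q, q ≠ q' → (u q)⁻¹ * u q' ∉ WJ cs (Jx cs h X ρ) := by
    intro q q' hqq hcon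
    apply hqq
    apply Subtype.ext
    rw [← hq q, ← hq q']
    exact QuotientGroup.eq.2 hcon
  have h2 : ∀ q q' : Q, q ≠ q' → ∀ φ ∈ (fx (dualRep ρ) (UN cs h X)).map (dualRep ρ (g (u q))),
      ∀ x ∈ (D cs h X ρ).map (ρ (g (u q'))), φ x = 0 := by
    intro a a' haa φ hφ x hx
    by_contra hne'
    exact hne a a' haa (vertex_pair R hirr (hg _) (hg _) hφ hx hne')
  set V0' := ⨆ q : Q, (D cs h X ρ).map (ρ (g (u q))) with hV0'
  set B := ⨆ q : Q, (fx (dualRep ρ) (UN cs h X)).map (dualRep ρ (g (u q))) with hB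
  have hle : V0' ≤ Le cs h T X ρ J' := by
    refine iSup_le fun q => ?_
    rintro _ ⟨v, hv, rfl⟩
    exact Ivt_Le R J' _ (rp_mem_LJ R (hu q) (hg (u q))) v (D_le_Le R J' hv)
  have hd1 : Module.finrank k (Le cs h T X ρ J') ≤ Module.finrank k B := by
    refine finrank_le_of_pair fun m hm h0 => ?_
    have hmK : m ∈ Kv cs h R.nsys X ρ := by
      intro w a ha φ hφ
      by_contra hne'
      obtain ⟨u', hu', hwJ⟩ := vertex_face R hirr ha hφ hm hne'
      -- the coset of `w` is that of `u'`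
      let q : Q := ⟨QuotientGroup.mk u', u', hu', rfl⟩
      have h3 : (u q)⁻¹ * w ∈ WJ cs (Jx cs h X ρ) := by
        have h4 : (u q)⁻¹ * u' ∈ WJ cs (Jx cs h X ρ) := QuotientGroup.eq.1 (hq q)
        have h5 : (u q)⁻¹ * w = ((u q)⁻¹ * u') * (u'⁻¹ * w) := by group
        rw [h5]
        exact mul_mem h4 hwJ
      -- so the functional is in `B`
      have h4 := map_eq_of_mem (opp R) (ρ := dualRep ρ) (hirr_opp R hirr) (w := u q) (w' := w) (hg (u q)) ha
        (by rw [Jx_opp R hirr]; exact h3)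
      rw [D_opp] at h4
      exact hne' (h0 _ ((le_iSup (fun q : Q => (fx (dualRep ρ) (UN cs h X)).map (dualRep ρ (g (u q)))) q)
        (h4 ⟨φ, hφ, rfl⟩)))
    have : m ∈ Le cs h T X ρ J' ⊓ Kv cs h R.nsys X ρ := ⟨hm, hmK⟩
    rw [hF, Submodule.mem_bot] at this
    exact this
  have hd2 : Module.finrank k B ≤ Module.finrank k V0' := by
    refine finrank_le_of_pair' fun φ hφ h0 => ?_
    obtain ⟨f, hf, rfl⟩ := exists_sum_of_mem_iSup hφ
    refine Finset.sum_eq_zero fun q _ => ?_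
    obtain ⟨ψ, hψ, hψf⟩ := hf q
    by_contra hne'
    have hψ0 : ψ ≠ 0 := by
      rintro rfl
      exact hne' (by rw [← hψf, map_zero])
    obtain ⟨v, hv, hv0⟩ := exists_pair_D' R hirr hψ hψ0
    apply hv0
    have h3 := h0 (ρ (g (u q)) v) ((le_iSup (fun q : Q => (D cs h X ρ).map (ρ (g (u q)))) q) ⟨v, hv, rfl⟩)
    rw [LinearMap.sum_apply, Finset.sum_eq_single q] at h3
    · rw [← hψf, dualRep_apply, rho_inv_rho] at h3
      exact h3
    · intro q' _ hqq
      exact h2 q' q hqq _ (hf q') _ ⟨v, hv, rfl⟩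
    · intro hq'; exact absurd (Finset.mem_univ q) hq'
  have h3 : V0' = Le cs h T X ρ J' := Submodule.eq_of_le_of_finrank_le hle (hd1.trans hd2)
  rw [← h3]
  exact iSup_le fun q => le_iSup (fun u : WJ cs J' => (D cs h X ρ).map (ρ (g u))) ⟨u q, hu q⟩

end

end Cfsg.Agent.H924.D5
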