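import Cfsg.Agent.H924.D5C

/-!
# Simple modules in the defining characteristic: labels (helper924)

`J^c = {i}`:
* `pair_zero`, `fixv`, `fixd`, `edgev`, `edged` : the action in terms of labels;
* `Kv_bound`, `top_of_Kv` : `V` is the sum of the vertices;
* `mem_vertex` : elements of a vertex by functionals;
* `exists_comm_ne` : root groups of an `A2`-subsystem do not commute.
-/

set_option autoImplicit false
set_option linter.unusedSectionVars false
set_option linter.style.haveILetI false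

namespace Cfsg.Agent.H924.D5

open CoxeterSystem Cfsg.Agent.ChevalleyStructure.CoxeterGeom Cfsg.Agent.Tits.Roots Cfsg.Agent.Tits.Core
  Cfsg.Agent.Tits.Exchange Cfsg.Agent.Nodes.Reps Cfsg.Agent.Nodes.BNOf Cfsg.Agent.Nodes.StabComb
  Cfsg.Agent.Nodes.Bruhat Cfsg.Agent.Nodes.OppDec Cfsg.Agent.Nodes.LeviDec Cfsg.Agent.KFacts.RgdOpp
  Cfsg.Agent.Omega.CR Cfsg.Agent.Omega.FOne.Lift.Sd Cfsg.Agent.H905.Md Cfsg.Agent.H905
open scoped commutatorElement

variable {I W Y : Type*} [Fintype I] [DecidableEq I] [Group W] [Group Y] {M : CoxeterMatrix I}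
  {cs : CoxeterSystem M W} {A : I → I → ℤ} {h : IsCartan M A} {p : ℕ} {T : Subgroup Y} {n : I → Y}
  {X : (I → ℤ) → Subgroup Y}

variable {k V : Type*} [Field k] [AddCommGroup V] [Module k V]

/-- the pairing of a label and a root -/
def pr (μ x : I → ℤ) : ℤ := ∑ m, x m * μ m

theorem rep_inv_coord' (i : I) (w : W) (x : I → ℤ) : rep cs h w⁻¹ x i = pr (lb cs h i w) x := rep_inv_coord i w x

section

variable (R : RGD cs h p T n X) [Finite Y] [Finite W] [Fact p.Prime] [CharP k p]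
  {ρ : Y →* Module.End k V} [FiniteDimensional k V]

section comm

include R

omit [Fact p.Prime] in
/-- **root groups of an `A2`-subsystem do not commute** -/
theorem exists_comm_ne {i j : I} (hij : i ≠ j) (hA : A j i = -1) :
    ∃ a ∈ X (sr i), ∃ b ∈ X (sr j), ⁅a, b⁆ ≠ 1 := by
  by_contra hcon
  push Not at hcon
  have hir := isRoot_sr cs h i
  have hjr := isRoot_sr cs h j
  have hneg : ∀ a ∈ X (sr i), ∀ b ∈ X (-sr j), ⁅a, b⁆ = 1 := by
    intro a ha b hb
    have h1 := R.comm (sr i) (-sr j) hir hjr.neg (by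
      intro e
      have := congrFun e i
      rw [sr_self, Pi.neg_apply, sr_ne hij] at this
      omega) (by
      rw [neg_neg]
      intro e
      have := congrFun e i
      rw [sr_self, sr_ne hij] at this
      omega) a ha b hb
    have h2 : btw cs h X (sr i) (-sr j) = ⊥ := by
      unfold Nodes.Reps.btw
      rw [iSup_eq_bot]
      rintro ⟨z, hz, m, c, d, hm, hc, hd, he⟩
      exfalso
      have e1 := congrFun he i
      have e2 := congrFun he j
      simp only [Pi.smul_apply, Pi.add_apply, Pi.neg_apply, smul_eq_mul, sr_self, sr_ne hij, sr_ne hij.symm] at e1 e2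
      rcases hz.pos_or_neg with h3 | h3
      · have h4 : 0 ≤ m * z j := mul_nonneg hm.le (h3 j)
        linarith
      · have h4 : m * z i ≤ 0 := mul_nonpos_of_nonneg_of_nonpos hm.le (h3 i)
        linarith
    rw [h2, Subgroup.mem_bot] at h1
    exact h1
  obtain ⟨u, hu, hu1⟩ := (X (-sr j)).bot_or_exists_ne_one.resolve_left (X_ne_bot R hjr.neg)
  obtain ⟨a, ha, t, ht, b, hb, e⟩ := R.rk1 j u hu hu1
  have hcomm : ∀ {x y : Y}, ⁅x, y⁆ = 1 → y * x = x * y := by
    intro x y hxy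
    rw [commutatorElement_eq_one_iff_mul_comm] at hxy
    exact hxy.symm
  have h1 : cj (n j) (X (sr i)) ≤ X (sr i) := by
    intro y hy
    rw [mem_cj] at hy
    set x := (n j)⁻¹ * y * n j with hx
    have e1 : n j = t⁻¹ * (a⁻¹ * (u * b⁻¹)) := by rw [e]; group
    have e2 : y = n j * x * (n j)⁻¹ := by rw [hx]; group
    have c1 : u * x = x * u := hcomm (hneg x hy u hu)
    have c2 : b⁻¹ * x = x * b⁻¹ := hcomm (hcon x hy _ (inv_mem hb))
    have c3 : a⁻¹ * x = x * a⁻¹ := hcomm (hcon x hy _ (inv_mem ha))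
    have e3 : n j * x * (n j)⁻¹ = t⁻¹ * x * t⁻¹⁻¹ := by
      rw [e1]
      have : a⁻¹ * (u * b⁻¹) * x = x * (a⁻¹ * (u * b⁻¹)) := by
        calc a⁻¹ * (u * b⁻¹) * x = a⁻¹ * u * (b⁻¹ * x) := by group
          _ = a⁻¹ * (u * x) * b⁻¹ := by rw [c2]; group
          _ = (a⁻¹ * x) * u * b⁻¹ := by rw [c1]; group
          _ = _ := by rw [c3]; group
      calc t⁻¹ * (a⁻¹ * (u * b⁻¹)) * x * (t⁻¹ * (a⁻¹ * (u * b⁻¹)))⁻¹
          = t⁻¹ * (a⁻¹ * (u * b⁻¹) * x) * (t⁻¹ * (a⁻¹ * (u * b⁻¹)))⁻¹ := by group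
        _ = _ := by rw [this]; group
    rw [e2, e3, ← R.tor _ hir t⁻¹ (inv_mem ht)]
    exact conj_mem_cj.2 hy
  have h2 : cj (n j) (X (sr i)) = X (sr i) := by
    have h3 : Nat.card (cj (n j) (X (sr i))) = Nat.card (X (sr i)) :=
      Nat.card_congr ((X (sr i)).equivMapOfInjective _ (MulAut.conj (n j)).injective).toEquiv.symm
    exact Subgroup.eq_of_le_of_card_ge h1 h3.ge
  rw [R.conj j _ hir] at h2
  have h3 := X_injective R (hir.act _) hir h2
  have h4 := congrFun h3 j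
  rw [rep_simple_apply_self, sr_ne hij.symm, sr, pairing_single, hA] at h4
  omega

end comm

variable (hirr : ∀ L : Submodule k V, Ivt ρ (GG cs h T X) L → L = ⊥ ∨ L = ⊤)
include R hirr

/-! ### the action in terms of labels -/

section labels

variable [Nontrivial V] {i : I} (hJ : ∀ j, j ∉ Jx cs h X ρ ↔ j = i)
include hJ

theorem map_eq_of_lb {w w' : W} {g g' : Y} (hg : Rp cs R.nsys w g) (hg' : Rp cs R.nsys w' g')
    (he : lb cs h i w = lb cs h i w') : (D cs h X ρ).map (ρ g) = (D cs h X ρ).map (ρ g') :=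
  le_antisymm (map_eq_of_mem R hirr hg' hg ((mem_WJ_iff_lb hJ).2 he.symm))
    (map_eq_of_mem R hirr hg hg' ((mem_WJ_iff_lb hJ).2 he))

theorem map_eq_of_lb' {w w' : W} {g g' : Y} (hg : Rp cs R.nsys w g) (hg' : Rp cs R.nsys w' g')
    (he : lb cs h i w = lb cs h i w') :
    (fx (dualRep ρ) (UN cs h X)).map (dualRep ρ g) = (fx (dualRep ρ) (UN cs h X)).map (dualRep ρ g') := by
  have h1 := map_eq_of_lb (opp R) (ρ := dualRep ρ) (hirr_opp R hirr) (i := i) (by rw [Jx_opp R hirr]; exact hJ)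
    hg hg' he
  rwa [D_opp] at h1

theorem pair_zero {w w' : W} {g g' : Y} (hg : Rp cs R.nsys w g) (hg' : Rp cs R.nsys w' g')
    (hne : lb cs h i w ≠ lb cs h i w') {φ : Module.Dual k V}
    (hφ : φ ∈ (fx (dualRep ρ) (UN cs h X)).map (dualRep ρ g)) {v : V} (hv : v ∈ (D cs h X ρ).map (ρ g')) :
    φ v = 0 := by
  by_contra h0
  exact hne ((mem_WJ_iff_lb hJ).1 (vertex_pair R hirr hg hg' hφ hv h0))

theorem fixv {w : W} {g : Y} (hg : Rp cs R.nsys w g) {x : I → ℤ} (hx : IsRoot cs h x)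
    (h0 : 0 ≤ pr (lb cs h i w) x) {b : Y} (hb : b ∈ X x) {v : V} (hv : v ∈ (D cs h X ρ).map (ρ g)) :
    ρ b v = v := by
  obtain ⟨v, hv, rfl⟩ := hv
  exact fix_vertex R hirr (fun j hj => (hJ j).1 hj) hg hx (by rw [rep_inv_coord']; exact h0) hb hv

theorem fixd {w : W} {g : Y} (hg : Rp cs R.nsys w g) {x : I → ℤ} (hx : IsRoot cs h x)
    (h0 : pr (lb cs h i w) x ≤ 0) {b : Y} (hb : b ∈ X x) {φ : Module.Dual k V}
    (hφ : φ ∈ (fx (dualRep ρ) (UN cs h X)).map (dualRep ρ g)) : dualRep ρ b φ = φ := by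
  obtain ⟨φ, hφ, rfl⟩ := hφ
  exact fix_dual R hirr (fun j hj => (hJ j).1 hj) hg hx (by rw [rep_inv_coord']; exact h0) hb hφ

/-- the values of a root element -/
theorem fixd_apply {w : W} {g : Y} (hg : Rp cs R.nsys w g) {x : I → ℤ} (hx : IsRoot cs h x)
    (h0 : pr (lb cs h i w) x ≤ 0) {b : Y} (hb : b ∈ X x) {φ : Module.Dual k V}
    (hφ : φ ∈ (fx (dualRep ρ) (UN cs h X)).map (dualRep ρ g)) (v : V) : φ (ρ b v) = φ v := by
  have h1 := fixd R hirr hJ hg hx h0 (inv_mem hb) hφ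
  have h2 := congrArg (fun ψ : Module.Dual k V => ψ v) h1
  simpa [dualRep_apply] using h2

variable (hd : Module.finrank k (Le cs h T X ρ {i}) ≤ 2 * Module.finrank k (D cs h X ρ))
include hd

theorem edgev {w w' : W} {g g' : Y} (hg : Rp cs R.nsys w g) (hg' : Rp cs R.nsys w' g') (ω : List I)
    (h1 : lb cs h i w = lbw A i ω) (h2 : lb cs h i w' = lbw A i (ω ++ [i])) {x : I → ℤ} (hx : IsRoot cs h x)
    (h3 : rww A ω (Pi.single i 1) = -x) {b : Y} (hb : b ∈ X x) {v : V} (hv : v ∈ (D cs h X ρ).map (ρ g)) :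
    ρ b v ∈ (D cs h X ρ).map (ρ g) ⊔ (D cs h X ρ).map (ρ g') := by
  obtain ⟨g0, hg0⟩ := exists_rp cs R.nsys (cs.wordProd ω)
  have e1 := map_eq_of_lb R hirr hJ hg hg0 (by rw [h1, lb_wordProd])
  have hg1 := hg0.mul (rp_simple cs R.nsys i)
  have e2 := map_eq_of_lb R hirr hJ hg' hg1 (by
    rw [h2, ← lb_wordProd (cs := cs) (h := h), cs.wordProd_append, cs.wordProd_singleton])
  rw [e1] at hv ⊢
  rw [e2]
  obtain ⟨v, hv, rfl⟩ := hv
  refine edge_move R hirr ((hJ i).2 rfl) hd hg0 hx ?_ hb hv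
  have h4 : rep cs h (cs.wordProd ω) (sr i) = -x := by rw [rep_wordProd]; exact h3
  have h5 : x = rep cs h (cs.wordProd ω) (-sr i) := by rw [map_neg, h4, neg_neg]
  rw [h5, rep_inv_apply]

theorem edged {w w' : W} {g g' : Y} (hg : Rp cs R.nsys w g) (hg' : Rp cs R.nsys w' g') (ω : List I)
    (h1 : lb cs h i w = lbw A i ω) (h2 : lb cs h i w' = lbw A i (ω ++ [i])) {x : I → ℤ} (hx : IsRoot cs h x)
    (h3 : rww A ω (Pi.single i 1) = x) {b : Y} (hb : b ∈ X x) {φ : Module.Dual k V}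
    (hφ : φ ∈ (fx (dualRep ρ) (UN cs h X)).map (dualRep ρ g)) :
    dualRep ρ b φ ∈ (fx (dualRep ρ) (UN cs h X)).map (dualRep ρ g) ⊔
      (fx (dualRep ρ) (UN cs h X)).map (dualRep ρ g') := by
  have h4 := edgev (opp R) (ρ := dualRep ρ) (hirr_opp R hirr) (i := i) (by rw [Jx_opp R hirr]; exact hJ)
    (by rw [finrank_Le_opp R hirr, finrank_D_opp R hirr]; exact hd) hg hg' ω h1 h2 (x := -x) hx.neg
    (by rw [h3, neg_neg]) (b := b) (by change b ∈ X (- -x); rw [neg_neg]; exact hb) (v := φ)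
    (by rw [D_opp]; exact hφ)
  rwa [D_opp] at h4

/-- a root element at a dual edge -/
theorem edged_apply {w w' w'' : W} {g g' g'' : Y} (hg : Rp cs R.nsys w g) (hg' : Rp cs R.nsys w' g')
    (hg'' : Rp cs R.nsys w'' g'') (ω : List I)
    (h1 : lb cs h i w = lbw A i ω) (h2 : lb cs h i w' = lbw A i (ω ++ [i])) {x : I → ℤ} (hx : IsRoot cs h x)
    (h3 : rww A ω (Pi.single i 1) = x) {b : Y} (hb : b ∈ X x) {φ : Module.Dual k V}
    (hφ : φ ∈ (fx (dualRep ρ) (UN cs h X)).map (dualRep ρ g)) {v : V} (hv : v ∈ (D cs h X ρ).map (ρ g''))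
    (h4 : lb cs h i w ≠ lb cs h i w'') (h5 : lb cs h i w' ≠ lb cs h i w'') : φ (ρ b v) = 0 := by
  have h6 := edged R hirr hJ hd hg hg' ω h1 h2 hx h3 (inv_mem hb) hφ
  obtain ⟨α, hα, β, hβ, e⟩ := Submodule.mem_sup.1 h6
  have h7 := congrArg (fun ψ : Module.Dual k V => ψ v) e
  simp only [LinearMap.add_apply, dualRep_apply, inv_inv] at h7
  rw [← h7, pair_zero R hirr hJ hg hg'' h4 hα hv, pair_zero R hirr hJ hg' hg'' h5 hβ hv, add_zero]

end labels

/-! ### sums of vertices -/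

theorem Kv_bound [Nontrivial V] (S : List I) (hS : ∀ i ∈ S, i ∉ Jx cs h X ρ) (L : List (List I))
    (hL : (L.map fun ω => S.map fun i => lbw A i ω).Nodup) :
    L.length * Module.finrank k (D cs h X ρ) + Module.finrank k (Kv cs h R.nsys X ρ) ≤ Module.finrank k V := by
  have h1 := face_bound R hirr (J' := Set.univ) (fun u g _ hu => absurd (by rw [WJ_univ]; trivial) hu)
    (α := Fin L.length) (β := Unit) (fun a => cs.wordProd (L.get a)) (by
    intro a a' haa hcon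
    apply haa
    have h2 := List.nodup_iff_injective_get.1 hL
    have h3 : (⟨a, by rw [List.length_map]; exact a.2⟩ :
        Fin (L.map fun ω => S.map fun i => lbw A i ω).length) = ⟨a', by rw [List.length_map]; exact a'.2⟩ := by
      apply h2
      simp only [List.get_eq_getElem, List.getElem_map]
      refine List.map_congr_left fun i hi => ?_
      have := lb_eq_of_mem (h := h) (hS i hi) hcon
      rw [lb_wordProd, lb_wordProd] at this
      exact this
    have h4 := congrArg Fin.val h3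
    exact Fin.ext h4) (fun _ => 1) (fun b b' hbb => absurd (Subsingleton.elim b b') hbb)
  have h2 : Le cs h T X ρ Set.univ = ⊤ := by
    refine (hirr _ ?_).resolve_left ?_
    · rw [← LJ_univ]
      exact Ivt_Le R Set.univ
    · intro h0
      have h3 := D_le_Le R (ρ := ρ) Set.univ
      rw [h0, le_bot_iff] at h3
      exact (simp_fx R ρ hirr).ne h3
  rw [h2, top_inf_eq, Fintype.card_fin, Fintype.card_unit, one_mul] at h1
  exact h1

theorem top_of_Kv [Nontrivial V] (hK : Kv cs h R.nsys X ρ = ⊥) {g : W → Y} (hg : ∀ w, Rp cs R.nsys w (g w)) :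
    (⨆ w, (D cs h X ρ).map (ρ (g w))) = ⊤ := by
  have h2 : Le cs h T X ρ Set.univ = ⊤ := by
    refine (hirr _ ?_).resolve_left ?_
    · rw [← LJ_univ]
      exact Ivt_Le R Set.univ
    · intro h0
      have h3 := D_le_Le R (ρ := ρ) Set.univ
      rw [h0, le_bot_iff] at h3
      exact (simp_fx R ρ hirr).ne h3
  have h1 := face_le R hirr (J' := Set.univ) (by rw [hK, inf_bot_eq]) hg
  rw [h2, top_le_iff] at h1
  rw [eq_top_iff, ← h1]
  exact iSup_le fun u => le_iSup (fun w => (D cs h X ρ).map (ρ (g w))) u.1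

/-- the values of the functionals of a vertex are taken by an element of the vertex -/
theorem exists_D [Nontrivial V] (v : V) :
    ∃ c ∈ D cs h X ρ, ∀ φ ∈ fx (dualRep ρ) (UN cs h X), φ c = φ v := by
  let Φ : D cs h X ρ →ₗ[k] Module.Dual k (fx (dualRep ρ) (UN cs h X)) :=
    { toFun := fun c =>
        { toFun := fun φ => φ.1 c.1
          map_add' := fun _ _ => rfl
          map_smul' := fun _ _ => rfl }
      map_add' := fun a b => by
        ext φ
        exact map_add φ.1 a.1 b.1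
      map_smul' := fun a b => by
        ext φ
        exact map_smul φ.1 a b.1 }
  have hΦ : Function.Injective Φ := by
    rw [injective_iff_map_eq_zero]
    intro c hc
    apply Subtype.ext
    by_contra hne
    obtain ⟨φ, hφ, hφ0⟩ := exists_pair_D R hirr c.2 hne
    exact hφ0 (congrArg (fun f : Module.Dual k (fx (dualRep ρ) (UN cs h X)) => f ⟨φ, hφ⟩) hc)
  have hs : Function.Surjective Φ := by
    refine LinearMap.range_eq_top.1 (Submodule.eq_top_of_finrank_eq ?_)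
    rw [LinearMap.finrank_range_of_inj hΦ]
    exact (finrank_Ds R hirr).symm.trans
      (Subspace.dual_finrank_eq (K := k) (V := fx (dualRep ρ) (UN cs h X))).symm
  obtain ⟨c, hc⟩ := hs
    { toFun := fun φ => φ.1 v
      map_add' := fun _ _ => rfl
      map_smul' := fun _ _ => rfl }
  exact ⟨c.1, c.2, fun φ hφ => congrArg (fun f : Module.Dual k (fx (dualRep ρ) (UN cs h X)) => f ⟨φ, hφ⟩) hc⟩

/-- **elements of a vertex by functionals** -/
theorem mem_vertex [Nontrivial V] {i : I} (hJ : ∀ j, j ∉ Jx cs h X ρ ↔ j = i) (hK : Kv cs h R.nsys X ρ = ⊥)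
    {w : W} {g : Y} (hg : Rp cs R.nsys w g) {v : V}
    (hv : ∀ w' g', Rp cs R.nsys w' g' → lb cs h i w' ≠ lb cs h i w →
      ∀ φ ∈ (fx (dualRep ρ) (UN cs h X)).map (dualRep ρ g'), φ v = 0) : v ∈ (D cs h X ρ).map (ρ g) := by
  obtain ⟨c, hc, he⟩ := exists_D R hirr (ρ g⁻¹ v)
  have h1 : v - ρ g c ∈ Kv cs h R.nsys X ρ := by
    intro w' g' hg' φ hφ
    rw [map_sub, sub_eq_zero]
    by_cases hne : lb cs h i w' = lb cs h i w
    · have h2 := map_eq_of_lb' R hirr hJ hg' hg hne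
      have h3 : dualRep ρ g' φ ∈ (fx (dualRep ρ) (UN cs h X)).map (dualRep ρ g) := by
        rw [← h2]
        exact ⟨φ, hφ, rfl⟩
      obtain ⟨ψ, hψ, e⟩ := h3
      rw [← e, dualRep_apply, dualRep_apply, rho_inv_rho, he ψ hψ]
    · rw [hv w' g' hg' hne _ ⟨φ, hφ, rfl⟩, pair_zero R hirr hJ hg' hg hne ⟨φ, hφ, rfl⟩ ⟨c, hc, rfl⟩]
  rw [hK, Submodule.mem_bot, sub_eq_zero] at h1
  rw [h1]
  exact ⟨c, hc, rfl⟩

/-- the functionals separate -/
theorem eq_zero_of_vertices [Nontrivial V] (hK : Kv cs h R.nsys X ρ = ⊥) {v : V}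
    (hv : ∀ w g, Rp cs R.nsys w g → ∀ φ ∈ (fx (dualRep ρ) (UN cs h X)).map (dualRep ρ g), φ v = 0) : v = 0 := by
  have h1 : v ∈ Kv cs h R.nsys X ρ := fun w g hg φ hφ => hv w g hg _ ⟨φ, hφ, rfl⟩
  rwa [hK, Submodule.mem_bot] at h1

/-- the dimension of a sum of vertices -/
theorem finrank_le_words [Nontrivial V] {i : I} (hJ : ∀ j, j ∉ Jx cs h X ρ ↔ j = i)
    {g : W → Y} (hg : ∀ w, Rp cs R.nsys w (g w)) (htop : (⨆ w, (D cs h X ρ).map (ρ (g w))) = ⊤)
    (L : List (List I)) (hL : ∀ w, ∃ ω ∈ L, lb cs h i w = lbw A i ω) :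
    Module.finrank k V ≤ L.length * Module.finrank k (D cs h X ρ) := by
  have h1 : (⨆ w, (D cs h X ρ).map (ρ (g w))) ≤
      ⨆ a : Fin L.length, (D cs h X ρ).map (ρ (g (cs.wordProd (L.get a)))) := by
    refine iSup_le fun w => ?_
    obtain ⟨ω, hω, e⟩ := hL w
    obtain ⟨a, ha⟩ := List.mem_iff_get.1 hω
    rw [map_eq_of_lb R hirr hJ (hg w) (hg (cs.wordProd (L.get a))) (by rw [e, ha, lb_wordProd])]
    exact le_iSup (fun a : Fin L.length => (D cs h X ρ).map (ρ (g (cs.wordProd (L.get a))))) a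
  rw [htop, top_le_iff] at h1
  have h2 := finrank_iSup_le fun a : Fin L.length => (D cs h X ρ).map (ρ (g (cs.wordProd (L.get a))))
  rw [h1, finrank_top] at h2
  simpa only [finrank_map, Finset.sum_const, Finset.card_univ, smul_eq_mul, Fintype.card_fin] using h2

omit hirr in
/-- a root element fixing a vector of `D` -/
theorem mem_Jx_of_fix [Nontrivial V] (hirr : ∀ L : Submodule k V, Ivt ρ (GG cs h T X) L → L = ⊥ ∨ L = ⊤)
    {i : I} {u : Y} (hu : u ∈ X (-sr i)) (hu1 : u ≠ 1) {v : V}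
    (hv : v ∈ D cs h X ρ) (hv0 : v ≠ 0) (he : ρ u v = v) : i ∈ Jx cs h X ρ := by
  by_contra hi
  obtain ⟨a, ha, t, ht, b, hb, e⟩ := R.rk1 i u hu hu1
  have h1 : n i = t⁻¹ * (a⁻¹ * (u * b⁻¹)) := by rw [e]; group
  have h2 : ρ (n i) v = ρ t⁻¹ v := by
    rw [h1, rho_mul, rho_mul, rho_mul, X_fix R ρ hv i (inv_mem hb), he, X_fix R ρ hv i (inv_mem ha)]
  have h3 : ρ (n i) v ∈ D cs h X ρ := by
    rw [h2]
    exact D_ivt R hirr t⁻¹ (inv_mem ht) v hv
  have h4 := D_inf R hirr (rp_one (cs := cs) (hN := R.nsys)) (rp_simple cs R.nsys i) (by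
      rw [inv_one, one_mul]
      exact fun h2 => hi (simple_mem_WJ h h2))
  have h5 : ρ (n i) v ∈ (D cs h X ρ).map (ρ 1) ⊓ (D cs h X ρ).map (ρ (n i)) :=
    ⟨by rw [map_one]; exact ⟨_, h3, rfl⟩, ⟨v, hv, rfl⟩⟩
  rw [h4, Submodule.mem_bot] at h5
  exact rho_ne_zero ρ _ hv0 h5

end

end Cfsg.Agent.H924.D5
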