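import Cfsg.Agent.H924.D5D
import Cfsg.Agent.H905.DCTypes

/-!
# Type `B3` (and `C3`): the Weyl group (helper924)

The two Cartan matrices of type `CoxeterMatrix.B 3`; vertices, edges, faces and roots by words.
-/

set_option autoImplicit false
set_option linter.unusedSectionVars false
set_option linter.style.haveILetI false
set_option linter.style.longLine false

namespace Cfsg.Agent.H924.D5.B

open CoxeterSystem Cfsg.Agent.ChevalleyStructure.CoxeterGeom Cfsg.Agent.Tits.Roots Cfsg.Agent.Tits.Core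
  Cfsg.Agent.Tits.Exchange Cfsg.Agent.Nodes.Reps Cfsg.Agent.Nodes.BNOf Cfsg.Agent.Nodes.StabComb
  Cfsg.Agent.Nodes.Bruhat Cfsg.Agent.Nodes.OppDec Cfsg.Agent.Nodes.LeviDec Cfsg.Agent.KFacts.RgdOpp
  Cfsg.Agent.Omega.CR Cfsg.Agent.Omega.FOne.Lift.Sd Cfsg.Agent.H905.Md Cfsg.Agent.H905

/-- the second Cartan matrix -/
def cC3 : Fin 3 → Fin 3 → ℤ := ![![2, -1, 0], ![-1, 2, -1], ![0, -2, 2]]

theorem cartan_B3 {A : Fin 3 → Fin 3 → ℤ} (h : IsCartan (CoxeterMatrix.B 3) A) : A = DC.cB3 ∨ A = cC3 := by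
  have m01 : (CoxeterMatrix.B 3) 0 1 = 3 := by decide +kernel
  have m02 : (CoxeterMatrix.B 3) 0 2 = 2 := by decide +kernel
  have m12 : (CoxeterMatrix.B 3) 1 2 = 4 := by decide +kernel
  have d0 := h.diag 0
  have d1 := h.diag 1
  have d2 := h.diag 2
  have r01 : A 0 1 = -1 ∧ A 1 0 = -1 := by
    have := h.rel 0 1 (by decide)
    rw [m01] at this
    omega
  have r02 : A 0 2 = 0 ∧ A 2 0 = 0 := by
    have := h.rel 0 2 (by decide)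
    rw [m02] at this
    omega
  have r12 : (A 1 2 = -1 ∧ A 2 1 = -2) ∨ (A 1 2 = -2 ∧ A 2 1 = -1) := by
    have := h.rel 1 2 (by decide)
    rw [m12] at this
    omega
  rcases r12 with r | r
  · right
    funext i j
    fin_cases i <;> fin_cases j <;>
      simp [cC3, d0, d1, d2, r01.1, r01.2, r02.1, r02.2, r.1, r.2]
  · left
    funext i j
    fin_cases i <;> fin_cases j <;>
      simp [DC.cB3, d0, d1, d2, r01.1, r01.2, r02.1, r02.2, r.1, r.2]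

/-- words -/
def p01 : List (List (Fin 3)) := [[], [0], [1], [0, 1], [1, 0], [2, 1], [0, 1, 0], [1, 2, 1], [2, 0, 1], [2, 1, 0], [0, 1, 2, 1], [1, 2, 0, 1], [1, 2, 1, 0]]
/-- words -/
def p02 : List (List (Fin 3)) := [[], [0], [2], [1, 0], [1, 2], [2, 0], [0, 1, 2], [1, 2, 0], [2, 1, 0], [2, 1, 2], [0, 1, 2, 0], [1, 2, 1, 0], [2, 0, 1, 2]]
/-- words -/
def p12 : List (List (Fin 3)) := [[], [1], [2], [0, 1], [1, 2], [2, 1], [0, 1, 2], [1, 2, 1], [2, 0, 1], [2, 1, 2], [0, 1, 2, 1], [1, 2, 0, 1], [2, 0, 1, 2]]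
/-- words -/
def l0 : List (List (Fin 3)) := [[], [0], [1, 0], [2, 1, 0], [1, 2, 1, 0], [0, 1, 2, 1, 0]]
/-- words -/
def l1 : List (List (Fin 3)) := [[], [1], [0, 1], [2, 1], [1, 2, 1], [2, 0, 1], [0, 1, 2, 1], [1, 2, 0, 1], [0, 1, 2, 0, 1], [2, 1, 2, 0, 1], [2, 0, 1, 2, 0, 1], [1, 2, 0, 1, 2, 0, 1]]
/-- words -/
def l2 : List (List (Fin 3)) := [[], [2], [1, 2], [0, 1, 2], [2, 1, 2], [2, 0, 1, 2], [1, 2, 0, 1, 2], [2, 1, 2, 0, 1, 2]]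
/-- words -/
def e1 : List (List (Fin 3)) := [[], [0], [2], [1, 0], [1, 2], [2, 0], [0, 1, 2], [1, 2, 0], [2, 1, 0], [2, 1, 2], [0, 1, 2, 0], [1, 2, 1, 0], [2, 0, 1, 2], [2, 1, 2, 0], [0, 1, 2, 1, 0], [1, 2, 0, 1, 2], [2, 0, 1, 2, 0], [2, 1, 2, 1, 0], [1, 2, 0, 1, 2, 0], [2, 0, 1, 2, 1, 0], [2, 1, 2, 0, 1, 2], [1, 2, 0, 1, 2, 1, 0], [2, 1, 2, 0, 1, 2, 0], [2, 1, 2, 0, 1, 2, 1, 0]]
/-- words -/
def e2 : List (List (Fin 3)) := [[], [1], [0, 1], [2, 1], [1, 2, 1], [2, 0, 1], [0, 1, 2, 1], [1, 2, 0, 1], [0, 1, 2, 0, 1], [2, 1, 2, 0, 1], [2, 0, 1, 2, 0, 1], [1, 2, 0, 1, 2, 0, 1]]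
/-- the roots -/
def rl : List (List (Fin 3) × Fin 3) := [([], 0), ([], 1), ([], 2), ([0], 0), ([1], 0), ([1], 1), ([2], 1), ([1], 2), ([2], 2), ([1, 0], 0), ([2, 1], 0), ([2, 1], 1), ([0, 1], 2), ([1, 2], 2), ([2, 1, 0], 0), ([1, 2, 1], 0), ([0, 1, 2], 2), ([1, 2, 1, 0], 0)]

/-- the vector of a root word -/
def rv (A : Fin 3 → Fin 3 → ℤ) (q : List (Fin 3) × Fin 3) : Fin 3 → ℤ := rww A q.1 (Pi.single q.2 1)

variable {A : Fin 3 → Fin 3 → ℤ} (h : IsCartan (CoxeterMatrix.B 3) A)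
include h

theorem np01 : (p01.map fun ω => [(0 : Fin 3), 1].map fun i => lbw A i ω).Nodup := by
  rcases cartan_B3 h with rfl | rfl <;> decide +kernel

theorem np02 : (p02.map fun ω => [(0 : Fin 3), 2].map fun i => lbw A i ω).Nodup := by
  rcases cartan_B3 h with rfl | rfl <;> decide +kernel

theorem np12 : (p12.map fun ω => [(1 : Fin 3), 2].map fun i => lbw A i ω).Nodup := by
  rcases cartan_B3 h with rfl | rfl <;> decide +kernel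

theorem nl1 : (l1.map (lbw A 1)).Nodup := by
  rcases cartan_B3 h with rfl | rfl <;> decide +kernel

theorem nl2 : (l2.map (lbw A 2)).Nodup := by
  rcases cartan_B3 h with rfl | rfl <;> decide +kernel

theorem nl0 : (l0.map (lbw A 0)).Nodup := by
  rcases cartan_B3 h with rfl | rfl <;> decide +kernel

theorem ne1 : (e1.map fun ω => (rww A ω (Pi.single 1 1), lbw A 1 ω)).Nodup := by
  rcases cartan_B3 h with rfl | rfl <;> decide +kernel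

theorem ne2 : (e2.map fun ω => (rww A ω (Pi.single 2 1), lbw A 2 ω)).Nodup := by
  rcases cartan_B3 h with rfl | rfl <;> decide +kernel

theorem pe1 : ∀ ω ∈ e1, ∀ l, 0 ≤ rww A ω (Pi.single 1 1) l := by
  rcases cartan_B3 h with rfl | rfl <;> decide +kernel

theorem pe2 : ∀ ω ∈ e2, ∀ l, 0 ≤ rww A ω (Pi.single 2 1) l := by
  rcases cartan_B3 h with rfl | rfl <;> decide +kernel

theorem cl0 : ∀ j, ∀ ω ∈ l0, ∃ ω' ∈ l0, DC.fire A (lbw A 0 ω) j = lbw A 0 ω' := by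
  rcases cartan_B3 h with rfl | rfl <;> decide +kernel

theorem cl1 : ∀ j, ∀ ω ∈ l1, ∃ ω' ∈ l1, DC.fire A (lbw A 1 ω) j = lbw A 1 ω' := by
  rcases cartan_B3 h with rfl | rfl <;> decide +kernel

theorem cl2 : ∀ j, ∀ ω ∈ l2, ∃ ω' ∈ l2, DC.fire A (lbw A 2 ω) j = lbw A 2 ω' := by
  rcases cartan_B3 h with rfl | rfl <;> decide +kernel

theorem crl : ∀ j, ∀ q ∈ rl, ∃ q' ∈ rl, rf A j (rv A q) = rv A q' := by
  rcases cartan_B3 h with rfl | rfl <;> decide +kernel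

theorem perp : ∀ q ∈ rl, rv A q 0 = 0 → (∀ l, 0 ≤ rv A q l) → 0 < rv A q 1 →
    (∀ l, 0 ≤ rf A 0 (rv A q) l) ∧ 0 < rf A 0 (rv A q) 0 := by
  rcases cartan_B3 h with rfl | rfl <;> decide +kernel

theorem opp0 : ∀ q ∈ rl, rv A q 0 = 0 → rww A [0, 1, 2, 1, 0] (rv A q) = rv A q := by
  rcases cartan_B3 h with rfl | rfl <;> decide +kernel

theorem oppJ : lbw A 2 [0, 1, 2, 1, 0] ≠ Pi.single 2 1 := by
  rcases cartan_B3 h with rfl | rfl <;> decide +kernel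

theorem not2 : ∀ q ∈ rl, (∀ l, 0 ≤ rv A q l) → 0 < rv A q 2 →
    ∃ ω ∈ [[], [0], [1], [0, 1], [1, 0], [0, 1, 0]], (rww A ω.reverse (rv A q)) 0 = 0 := by
  rcases cartan_B3 h with rfl | rfl <;> decide +kernel

/-- node `1`: the labels -/
theorem lab1 : lbw A 1 [1, 2, 0, 1, 0] ≠ lbw A 1 [2, 0, 1, 0] ∧
    rww A [1, 2, 0, 1, 0] (Pi.single 1 1) = -(rww A [0] (Pi.single 1 1)) ∧
    rww A [2, 0, 1, 0] (Pi.single 1 1) = -(Pi.single 0 1) ∧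
    0 ≤ pr (lbw A 1 [1, 2, 0, 1, 0]) (Pi.single 0 1) ∧
    0 ≤ pr (lbw A 1 [2, 0, 1, 0]) (rww A [0] (Pi.single 1 1)) ∧
    lbw A 1 [1, 2, 0, 1, 0] ≠ lbw A 1 [2, 0, 1, 0, 1] ∧
    lbw A 1 [1, 2, 0, 1, 0, 1] ≠ lbw A 1 [2, 0, 1, 0] ∧
    lbw A 1 [1, 2, 0, 1, 0, 1] ≠ lbw A 1 [2, 0, 1, 0, 1] := by
  rcases cartan_B3 h with rfl | rfl <;> decide +kernel

theorem lab1' : ∀ ω ∈ l1, pr (lbw A 1 ω) (Pi.single 1 1) ≤ 0 ∨ lbw A 1 ω = lbw A 1 [2, 0, 1, 0] ∨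
    ∃ ω' ∈ [[], [0, 1, 2, 1, 0], [2, 1, 2], [2, 1, 2, 0, 1, 2, 1, 0]], lbw A 1 ω = lbw A 1 ω' ∧
      rww A ω' (Pi.single 1 1) = Pi.single 1 1 ∧ lbw A 1 ω' ≠ lbw A 1 [1, 2, 0, 1, 0] ∧
      lbw A 1 (ω' ++ [1]) ≠ lbw A 1 [1, 2, 0, 1, 0] := by
  rcases cartan_B3 h with rfl | rfl <;> decide +kernel

/-- a root between `α_0` and `α_1` -/
theorem btw01 : ∀ q ∈ rl, 0 < rv A q 0 → 0 < rv A q 1 → rv A q 2 = 0 → rv A q = rww A [0] (Pi.single 1 1) := by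
  rcases cartan_B3 h with rfl | rfl <;> decide +kernel

theorem rl0 : ∀ i, ∃ q ∈ rl, (Pi.single i 1 : Fin 3 → ℤ) = rv A q := by
  rcases cartan_B3 h with rfl | rfl <;> decide +kernel

/-- every root is in the list -/
theorem mem_rl {W : Type*} [Group W] {cs : CoxeterSystem (CoxeterMatrix.B 3) W} {x : Fin 3 → ℤ}
    (hx : IsRoot cs h x) : ∃ q ∈ rl, x = rv A q := by
  have h1 := root_of_closed (cs := cs) (h := h) (rl.map (rv A)) (fun i => by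
    obtain ⟨q, hq, e⟩ := rl0 h i
    rw [e]
    exact List.mem_map_of_mem hq) (fun j x hx => by
    obtain ⟨q, hq, rfl⟩ := List.mem_map.1 hx
    obtain ⟨q', hq', e⟩ := crl h j q hq
    rw [e]
    exact List.mem_map_of_mem hq') hx
  obtain ⟨q, hq, e⟩ := List.mem_map.1 h1
  exact ⟨q, hq, e.symm⟩

end Cfsg.Agent.H924.D5.B
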