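import Cfsg.Agent.H924.D5D
import Cfsg.Agent.H905.DCTypes

/-!
# Type `D4`: simple modules of dimension at most 12 (helper924)

* **`cases`** : `dim V ≤ 12` and not trivial: `J^c = {i}`, `i ≠ 1` an end node, and `dim V = 8`, `V` is the sum of the
  vertices.
-/

set_option autoImplicit false
set_option linter.unusedSectionVars false
set_option linter.style.haveILetI false
set_option linter.style.longLine false

namespace Cfsg.Agent.H924.D5.D4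

open CoxeterSystem Cfsg.Agent.ChevalleyStructure.CoxeterGeom Cfsg.Agent.Tits.Roots Cfsg.Agent.Tits.Core
  Cfsg.Agent.Tits.Exchange Cfsg.Agent.Nodes.Reps Cfsg.Agent.Nodes.BNOf Cfsg.Agent.Nodes.StabComb
  Cfsg.Agent.Nodes.Bruhat Cfsg.Agent.Nodes.OppDec Cfsg.Agent.Nodes.LeviDec Cfsg.Agent.KFacts.RgdOpp
  Cfsg.Agent.Omega.CR Cfsg.Agent.Omega.FOne.Lift.Sd Cfsg.Agent.H905.Md Cfsg.Agent.H905

theorem cartan_D4 {A : Fin 4 → Fin 4 → ℤ} (h : IsCartan (Nodes.TypeD.M 2) A) : A = DC.cD4 := by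
  have key : ∀ i j : Fin 4, DC.cD4 i j ≠ -2 ∧ DC.cD4 i j ≠ -3 := by decide +kernel
  funext i j
  by_cases hij : i = j
  · subst hij
    rw [h.diag, DC.isCartan_cD4.diag]
  · have h1 := h.rel i j hij
    have h2 := DC.isCartan_cD4.rel i j hij
    have h3 := key i j
    have h4 := key j i
    omega

/-- words -/
def p01 : List (List (Fin 4)) := [[], [0], [1], [0, 1], [1, 0], [2, 1], [3, 1], [0, 1, 0], [2, 0, 1], [2, 1, 0], [3, 0, 1], [3, 1, 0], [3, 2, 1]]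
/-- words -/
def p02 : List (List (Fin 4)) := [[], [0], [2], [1, 0], [1, 2], [2, 0], [0, 1, 2], [1, 2, 0], [2, 1, 0], [3, 1, 0], [3, 1, 2], [0, 1, 2, 0], [1, 2, 1, 0]]
/-- words -/
def p03 : List (List (Fin 4)) := [[], [0], [3], [1, 0], [1, 3], [3, 0], [0, 1, 3], [1, 3, 0], [2, 1, 0], [2, 1, 3], [3, 1, 0], [0, 1, 3, 0], [1, 3, 1, 0]]
/-- words -/
def p12 : List (List (Fin 4)) := [[], [1], [2], [0, 1], [1, 2], [2, 1], [3, 1], [0, 1, 2], [1, 2, 1], [2, 0, 1], [3, 0, 1], [3, 1, 2], [3, 2, 1]]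
/-- words -/
def p13 : List (List (Fin 4)) := [[], [1], [3], [0, 1], [1, 3], [2, 1], [3, 1], [0, 1, 3], [1, 3, 1], [2, 0, 1], [2, 1, 3], [3, 0, 1], [3, 2, 1]]
/-- words -/
def p23 : List (List (Fin 4)) := [[], [2], [3], [1, 2], [1, 3], [3, 2], [0, 1, 2], [0, 1, 3], [1, 3, 2], [2, 1, 3], [3, 1, 2], [0, 1, 3, 2], [1, 3, 1, 2]]
/-- words -/
def l0 : List (List (Fin 4)) := [[], [0], [1, 0], [2, 1, 0], [3, 1, 0], [3, 2, 1, 0], [1, 3, 2, 1, 0], [0, 1, 3, 2, 1, 0]]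
/-- words -/
def l1 : List (List (Fin 4)) := [[], [1], [0, 1], [2, 1], [3, 1], [2, 0, 1], [3, 0, 1], [3, 2, 1], [1, 2, 0, 1], [1, 3, 0, 1], [1, 3, 2, 1], [3, 2, 0, 1], [0, 1, 3, 2, 1], [1, 3, 2, 0, 1], [2, 1, 3, 0, 1], [3, 1, 2, 0, 1], [0, 1, 3, 2, 0, 1], [1, 3, 1, 2, 0, 1], [2, 1, 3, 2, 0, 1], [0, 1, 3, 1, 2, 0, 1], [2, 0, 1, 3, 2, 0, 1], [2, 1, 3, 1, 2, 0, 1], [2, 0, 1, 3, 1, 2, 0, 1], [1, 2, 0, 1, 3, 1, 2, 0, 1]]
/-- words -/
def l2 : List (List (Fin 4)) := [[], [2], [1, 2], [0, 1, 2], [3, 1, 2], [3, 0, 1, 2], [1, 3, 0, 1, 2], [2, 1, 3, 0, 1, 2]]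
/-- words -/
def l3 : List (List (Fin 4)) := [[], [3], [1, 3], [0, 1, 3], [2, 1, 3], [2, 0, 1, 3], [1, 2, 0, 1, 3], [3, 1, 2, 0, 1, 3]]
/-- words -/
def e0 : List (List (Fin 4)) := [[], [1], [0, 1], [2, 1], [3, 1], [2, 0, 1], [3, 0, 1], [3, 2, 1], [1, 2, 0, 1], [1, 3, 0, 1], [1, 3, 2, 1], [3, 2, 0, 1], [0, 1, 3, 2, 1], [1, 3, 2, 0, 1], [2, 1, 3, 0, 1], [3, 1, 2, 0, 1], [0, 1, 3, 2, 0, 1], [1, 3, 1, 2, 0, 1], [2, 1, 3, 2, 0, 1], [0, 1, 3, 1, 2, 0, 1], [2, 0, 1, 3, 2, 0, 1], [2, 1, 3, 1, 2, 0, 1], [2, 0, 1, 3, 1, 2, 0, 1], [1, 2, 0, 1, 3, 1, 2, 0, 1]]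
/-- words -/
def u0 : List (List (Fin 4)) := [[], [1], [2, 1], [3, 1], [3, 2, 1], [1, 3, 2, 1]]
/-- words -/
def e2 : List (List (Fin 4)) := [[], [1], [0, 1], [2, 1], [3, 1], [2, 0, 1], [3, 0, 1], [3, 2, 1], [1, 2, 0, 1], [1, 3, 0, 1], [1, 3, 2, 1], [3, 2, 0, 1], [0, 1, 3, 2, 1], [1, 3, 2, 0, 1], [2, 1, 3, 0, 1], [3, 1, 2, 0, 1], [0, 1, 3, 2, 0, 1], [1, 3, 1, 2, 0, 1], [2, 1, 3, 2, 0, 1], [0, 1, 3, 1, 2, 0, 1], [2, 0, 1, 3, 2, 0, 1], [2, 1, 3, 1, 2, 0, 1], [2, 0, 1, 3, 1, 2, 0, 1], [1, 2, 0, 1, 3, 1, 2, 0, 1]]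
/-- words -/
def u2 : List (List (Fin 4)) := [[], [1], [0, 1], [3, 1], [3, 0, 1], [1, 3, 0, 1]]
/-- words -/
def e3 : List (List (Fin 4)) := [[], [1], [0, 1], [2, 1], [3, 1], [2, 0, 1], [3, 0, 1], [3, 2, 1], [1, 2, 0, 1], [1, 3, 0, 1], [1, 3, 2, 1], [3, 2, 0, 1], [0, 1, 3, 2, 1], [1, 3, 2, 0, 1], [2, 1, 3, 0, 1], [3, 1, 2, 0, 1], [0, 1, 3, 2, 0, 1], [1, 3, 1, 2, 0, 1], [2, 1, 3, 2, 0, 1], [0, 1, 3, 1, 2, 0, 1], [2, 0, 1, 3, 2, 0, 1], [2, 1, 3, 1, 2, 0, 1], [2, 0, 1, 3, 1, 2, 0, 1], [1, 2, 0, 1, 3, 1, 2, 0, 1]]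
/-- words -/
def u3 : List (List (Fin 4)) := [[], [1], [0, 1], [2, 1], [2, 0, 1], [1, 2, 0, 1]]
/-- the roots -/
def rl : List (List (Fin 4) × Fin 4) := [([], 0), ([], 1), ([], 2), ([], 3), ([0], 0), ([1], 0), ([1], 1), ([2], 1), ([3], 1), ([2], 2), ([3], 3), ([1, 0], 0), ([2, 1], 0), ([3, 1], 0), ([2, 1], 1), ([3, 1], 1), ([3, 2], 1), ([2, 1, 0], 0), ([3, 1, 0], 0), ([3, 2, 1], 0), ([3, 2, 1], 1), ([3, 2, 1, 0], 0), ([1, 3, 2, 1], 0), ([1, 3, 2, 1, 0], 0)]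

/-- the vector of a root word -/
def rv (q : List (Fin 4) × Fin 4) : Fin 4 → ℤ := rww DC.cD4 q.1 (Pi.single q.2 1)

theorem np01 : (p01.map fun ω => [(0 : Fin 4), 1].map fun i => lbw DC.cD4 i ω).Nodup := by decide +kernel
theorem np02 : (p02.map fun ω => [(0 : Fin 4), 2].map fun i => lbw DC.cD4 i ω).Nodup := by decide +kernel
theorem np03 : (p03.map fun ω => [(0 : Fin 4), 3].map fun i => lbw DC.cD4 i ω).Nodup := by decide +kernel
theorem np12 : (p12.map fun ω => [(1 : Fin 4), 2].map fun i => lbw DC.cD4 i ω).Nodup := by decide +kernel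
theorem np13 : (p13.map fun ω => [(1 : Fin 4), 3].map fun i => lbw DC.cD4 i ω).Nodup := by decide +kernel
theorem np23 : (p23.map fun ω => [(2 : Fin 4), 3].map fun i => lbw DC.cD4 i ω).Nodup := by decide +kernel

/-- the vertices -/
def lL (i : Fin 4) : List (List (Fin 4)) := if i = 0 then l0 else if i = 1 then l1 else if i = 2 then l2 else l3
/-- the edges -/
def eL (i : Fin 4) : List (List (Fin 4)) := if i = 0 then e0 else if i = 2 then e2 else e3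
/-- the roots outside `J` -/
def uL (i : Fin 4) : List (List (Fin 4)) := if i = 0 then u0 else if i = 2 then u2 else u3

theorem nl : ∀ i, ((lL i).map (lbw DC.cD4 i)).Nodup := by decide +kernel
theorem cl : ∀ i, ∀ j, ∀ ω ∈ lL i, ∃ ω' ∈ lL i, DC.fire DC.cD4 (lbw DC.cD4 i ω) j = lbw DC.cD4 i ω' := by
  decide +kernel
theorem ne : ∀ i, i ≠ 1 → ((eL i).map fun ω => (rww DC.cD4 ω (Pi.single i 1), lbw DC.cD4 i ω)).Nodup := by
  decide +kernel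
theorem pe : ∀ i, i ≠ 1 → ∀ ω ∈ eL i, ∀ l, 0 ≤ rww DC.cD4 ω (Pi.single i 1) l := by decide +kernel
theorem crl : ∀ j, ∀ q ∈ rl, ∃ q' ∈ rl, rf DC.cD4 j (rv q) = rv q' := by decide +kernel
theorem rl0 : ∀ i, ∃ q ∈ rl, (Pi.single i 1 : Fin 4 → ℤ) = rv q := by decide +kernel
theorem notJ : ∀ i, i ≠ 1 → ∀ q ∈ rl, (∀ l, 0 ≤ rv q l) → 0 < rv q i →
    ∃ ω ∈ uL i, (∀ j ∈ ω, j ≠ i) ∧ ∀ l, l ≠ i → rww DC.cD4 ω.reverse (rv q) l = 0 := by decide +kernel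

theorem mem_rl {W : Type*} [Group W] {cs : CoxeterSystem (Nodes.TypeD.M 2) W}
    {h : IsCartan (Nodes.TypeD.M 2) DC.cD4} {x : Fin 4 → ℤ}
    (hx : IsRoot cs h x) : ∃ q ∈ rl, x = rv q := by
  have h1 := root_of_closed (cs := cs) (h := h) (rl.map rv) (fun i => by
    obtain ⟨q, hq, e⟩ := rl0 i
    rw [e]
    exact List.mem_map_of_mem hq) (fun j x hx => by
    obtain ⟨q, hq, rfl⟩ := List.mem_map.1 hx
    obtain ⟨q', hq', e⟩ := crl j q hq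
    rw [e]
    exact List.mem_map_of_mem hq') hx
  obtain ⟨q, hq, e⟩ := List.mem_map.1 h1
  exact ⟨q, hq, e.symm⟩

variable {W Y : Type*} [Group W] [Group Y] {cs : CoxeterSystem (Nodes.TypeD.M 2) W}
  {h : IsCartan (Nodes.TypeD.M 2) DC.cD4} {p : ℕ} {T : Subgroup Y} {n : Fin 4 → Y}
  {X : (Fin 4 → ℤ) → Subgroup Y} {k V : Type*} [Field k] [AddCommGroup V] [Module k V]

variable (R : RGD cs h p T n X) [Finite Y] [Finite W] [Fact p.Prime] [CharP k p]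
  {ρ : Y →* Module.End k V} [FiniteDimensional k V]
  (hirr : ∀ L : Submodule k V, Ivt ρ (GG cs h T X) L → L = ⊥ ∨ L = ⊤)
include R hirr

theorem D_pos [Nontrivial V] : 0 < Module.finrank k (D cs h X ρ) := by
  have h1 : D cs h X ρ ≠ ⊥ := (simp_fx R ρ hirr).ne
  exact Module.finrank_pos_iff.2 ((Submodule.nontrivial_iff_ne_bot).2 h1)

theorem not_two [Nontrivial V] (hV : Module.finrank k V ≤ 12) {i j : Fin 4} (hij : i ≠ j)
    (hi : i ∉ Jx cs h X ρ) (hj : j ∉ Jx cs h X ρ) : False := by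
  have hD := D_pos R hirr
  have key : ∀ (S : List (Fin 4)) (L : List (List (Fin 4))), (∀ i ∈ S, i ∉ Jx cs h X ρ) → L.length = 13 →
      (L.map fun ω => S.map fun i => lbw DC.cD4 i ω).Nodup → False := by
    intro S L hS hl hL
    have h1 := length_le R hirr S hS L hL
    rw [hl] at h1
    omega
  have h01 : ¬ ((0 : Fin 4) ∉ Jx cs h X ρ ∧ (1 : Fin 4) ∉ Jx cs h X ρ) := fun hc =>
    key [0, 1] p01 (by simpa using hc) rfl np01
  have h02 : ¬ ((0 : Fin 4) ∉ Jx cs h X ρ ∧ (2 : Fin 4) ∉ Jx cs h X ρ) := fun hc =>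
    key [0, 2] p02 (by simpa using hc) rfl np02
  have h03 : ¬ ((0 : Fin 4) ∉ Jx cs h X ρ ∧ (3 : Fin 4) ∉ Jx cs h X ρ) := fun hc =>
    key [0, 3] p03 (by simpa using hc) rfl np03
  have h12 : ¬ ((1 : Fin 4) ∉ Jx cs h X ρ ∧ (2 : Fin 4) ∉ Jx cs h X ρ) := fun hc =>
    key [1, 2] p12 (by simpa using hc) rfl np12
  have h13 : ¬ ((1 : Fin 4) ∉ Jx cs h X ρ ∧ (3 : Fin 4) ∉ Jx cs h X ρ) := fun hc =>
    key [1, 3] p13 (by simpa using hc) rfl np13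
  have h23 : ¬ ((2 : Fin 4) ∉ Jx cs h X ρ ∧ (3 : Fin 4) ∉ Jx cs h X ρ) := fun hc =>
    key [2, 3] p23 (by simpa using hc) rfl np23
  fin_cases i <;> fin_cases j
  · exact hij rfl
  · exact h01 ⟨hi, hj⟩
  · exact h02 ⟨hi, hj⟩
  · exact h03 ⟨hi, hj⟩
  · exact h01 ⟨hj, hi⟩
  · exact hij rfl
  · exact h12 ⟨hi, hj⟩
  · exact h13 ⟨hi, hj⟩
  · exact h02 ⟨hj, hi⟩
  · exact h12 ⟨hj, hi⟩
  · exact hij rfl
  · exact h23 ⟨hi, hj⟩
  · exact h03 ⟨hj, hi⟩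
  · exact h13 ⟨hj, hi⟩
  · exact h23 ⟨hj, hi⟩
  · exact hij rfl

theorem edge [Nontrivial V] {i : Fin 4} (hi1 : i ≠ 1) (hJ : ∀ j, j ∉ Jx cs h X ρ ↔ j = i)
    (hV : Module.finrank k V ≤ 12) :
    Module.finrank k (D cs h X ρ) = 1 ∧ 8 ≤ Module.finrank k V ∧
      Module.finrank k (Le cs h T X ρ {i}) ≤ 2 * Module.finrank k (D cs h X ρ) := by
  have hi : i ∉ Jx cs h X ρ := (hJ i).2 rfl
  have h1 := length_le_edges R hirr hi (lL i) (nl i) (eL i) (ne i hi1) (pe i hi1)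
  have hD := D_pos R hirr
  have hl : (lL i).length = 8 := by
    have : ∀ i : Fin 4, i ≠ 1 → (lL i).length = 8 := by decide +kernel
    exact this i hi1
  have he : (eL i).length = 24 := by
    have : ∀ i : Fin 4, i ≠ 1 → (eL i).length = 24 := by decide +kernel
    exact this i hi1
  rw [hl, he] at h1
  have := finrank_Io R hirr i
  refine ⟨?_, ?_, ?_⟩ <;> omega

theorem top [Nontrivial V] {i : Fin 4} (hi1 : i ≠ 1) (hJ : ∀ j, j ∉ Jx cs h X ρ ↔ j = i)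
    (hV : Module.finrank k V ≤ 12)
    {g : W → Y} (hg : ∀ w, Rp cs R.nsys w (g w)) : (⨆ w, (D cs h X ρ).map (ρ (g w))) = ⊤ := by
  obtain ⟨-, -, hLe⟩ := edge R hirr hi1 hJ hV
  have hi : i ∉ Jx cs h X ρ := (hJ i).2 rfl
  refine V0_eq_top' R hirr hg fun x hx => ?_
  obtain ⟨q, hq, e⟩ := mem_rl hx.1
  obtain ⟨l, hl, hl0⟩ := hx.2.2
  rw [hJ] at hl
  subst hl
  have hx0 : ∀ l, 0 ≤ rv q l := by rw [← e]; exact hx.2.1
  rw [e] at hl0
  obtain ⟨ω, hω, hωJ, hω0⟩ := notJ l hi1 q hq hx0 hl0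
  refine ⟨cs.wordProd ω, word_mem_WJ ?_, {l}, ⟨hx.1.act _, fun j hj => ?_⟩, ?_⟩
  · intro j hj
    by_contra hj'
    rw [hJ] at hj'
    exact hωJ j hj hj'
  · rw [rep_wordProd_inv, e]
    exact hω0 j hj
  · refine (edge_le R hirr hi hLe).trans (sup_le ?_ ?_)
    · have h1 := map_eq_of_mem R hirr (hg 1) rp_one (by rw [inv_one, one_mul]; exact one_mem _)
      rw [map_one] at h1
      have h2 : (D cs h X ρ).map (1 : Module.End k V) = D cs h X ρ := Submodule.map_id _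
      rw [h2] at h1
      exact h1.trans (le_iSup (fun w => (D cs h X ρ).map (ρ (g w))) 1)
    · exact (map_eq_of_mem R hirr (hg (cs.simple l)) (rp_simple cs R.nsys l)
        (by rw [inv_mul_cancel]; exact one_mem _)).trans
        (le_iSup (fun w => (D cs h X ρ).map (ρ (g w))) (cs.simple l))

/-- **type `D4`: simple modules of dimension at most `12`** -/
theorem cases [Nontrivial V] (hV : Module.finrank k V ≤ 12) {i : Fin 4} (hi : i ∉ Jx cs h X ρ) :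
    i ≠ 1 ∧ (∀ j, j ∉ Jx cs h X ρ ↔ j = i) ∧ Module.finrank k V = 8 := by
  have hJ : ∀ j, j ∉ Jx cs h X ρ ↔ j = i := by
    intro j
    refine ⟨fun hj => ?_, fun e => e ▸ hi⟩
    by_contra hne
    exact not_two R hirr hV hne hj hi
  have hi1 : i ≠ 1 := by
    intro e
    subst e
    have h1 := length_le_edges R hirr hi (lL 1) (nl 1) [] (by simp) (by simp)
    have hD := D_pos R hirr
    have hl : (lL 1).length = 24 := by decide +kernel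
    rw [hl] at h1
    simp at h1
    omega
  refine ⟨hi1, hJ, ?_⟩
  obtain ⟨hd, h8, -⟩ := edge R hirr hi1 hJ hV
  choose g hg using fun w => exists_rp cs R.nsys w
  have h1 := finrank_le_words R hirr hJ hg (top R hirr hi1 hJ hV hg) (lL i)
    (orbit_of_closed (cs := cs) (h := h) i (lL i) (by
      have : ∀ i : Fin 4, ∃ ω ∈ lL i, (Pi.single i 1 : Fin 4 → ℤ) = lbw DC.cD4 i ω := by decide +kernel
      exact this i) (cl i))
  have hl : (lL i).length = 8 := by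
    have : ∀ i : Fin 4, i ≠ 1 → (lL i).length = 8 := by decide +kernel
    exact this i hi1
  rw [hl, hd] at h1
  omega

end Cfsg.Agent.H924.D5.D4
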