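import Cfsg.Agent.H924.D5D

/-!
# Frames and forms (helper924)

`Fr8 R ρ i` : `J^c = {i}`, the module is the sum of one dimensional vertices, root elements move a vertex to at most one
other vertex, which is not the opposite one, and `-1` is in the Weyl group.

* `Fr8.form_zero` : an invariant form is zero on non-opposite vertices;
* `Fr8.quad_zero` : an invariant quadratic form is zero on the vertices;
* `Fr8.singular` : totally singular subspaces.
-/

set_option autoImplicit false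
set_option linter.unusedSectionVars false
set_option linter.style.haveILetI false

namespace Cfsg.Agent.H924.D5

open CoxeterSystem Cfsg.Agent.ChevalleyStructure.CoxeterGeom Cfsg.Agent.Tits.Roots Cfsg.Agent.Tits.Core
  Cfsg.Agent.Tits.Exchange Cfsg.Agent.Nodes.Reps Cfsg.Agent.Nodes.BNOf Cfsg.Agent.Nodes.StabComb
  Cfsg.Agent.Nodes.Bruhat Cfsg.Agent.Nodes.OppDec Cfsg.Agent.Nodes.LeviDec Cfsg.Agent.KFacts.RgdOpp
  Cfsg.Agent.Omega.CR Cfsg.Agent.Omega.FOne.Lift.Sd Cfsg.Agent.H905.Md Cfsg.Agent.H905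

variable {I W Y : Type*} [Fintype I] [DecidableEq I] [Group W] [Group Y] {M : CoxeterMatrix I}
  {cs : CoxeterSystem M W} {A : I → I → ℤ} {h : IsCartan M A} {p : ℕ} {T : Subgroup Y} {n : I → Y}
  {X : (I → ℤ) → Subgroup Y}

variable {k V : Type*} [Field k] [AddCommGroup V] [Module k V]

theorem lb_eq_neg {i : I} {w w' : W} (he : lb cs h i w' = -lb cs h i w) (z : I → ℤ) :
    rep cs h (w'⁻¹ * w) z i = -z i := by
  have h1 := rep_inv_coord (cs := cs) (h := h) i w' (rep cs h w z)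
  have h2 := rep_inv_coord (cs := cs) (h := h) i w (rep cs h w z)
  rw [rep_inv_apply] at h2
  rw [rep_mul_apply, h1, he, h2, ← Finset.sum_neg_distrib]
  refine Finset.sum_congr rfl fun m _ => ?_
  rw [Pi.neg_apply, mul_neg]

/-- a frame of vertices -/
structure Fr8 (R : RGD cs h p T n X) (ρ : Y →* Module.End k V) (i : I) : Prop where
  hJ : ∀ j, j ∉ Jx cs h X ρ ↔ j = i
  hK : Kv cs h R.nsys X ρ = ⊥
  hD : Module.finrank k (D cs h X ρ) = 1
  hLe : Module.finrank k (Le cs h T X ρ {i}) ≤ 2 * Module.finrank k (D cs h X ρ)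
  mv : ∀ w g, Rp cs R.nsys w g → ∀ x, IsRoot cs h x → ∀ b ∈ X x, ∀ v ∈ (D cs h X ρ).map (ρ g), ∃ w' g',
    Rp cs R.nsys w' g' ∧ lb cs h i w' ≠ -lb cs h i w ∧ ρ b v ∈ (D cs h X ρ).map (ρ g) ⊔ (D cs h X ρ).map (ρ g')
  w0 : ∃ w0 : W, ∀ x, rep cs h w0 x = -x
  ne : lb cs h i (cs.simple i) ≠ -lb cs h i 1

section

variable {R : RGD cs h p T n X} [Finite Y] [Finite W] [Fact p.Prime] [CharP k p]
  {ρ : Y →* Module.End k V} [FiniteDimensional k V] [Nontrivial V]
  (hirr : ∀ L : Submodule k V, Ivt ρ (GG cs h T X) L → L = ⊥ ∨ L = ⊤)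
  {i : I} (fr : Fr8 R ρ i)
include hirr fr

omit [Finite Y] [Finite W] [Fact p.Prime] [CharP k p] [FiniteDimensional k V] [Nontrivial V] hirr in
theorem Fr8.lb_mul_w0 {w0 : W} (hw0 : ∀ x, rep cs h w0 x = -x) (w : W) : lb cs h i (w * w0) = -lb cs h i w := by
  funext m
  change rep cs h (w * w0)⁻¹ (sr m) i = -(rep cs h w⁻¹ (sr m) i)
  have h1 : rep cs h w0⁻¹ (rep cs h w⁻¹ (sr m)) = -rep cs h w⁻¹ (sr m) := by
    have h2 := rep_inv_apply cs h w0 (-rep cs h w⁻¹ (sr m))
    rw [hw0, neg_neg] at h2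
    exact h2
  rw [mul_inv_rev, rep_mul_apply, h1, Pi.neg_apply]

/-- **an invariant form is zero on vertices which are not opposite** -/
theorem Fr8.form_zero {L : V → Module.Dual k V} (hL : ∀ g c v, L (ρ g c) (ρ g v) = L c v)
    {w w' : W} {g g' : Y} (hg : Rp cs R.nsys w g) (hg' : Rp cs R.nsys w' g') (hne : lb cs h i w' ≠ -lb cs h i w)
    {c : V} (hc : c ∈ (D cs h X ρ).map (ρ g)) {v : V} (hv : v ∈ (D cs h X ρ).map (ρ g')) : L c v = 0 := by
  obtain ⟨w0, hw0⟩ := fr.w0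
  obtain ⟨g0, hg0⟩ := exists_rp cs R.nsys w0
  obtain ⟨c0, hc0, rfl⟩ := hc
  have hU : ∀ b ∈ RGD.Sup X (RGD.Pos cs h), dualRep ρ b (L c0) = L c0 := by
    intro b hb
    ext v
    rw [dualRep_apply, ← hL b c0 (ρ b⁻¹ v), hc0 b hb, rho_rho_inv]
  have h1 : dualRep ρ g0⁻¹ (L c0) ∈ fx (dualRep ρ) (UN cs h X) := by
    refine mem_fx_Sup fun x hx b hb => ?_
    have h2 := R.conj_mem hg0 hx.1 hb
    rw [hw0] at h2
    have h3 := hU _ (RGD.le_Sup (S := RGD.Pos cs h) ⟨hx.1.neg, neg_nonneg.2 hx.2⟩ h2)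
    have e : dualRep ρ b (dualRep ρ g0⁻¹ (L c0)) = dualRep ρ g0⁻¹ (dualRep ρ (g0 * b * g0⁻¹) (L c0)) := by
      rw [← rho_mul, ← rho_mul]
      congr 2
      group
    rw [e, h3]
  have h2 : L (ρ g c0) ∈ (fx (dualRep ρ) (UN cs h X)).map (dualRep ρ (g * g0)) := by
    refine ⟨_, h1, ?_⟩
    rw [← rho_mul, mul_assoc, mul_inv_cancel, mul_one]
    ext v
    rw [dualRep_apply, ← hL g c0 (ρ g⁻¹ v), rho_rho_inv]
  refine pair_zero R hirr fr.hJ (hg.mul hg0) hg' ?_ h2 hv
  rw [fr.lb_mul_w0 hw0]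
  exact fun e => hne e.symm

omit hirr in
/-- a nonzero element of a vertex spans it -/
theorem Fr8.exists_smul {g : Y} {c v : V} (hc : c ∈ (D cs h X ρ).map (ρ g)) (hc0 : c ≠ 0)
    (hv : v ∈ (D cs h X ρ).map (ρ g)) : ∃ a : k, a • c = v := by
  have h1 : Module.finrank k ((D cs h X ρ).map (ρ g)) = 1 := by rw [finrank_map, fr.hD]
  obtain ⟨a, ha⟩ := (finrank_eq_one_iff_of_nonzero' (⟨c, hc⟩ : (D cs h X ρ).map (ρ g)) (by
    intro h
    exact hc0 (congrArg Subtype.val h))).1 h1 ⟨v, hv⟩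
  exact ⟨a, congrArg Subtype.val ha⟩

/-- **an invariant quadratic form is zero on the vertices** -/
theorem Fr8.quad_zero {Q : V → k} {L : V → Module.Dual k V} (hQs : ∀ (a : k) v, Q (a • v) = a ^ 2 * Q v)
    (hQa : ∀ v w, Q (v + w) = Q v + Q w + L v w) (hQ : ∀ g v, Q (ρ g v) = Q v)
    {w : W} {g : Y} (_hg : Rp cs R.nsys w g) {v : V} (hv : v ∈ (D cs h X ρ).map (ρ g)) : Q v = 0 := by
  have hL : ∀ g c v, L (ρ g c) (ρ g v) = L c v := by
    intro g c v
    have h1 := hQa (ρ g c) (ρ g v)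
    rw [← map_add, hQ, hQ, hQ, hQa] at h1
    exact (add_left_cancel h1).symm
  have hi : i ∉ Jx cs h X ρ := (fr.hJ i).2 rfl
  obtain ⟨c, hc, hc0⟩ := (Submodule.ne_bot_iff _).1 (simp_fx R ρ hirr).ne
  obtain ⟨b, hb, hb1⟩ := (X (-sr i)).bot_or_exists_ne_one.resolve_left (X_ne_bot R (isRoot_sr cs h i).neg)
  -- `b c = c + c'`
  have h1 := edge_move R hirr hi fr.hLe (rp_one (cs := cs) (hN := R.nsys)) (isRoot_sr cs h i).neg
    (by rw [inv_one, map_one]; rfl) hb hc
  rw [one_mul, map_one] at h1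
  obtain ⟨a, ha, c', hc', e⟩ := Submodule.mem_sup.1 h1
  have ha' : a ∈ D cs h X ρ := by
    obtain ⟨a', ha', rfl⟩ := ha
    exact ha'
  have e1 : a = c := by
    rw [← sub_eq_zero]
    by_contra hne
    obtain ⟨φ, hφ, hφ0⟩ := exists_pair_D R hirr (Submodule.sub_mem _ ha' hc) hne
    apply hφ0
    have h2 : φ c' = 0 := pair_zero R hirr fr.hJ (rp_one (cs := cs) (hN := R.nsys)) (rp_simple cs R.nsys i) (by
      intro he
      have := (mem_WJ_iff_lb fr.hJ).2 he
      rw [inv_one, one_mul] at this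
      exact hi (simple_mem_WJ h this)) (by rw [map_one]; exact ⟨φ, hφ, rfl⟩) hc'
    have h3 := congrArg φ e
    change φ (a + c') = φ (ρ b c) at h3
    rw [map_add, h2, add_zero, dual_fx_pair R hφ (X_le_UN (isRoot_sr cs h i).neg (neg_nonpos.2 (sr_nonneg i)) hb)] at h3
    rw [map_sub, h3, sub_self]
  rw [e1] at e
  have hc'0 : c' ≠ 0 := by
    intro h0
    rw [h0, add_zero] at e
    exact hi (mem_Jx_of_fix R hirr hb hb1 hc hc0 e.symm)
  have h2 : L c c' = 0 := fr.form_zero hirr hL (rp_one (cs := cs) (hN := R.nsys)) (rp_simple cs R.nsys i) fr.ne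
    (by rw [map_one]; exact ⟨c, hc, rfl⟩) hc'
  have h3 : Q c' = 0 := by
    have h4 := hQ b c
    change Q (ρ b c) = Q c at h4
    change c + c' = ρ b c at e
    rw [← e, hQa, h2, add_zero] at h4
    exact left_eq_add.1 h4.symm
  -- transport
  obtain ⟨c'', hc'', rfl⟩ := hc'
  rw [hQ] at h3
  obtain ⟨v', hv', rfl⟩ := hv
  have hc''0 : c'' ≠ 0 := by
    rintro rfl
    exact hc'0 (map_zero _)
  obtain ⟨a, ha⟩ := fr.exists_smul (g := 1) (c := c'') (v := v') (by rw [map_one]; exact ⟨c'', hc'', rfl⟩) hc''0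
    (by rw [map_one]; exact ⟨v', hv', rfl⟩)
  rw [hQ, ← ha, hQs, h3, mul_zero]

/-- **totally singular subspaces** -/
theorem Fr8.singular {Q : V → k} {L : V → Module.Dual k V} (hQs : ∀ (a : k) v, Q (a • v) = a ^ 2 * Q v)
    (hQa : ∀ v w, Q (v + w) = Q v + Q w + L v w) (hQ : ∀ g v, Q (ρ g v) = Q v)
    (S : List (List I)) (hS : (S.map (lbw A i)).Nodup)
    (hS2 : ∀ ω ∈ S, ∀ ω' ∈ S, lbw A i ω ≠ -lbw A i ω') :
    ∃ N : Submodule k V, S.length ≤ Module.finrank k N ∧ ∀ v ∈ N, Q v = 0 := by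
  classical
  have hL : ∀ g c v, L (ρ g c) (ρ g v) = L c v := by
    intro g c v
    have h1 := hQa (ρ g c) (ρ g v)
    rw [← map_add, hQ, hQ, hQ, hQa] at h1
    exact (add_left_cancel h1).symm
  choose g hg using fun w => exists_rp cs R.nsys w
  have hinj : ∀ a a' : Fin S.length, a ≠ a' → lbw A i (S.get a) ≠ lbw A i (S.get a') := by
    intro a a' haa he
    apply haa
    have h2 := List.nodup_iff_injective_get.1 hS
    have h3 : (⟨a, by rw [List.length_map]; exact a.2⟩ : Fin (S.map (lbw A i)).length) =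
        ⟨a', by rw [List.length_map]; exact a'.2⟩ := by
      apply h2
      simp only [List.get_eq_getElem, List.getElem_map]
      exact he
    have h4 := congrArg Fin.val h3
    exact Fin.ext h4
  refine ⟨⨆ a : Fin S.length, (D cs h X ρ).map (ρ (g (cs.wordProd (S.get a)))), ?_, ?_⟩
  · have h1 := sum_le_of_sep (f := fun a : Fin S.length => (D cs h X ρ).map (ρ (g (cs.wordProd (S.get a)))))
      (Φ := fun a => (fx (dualRep ρ) (UN cs h X)).map (dualRep ρ (g (cs.wordProd (S.get a))))) (by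
      rintro a _ ⟨x, hx, rfl⟩ h0
      by_contra hx0
      have hx0' : x ≠ 0 := fun h => hx0 (by rw [h, map_zero])
      obtain ⟨φ, hφ, hne⟩ := exists_pair_D R hirr hx hx0'
      apply hne
      have h2 := h0 _ ⟨φ, hφ, rfl⟩
      rwa [dualRep_apply, rho_inv_rho] at h2) (by
      intro a a' haa φ hφ x hx
      refine pair_zero R hirr fr.hJ (hg _) (hg _) ?_ hφ hx
      rw [lb_wordProd, lb_wordProd]
      exact hinj a a' haa)
    simpa only [finrank_map, fr.hD, Finset.sum_const, Finset.card_univ, smul_eq_mul, Fintype.card_fin, mul_one]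
      using h1
  · intro v hv
    obtain ⟨c, hc, rfl⟩ := exists_sum_of_mem_iSup hv
    have hQ0 : Q 0 = 0 := by
      have := hQs 0 0
      simpa using this
    have key : ∀ s : Finset (Fin S.length), Q (∑ a ∈ s, c a) = 0 := by
      intro s
      induction s using Finset.induction_on with
      | empty => rw [Finset.sum_empty]; exact hQ0
      | insert a s has ih =>
        rw [Finset.sum_insert has, hQa, ih, fr.quad_zero hirr hQs hQa hQ (hg _) (hc a), map_sum]
        rw [Finset.sum_eq_zero, add_zero, add_zero]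
        intro b _
        refine fr.form_zero hirr hL (hg _) (hg _) ?_ (hc a) (hc b)
        rw [lb_wordProd, lb_wordProd]
        exact hS2 _ (List.get_mem _ _) _ (List.get_mem _ _)
    exact key Finset.univ

end

end Cfsg.Agent.H924.D5
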