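import Cfsg.Agent.H924.D5H
import Cfsg.Agent.H924.D5F
import Cfsg.Agent.H924.D5G

/-!
# Frames of the eight dimensional modules of type `B3` (spin) and `D4` (helper924)

* `fr8_B` : type `B3`, `J^c = {2}`, `dim V ≤ 12`;
* `fr8_D` : type `D4`, `dim V ≤ 12`.
-/

set_option autoImplicit false
set_option linter.unusedSectionVars false
set_option linter.style.haveILetI false
set_option linter.style.longLine false

namespace Cfsg.Agent.H924.D5

open CoxeterSystem Cfsg.Agent.ChevalleyStructure.CoxeterGeom Cfsg.Agent.Tits.Roots Cfsg.Agent.Tits.Core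
  Cfsg.Agent.Tits.Exchange Cfsg.Agent.Nodes.Reps Cfsg.Agent.Nodes.BNOf Cfsg.Agent.Nodes.StabComb
  Cfsg.Agent.Nodes.Bruhat Cfsg.Agent.Nodes.OppDec Cfsg.Agent.Nodes.LeviDec Cfsg.Agent.KFacts.RgdOpp
  Cfsg.Agent.Omega.CR Cfsg.Agent.Omega.FOne.Lift.Sd Cfsg.Agent.H905.Md Cfsg.Agent.H905

section general

variable {I W Y : Type*} [Fintype I] [DecidableEq I] [Group W] [Group Y] {M : CoxeterMatrix I}
  {cs : CoxeterSystem M W} {A : I → I → ℤ} {h : IsCartan M A} {p : ℕ} {T : Subgroup Y} {n : I → Y}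
  {X : (I → ℤ) → Subgroup Y} {k V : Type*} [Field k] [AddCommGroup V] [Module k V]

variable (R : RGD cs h p T n X) [Finite Y] [Finite W] [Fact p.Prime] [CharP k p]
  {ρ : Y →* Module.End k V} [FiniteDimensional k V]
  (hirr : ∀ L : Submodule k V, Ivt ρ (GG cs h T X) L → L = ⊥ ∨ L = ⊤)
include R hirr

/-- elements of the sum of two vertices by functionals -/
theorem mem_vertex2 [Nontrivial V] {i : I} (hJ : ∀ j, j ∉ Jx cs h X ρ ↔ j = i) (hK : Kv cs h R.nsys X ρ = ⊥)
    {w1 w2 : W} {g1 g2 : Y} (hg1 : Rp cs R.nsys w1 g1) (hg2 : Rp cs R.nsys w2 g2)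
    (h12 : lb cs h i w1 ≠ lb cs h i w2) {v : V}
    (hv : ∀ w' g', Rp cs R.nsys w' g' → lb cs h i w' ≠ lb cs h i w1 → lb cs h i w' ≠ lb cs h i w2 →
      ∀ φ ∈ (fx (dualRep ρ) (UN cs h X)).map (dualRep ρ g'), φ v = 0) :
    v ∈ (D cs h X ρ).map (ρ g1) ⊔ (D cs h X ρ).map (ρ g2) := by
  obtain ⟨c, hc, he⟩ := exists_D R hirr (ρ g1⁻¹ v)
  have hcm : ρ g1 c ∈ (D cs h X ρ).map (ρ g1) := ⟨c, hc, rfl⟩
  have h1 : v - ρ g1 c ∈ (D cs h X ρ).map (ρ g2) := by
    refine mem_vertex R hirr hJ hK hg2 fun w' g' hg' hne φ hφ => ?_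
    rw [map_sub, sub_eq_zero]
    by_cases hne' : lb cs h i w' = lb cs h i w1
    · have h2 := map_eq_of_lb' R hirr hJ hg' hg1 hne'
      rw [h2] at hφ
      obtain ⟨ψ, hψ, rfl⟩ := hφ
      rw [dualRep_apply, dualRep_apply, rho_inv_rho, he ψ hψ]
    · rw [hv w' g' hg' hne' hne φ hφ, pair_zero R hirr hJ hg' hg1 hne' hφ hcm]
  have e : v = ρ g1 c + (v - ρ g1 c) := by abel
  rw [e]
  exact Submodule.add_mem_sup hcm h1

omit R hirr [Finite Y] [Finite W] [Fact p.Prime] in
theorem rep_fix_of_mem {J' : Set I} {z : I → ℤ} (hz : ∀ j ∈ J', rep cs h (cs.simple j) z = z) {u : W}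
    (hu : u ∈ WJ cs J') : rep cs h u z = z := by
  unfold WJ at hu
  induction hu using Subgroup.closure_induction with
  | mem x hx =>
    obtain ⟨j, hj, rfl⟩ := hx
    exact hz j hj
  | one => rw [map_one]; rfl
  | mul x y _ _ hx hy => rw [rep_mul_apply, hy, hx]
  | inv x _ hx =>
    have := rep_inv_apply cs h x z
    rwa [hx] at this

end general

/-! ### type `B3` -/

section B

open B

variable {A : Fin 3 → Fin 3 → ℤ} (h : IsCartan (CoxeterMatrix.B 3) A)
include h

/-- the long root `e₂ + e₃` -/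
theorem bw0 : ∀ m, rww A [0, 1, 2, 0, 1, 2, 0, 1, 2] (Pi.single m 1) = -(Pi.single m 1) := by
  rcases cartan_B3 h with rfl | rfl <;> decide +kernel

theorem bmove : ∀ q ∈ rl, (∀ l, 0 ≤ rv A q l) → 0 < rv A q 2 →
    ∃ ω ∈ [[], [0], [1], [0, 1], [1, 0], [0, 1, 0]], (∀ j ∈ ω, j ≠ 2) ∧
      (rww A ω.reverse (rv A q) = Pi.single 2 1 ∨ rww A ω.reverse (rv A q) = rww A [2] (Pi.single 1 1)) := by
  rcases cartan_B3 h with rfl | rfl <;> decide +kernel

theorem bgam : rww A [2] (Pi.single 1 1) 0 = 0 ∧ (∀ l, 0 ≤ rww A [2] (Pi.single 1 1) l) ∧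
    pr (lbw A 2 [2, 1, 2]) (rww A [2] (Pi.single 1 1)) < 0 ∧ lbw A 2 [2, 1, 2] ≠ Pi.single 2 1 ∧
    (rww A [2, 1, 2] (Pi.single 0 1)) 2 ≠ 0 ∧ (rww A [2] (Pi.single 1 1) : Fin 3 → ℤ) 2 ≠ 0 := by
  rcases cartan_B3 h with rfl | rfl <;> decide +kernel

theorem bl2 : ∀ ω ∈ l2, pr (lbw A 2 ω) (-rww A [2] (Pi.single 1 1)) ≤ 0 ∨ lbw A 2 ω = lbw A 2 [2, 1, 2] ∨
    lbw A 2 ω = -(Pi.single 2 1) := by
  rcases cartan_B3 h with rfl | rfl <;> decide +kernel

/-- the root `2 e₁` or `e₁` -/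
theorem bz : (∀ j, j ≠ 0 → rf A j (rww A [0, 1] (Pi.single 2 1)) = rww A [0, 1] (Pi.single 2 1)) ∧
    (rww A [0, 1] (Pi.single 2 1) : Fin 3 → ℤ) 2 ≠ 0 := by
  rcases cartan_B3 h with rfl | rfl <;> decide +kernel

theorem bedge : rf A 2 (Pi.single 1 1) 2 ≠ 0 := by
  rcases cartan_B3 h with rfl | rfl <;> decide +kernel

theorem bsing : ([[], [2], [1, 2], [2, 1, 2]].map (lbw A 2)).Nodup ∧
    ∀ ω ∈ [[], [2], [1, 2], [2, 1, 2]], ∀ ω' ∈ [[], [2], [1, 2], [2, 1, 2]], lbw A 2 ω ≠ -lbw A 2 ω' := by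
  rcases cartan_B3 h with rfl | rfl <;> decide +kernel

end B

theorem neg_of_words {l : ℕ} {W : Type*} [Group W] {M : CoxeterMatrix (Fin l)} {cs : CoxeterSystem M W}
    {A : Fin l → Fin l → ℤ} {h : IsCartan M A} (ω : List (Fin l))
    (hω : ∀ m, rww A ω (Pi.single m 1) = -(Pi.single m 1)) (x : Fin l → ℤ) :
    rep cs h (cs.wordProd ω) x = -x := by
  have h1 : x = ∑ m, x m • (Pi.single m 1 : Fin l → ℤ) := by
    funext j
    rw [Finset.sum_apply, Finset.sum_eq_single j]
    · rw [Pi.smul_apply, Pi.single_eq_same, smul_eq_mul, mul_one]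
    · intro m _ hm
      rw [Pi.smul_apply, Pi.single_eq_of_ne hm.symm, smul_zero]
    · intro hl; exact absurd (Finset.mem_univ j) hl
  rw [h1, map_sum, ← Finset.sum_neg_distrib]
  refine Finset.sum_congr rfl fun m _ => ?_
  rw [map_smul, rep_wordProd, hω, smul_neg]

section Bm

open B

variable {W Y : Type*} [Group W] [Group Y] {cs : CoxeterSystem (CoxeterMatrix.B 3) W} {A : Fin 3 → Fin 3 → ℤ}
  {h : IsCartan (CoxeterMatrix.B 3) A} {p : ℕ} {T : Subgroup Y} {n : Fin 3 → Y}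
  {X : (Fin 3 → ℤ) → Subgroup Y} {k V : Type*} [Field k] [AddCommGroup V] [Module k V]

variable (R : RGD cs h p T n X) [Finite Y] [Finite W] [Fact p.Prime] [CharP k p]
  {ρ : Y →* Module.End k V} [FiniteDimensional k V]
  (hirr : ∀ L : Submodule k V, Ivt ρ (GG cs h T X) L → L = ⊥ ∨ L = ⊤)
include R hirr

theorem Kv_B [Nontrivial V] (hJ : ∀ j, j ∉ Jx cs h X ρ ↔ j = 2) (hV : Module.finrank k V ≤ 12) :
    Kv cs h R.nsys X ρ = ⊥ := by
  have hi : (2 : Fin 3) ∉ Jx cs h X ρ := (hJ 2).2 rfl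
  have h2 := Kv_bound R hirr [2] (by simpa using hi) l2 (by
    have := nl2 h
    rw [show (fun ω => List.map (fun i => lbw A i ω) [(2 : Fin 3)]) = (fun x => [x]) ∘ lbw A 2 from rfl,
      ← List.map_map]
    exact this.map fun a b hab => by simpa using hab)
  rw [(node2_edge R hirr hJ hV).1, node2_dim R hirr hJ hV, show l2.length = 8 from rfl] at h2
  exact Submodule.finrank_eq_zero.1 (by omega)

theorem fr8_B [Nontrivial V] (hJ : ∀ j, j ∉ Jx cs h X ρ ↔ j = 2) (hV : Module.finrank k V ≤ 12) :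
    Fr8 R ρ 2 := by
  have hi : (2 : Fin 3) ∉ Jx cs h X ρ := (hJ 2).2 rfl
  obtain ⟨hd, hLe⟩ := node2_edge R hirr hJ hV
  have hK := Kv_B R hirr hJ hV
  obtain ⟨γ0, γpos, γ1, γ2, γ3, γ4⟩ := bgam h
  have hlb0 : ∀ w, lb cs h 2 w ≠ -lb cs h 2 w := by
    intro w he
    have h1 : rep cs h (w⁻¹ * w) (sr 2) 2 = -(sr 2 : Fin 3 → ℤ) 2 := lb_eq_neg he _
    rw [inv_mul_cancel, map_one, Module.End.one_apply, sr_self] at h1
    omega
  refine ⟨hJ, hK, hd, hLe, ?_, ⟨_, neg_of_words _ (bw0 h)⟩, ?_⟩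
  · intro w g hg x hx b hb v hv
    have hyr : IsRoot cs h (rep cs h w⁻¹ x) := hx.act _
    rcases le_or_gt 0 (pr (lb cs h 2 w) x) with h0 | h0
    · refine ⟨w, g, hg, hlb0 w, ?_⟩
      rw [fixv R hirr hJ hg hx h0 hb hv]
      exact Submodule.mem_sup_left hv
    · -- the root `-w⁻¹ x` is outside `J`
      rw [← rep_inv_coord'] at h0
      have hny : 0 < (-rep cs h w⁻¹ x) 2 := by rw [Pi.neg_apply]; omega
      have hny0 : (0 : Fin 3 → ℤ) ≤ -rep cs h w⁻¹ x := nonneg_of_pos_apply hyr.neg hny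
      obtain ⟨q, hq, e⟩ := mem_rl h hyr.neg
      rw [e] at hny hny0
      obtain ⟨ω, -, hωJ, hω⟩ := bmove h q hq hny0 hny
      rw [← e, ← rep_wordProd_inv (cs := cs) (h := h), map_neg] at hω
      have hu : cs.wordProd ω ∈ WJ cs (Jx cs h X ρ) := word_mem_WJ fun j hj => by
        by_contra hj'
        rw [hJ] at hj'
        exact hωJ j hj hj'
      obtain ⟨a, ha⟩ := exists_rp cs R.nsys (cs.wordProd ω)
      set w1 := w * cs.wordProd ω with hw1
      have hg1 : Rp cs R.nsys w1 (g * a) := hg.mul ha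
      have hlb1 : lb cs h 2 w = lb cs h 2 w1 :=
        (mem_WJ_iff_lb hJ).1 (by rw [hw1, inv_mul_cancel_left]; exact hu)
      have hV1 := map_eq_of_lb R hirr hJ hg hg1 hlb1
      rw [hV1] at hv ⊢
      have hx1 : rep cs h w1⁻¹ x = rep cs h (cs.wordProd ω)⁻¹ (rep cs h w⁻¹ x) := by
        rw [hw1, mul_inv_rev, rep_mul_apply]
      rw [← hx1] at hω
      rcases hω with hω | hω
      · -- an edge
        have hx2 : rep cs h w1⁻¹ x = -sr 2 := by
          change -rep cs h w1⁻¹ x = sr 2 at hω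
          rw [← hω, neg_neg]
        refine ⟨w1 * cs.simple 2, g * a * n 2, hg1.mul (rp_simple cs R.nsys 2), ?_, ?_⟩
        · intro he
          rw [hlb1] at he
          have h1 := lb_eq_neg he (Pi.single 1 1)
          rw [mul_inv_rev, inv_mul_cancel_right, cs.inv_simple, rep_simple_rf] at h1
          refine bedge h ?_
          rw [h1]
          decide
        · obtain ⟨v, hv, rfl⟩ := hv
          exact edge_move R hirr hi hLe hg1 hx hx2 hb hv
      · -- a diagonal of a face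
        have hx2 : rep cs h w1⁻¹ x = -(rww A [2] (Pi.single 1 1)) := by
          rw [← hω, neg_neg]
        obtain ⟨c, hc⟩ := exists_rp cs R.nsys (cs.wordProd [2, 1, 2])
        refine ⟨w1 * cs.wordProd [2, 1, 2], g * a * c, hg1.mul hc, ?_, ?_⟩
        · intro he
          rw [hlb1] at he
          have h1 := lb_eq_neg he (Pi.single 0 1)
          rw [mul_inv_rev, inv_mul_cancel_right, rep_wordProd_inv] at h1
          refine γ3 ?_
          change rww A [2, 1, 2].reverse (Pi.single 0 1) 2 = 0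
          rw [h1]
          decide
        · obtain ⟨v, hv, rfl⟩ := hv
          have h3 := R.conj_mem' hg1 hx hb
          rw [hx2] at h3
          set b' := (g * a)⁻¹ * b * (g * a) with hb'
          have hbe : ρ b (ρ (g * a) v) = ρ (g * a) (ρ b' v) := by
            rw [← rho_mul, ← rho_mul]
            congr 2
            rw [hb']
            group
          have hγr : IsRoot cs h (rww A [2] (Pi.single 1 1)) := isRoot_word [2] 1
          have hγJ : rww A [2] (Pi.single 1 1) ∈ PosJ cs h ({j | j ≠ 0} : Set (Fin 3)) :=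
            ⟨hγr, γpos, fun l hl => by
              have hl0 : l = 0 := by simpa using hl
              rw [hl0]
              exact γ0⟩
          have hm : ρ b' v ∈ Le cs h T X ρ {j | j ≠ 0} :=
            Ivt_Le R _ b' (X_le_LJ (RootsJ.neg (PosJ_subset _ hγJ)) h3) v (D_le_Le R _ hv)
          have hv1 : v ∈ (D cs h X ρ).map (ρ 1) := by rw [map_one]; exact ⟨v, hv, rfl⟩
          have key : ρ b' v ∈ (D cs h X ρ).map (ρ 1) ⊔ (D cs h X ρ).map (ρ c) := by
            refine mem_vertex2 R hirr hJ hK (rp_one (cs := cs) (hN := R.nsys)) hc ?_ ?_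
            · rw [lb_one, lb_wordProd]
              exact γ2.symm
            · intro w' g' hg' hne1 hne2 φ hφ
              by_contra hφ0
              obtain ⟨ω', hω', he⟩ := orbit_of_closed (cs := cs) (h := h) 2 l2 ⟨[], by decide, rfl⟩ (cl2 h) w'
              rcases bl2 h ω' hω' with h4 | h4 | h4
              · rw [fixd_apply R hirr hJ hg' hγr.neg (by rw [he]; exact h4) h3 hφ,
                  pair_zero R hirr hJ hg' (rp_one (cs := cs) (hN := R.nsys)) hne1 hφ hv1] at hφ0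
                exact hφ0 rfl
              · exact hne2 (by rw [he, h4, lb_wordProd])
              · obtain ⟨ψ, hψ, rfl⟩ := hφ
                obtain ⟨u', hu', hu'J⟩ := vertex_face R hirr hg' hψ hm hφ0
                have h5 : lb cs h 2 u' = -lb cs h 2 1 := by
                  rw [(mem_WJ_iff_lb hJ).1 hu'J, he, h4, lb_one]
                  rfl
                have h6 := lb_eq_neg h5 (rww A [0, 1] (Pi.single 2 1))
                rw [mul_one, rep_fix_of_mem (fun j hj => by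
                  rw [rep_simple_rf]
                  exact (bz h).1 j hj) (inv_mem hu')] at h6
                have h7 := (bz h).2
                omega
          rw [hbe]
          obtain ⟨α, hα, β, hβ, e2⟩ := Submodule.mem_sup.1 key
          rw [← e2, map_add]
          refine Submodule.add_mem_sup ?_ ?_
          · obtain ⟨α', hα', rfl⟩ := hα
            rw [rho_one]
            exact ⟨α', hα', rfl⟩
          · obtain ⟨β', hβ', rfl⟩ := hβ
            exact ⟨β', hβ', rho_mul ρ _ _ _⟩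
  · intro he
    have h1 := lb_eq_neg he (Pi.single 1 1)
    rw [mul_one, cs.inv_simple, rep_simple_rf] at h1
    refine bedge h ?_
    rw [h1]
    decide

end Bm

end Cfsg.Agent.H924.D5
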