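import Cfsg.Agent.H924.D5I

/-!
# Frames of the eight dimensional modules of type `D4` (helper924)

* `fr8_D` : type `D4`, `dim V ≤ 12`.
-/

set_option autoImplicit false
set_option linter.unusedSectionVars false
set_option linter.style.haveILetI false
set_option linter.style.longLine false

namespace Cfsg.Agent.H924.D5

open CoxeterSystem Cfsg.Agent.ChevalleyStructure.CoxeterGeom Cfsg.Agent.Tits.Roots Cfsg.Agent.Tits.Core
  Cfsg.Agent.Tits.Exchange Cfsg.Agent.Nodes.Reps Cfsg.Agent.Nodes.BNOf Cfsg.Agent.Nodes.StabComb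
  Cfsg.Agent.Nodes.Bruhat Cfsg.Agent.Nodes.OppDec Cfsg.Agent.Nodes.LeviDec Cfsg.Agent.KFacts.RgdOpp
  Cfsg.Agent.Omega.CR Cfsg.Agent.Omega.FOne.Lift.Sd Cfsg.Agent.H905.Md Cfsg.Agent.H905 D4

theorem dw0 : ∀ m : Fin 4, rww DC.cD4 [0, 1, 2, 3, 0, 1, 2, 3, 0, 1, 2, 3] (Pi.single m 1) = -(Pi.single m 1) := by
  decide +kernel

theorem dedge : ∀ i : Fin 4, i ≠ 1 → rf DC.cD4 i (Pi.single 1 1) i ≠ 0 := by decide +kernel

/-- four vertices, no two opposite -/
def sL (i : Fin 4) : List (List (Fin 4)) :=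
  if i = 0 then [[], [0], [1, 0], [2, 1, 0]] else if i = 2 then [[], [2], [1, 2], [0, 1, 2]] else
    [[], [3], [1, 3], [0, 1, 3]]

theorem dsing : ∀ i : Fin 4, i ≠ 1 → ((sL i).map (lbw DC.cD4 i)).Nodup ∧ (sL i).length = 4 ∧
    ∀ ω ∈ sL i, ∀ ω' ∈ sL i, lbw DC.cD4 i ω ≠ -lbw DC.cD4 i ω' := by
  decide +kernel

variable {W Y : Type*} [Group W] [Group Y] {cs : CoxeterSystem (Nodes.TypeD.M 2) W}
  {h : IsCartan (Nodes.TypeD.M 2) DC.cD4} {p : ℕ} {T : Subgroup Y} {n : Fin 4 → Y}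
  {X : (Fin 4 → ℤ) → Subgroup Y} {k V : Type*} [Field k] [AddCommGroup V] [Module k V]

variable (R : RGD cs h p T n X) [Finite Y] [Finite W] [Fact p.Prime] [CharP k p]
  {ρ : Y →* Module.End k V} [FiniteDimensional k V]
  (hirr : ∀ L : Submodule k V, Ivt ρ (GG cs h T X) L → L = ⊥ ∨ L = ⊤)
include R hirr

theorem Kv_D [Nontrivial V] {i : Fin 4} (hi1 : i ≠ 1) (hJ : ∀ j, j ∉ Jx cs h X ρ ↔ j = i)
    (hV : Module.finrank k V ≤ 12) : Kv cs h R.nsys X ρ = ⊥ := by
  have hi : i ∉ Jx cs h X ρ := (hJ i).2 rfl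
  have h2 := Kv_bound R hirr [i] (by simpa using hi) (lL i) (by
    have := nl i
    rw [show (fun ω => List.map (fun i => lbw DC.cD4 i ω) [i]) = (fun x => [x]) ∘ lbw DC.cD4 i from rfl,
      ← List.map_map]
    exact this.map fun a b hab => by simpa using hab)
  have hl : (lL i).length = 8 := by
    have : ∀ i : Fin 4, i ≠ 1 → (lL i).length = 8 := by decide +kernel
    exact this i hi1
  rw [(edge R hirr hi1 hJ hV).1, (D4.cases R hirr hV hi).2.2, hl] at h2
  exact Submodule.finrank_eq_zero.1 (by omega)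

theorem fr8_D [Nontrivial V] {i : Fin 4} (hi1 : i ≠ 1) (hJ : ∀ j, j ∉ Jx cs h X ρ ↔ j = i)
    (hV : Module.finrank k V ≤ 12) : Fr8 R ρ i := by
  have hi : i ∉ Jx cs h X ρ := (hJ i).2 rfl
  obtain ⟨hd, -, hLe⟩ := edge R hirr hi1 hJ hV
  have hK := Kv_D R hirr hi1 hJ hV
  have hlb0 : ∀ w, lb cs h i w ≠ -lb cs h i w := by
    intro w he
    have h1 : rep cs h (w⁻¹ * w) (sr i) i = -(sr i : Fin 4 → ℤ) i := lb_eq_neg he _
    rw [inv_mul_cancel, map_one, Module.End.one_apply, sr_self] at h1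
    omega
  refine ⟨hJ, hK, hd, hLe, ?_, ⟨_, neg_of_words _ dw0⟩, ?_⟩
  · intro w g hg x hx b hb v hv
    have hyr : IsRoot cs h (rep cs h w⁻¹ x) := hx.act _
    rcases le_or_gt 0 (pr (lb cs h i w) x) with h0 | h0
    · refine ⟨w, g, hg, hlb0 w, ?_⟩
      rw [fixv R hirr hJ hg hx h0 hb hv]
      exact Submodule.mem_sup_left hv
    · rw [← rep_inv_coord'] at h0
      have hny : 0 < (-rep cs h w⁻¹ x) i := by rw [Pi.neg_apply]; omega
      have hny0 : (0 : Fin 4 → ℤ) ≤ -rep cs h w⁻¹ x := nonneg_of_pos_apply hyr.neg hny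
      obtain ⟨q, hq, e⟩ := mem_rl hyr.neg
      rw [e] at hny hny0
      obtain ⟨ω, -, hωJ, hω⟩ := notJ i hi1 q hq hny0 hny
      have hu : cs.wordProd ω ∈ WJ cs (Jx cs h X ρ) := word_mem_WJ fun j hj => by
        by_contra hj'
        rw [hJ] at hj'
        exact hωJ j hj hj'
      obtain ⟨a, ha⟩ := exists_rp cs R.nsys (cs.wordProd ω)
      set w1 := w * cs.wordProd ω with hw1
      have hg1 : Rp cs R.nsys w1 (g * a) := hg.mul ha
      have hlb1 : lb cs h i w = lb cs h i w1 :=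
        (mem_WJ_iff_lb hJ).1 (by rw [hw1, inv_mul_cancel_left]; exact hu)
      have hV1 := map_eq_of_lb R hirr hJ hg hg1 hlb1
      rw [hV1] at hv ⊢
      have hx1 : rep cs h w1⁻¹ x = rep cs h (cs.wordProd ω)⁻¹ (rep cs h w⁻¹ x) := by
        rw [hw1, mul_inv_rev, rep_mul_apply]
      have hx2 : rep cs h w1⁻¹ x = -sr i := by
        have h3 : -rep cs h w1⁻¹ x = sr i := by
          have h4 : IsRoot cs h (-rep cs h w1⁻¹ x) := (hx.act _).neg
          have h5 : -rep cs h w1⁻¹ x = rww DC.cD4 ω.reverse (rv q) := by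
            rw [hx1, ← rep_wordProd_inv (cs := cs) (h := h), ← e, map_neg]
          refine h4.eq_sr ?_ i fun l hl => by rw [h5]; exact hω l hl
          refine nonneg_of_pos_apply h4 (k := i) ?_
          have h6 : (-rep cs h w1⁻¹ x) i = (-rep cs h w⁻¹ x) i := by
            rw [Pi.neg_apply, Pi.neg_apply, hx1, coord_of_mem_WJ (inv_mem hu) _ hi]
          rw [h6, e]
          exact hny
        rw [← h3, neg_neg]
      refine ⟨w1 * cs.simple i, g * a * n i, hg1.mul (rp_simple cs R.nsys i), ?_, ?_⟩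
      · intro he
        rw [hlb1] at he
        have h1 := lb_eq_neg he (Pi.single 1 1)
        rw [mul_inv_rev, inv_mul_cancel_right, cs.inv_simple, rep_simple_rf] at h1
        refine dedge i hi1 ?_
        rw [h1, Pi.single_eq_of_ne hi1, neg_zero]
      · obtain ⟨v, hv, rfl⟩ := hv
        exact edge_move R hirr hi hLe hg1 hx hx2 hb hv
  · intro he
    have h1 := lb_eq_neg he (Pi.single 1 1)
    rw [mul_one, cs.inv_simple, rep_simple_rf] at h1
    refine dedge i hi1 ?_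
    rw [h1, Pi.single_eq_of_ne hi1, neg_zero]

end Cfsg.Agent.H924.D5
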