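import Cfsg.Agent.H924.D5J
import Cfsg.Agent.H905.MdN
import Cfsg.Agent.H905.DCWrap
import Cfsg.Agent.H919.QuadTwo

/-!
# Cores of type `B3` and `D4` in their own characteristic, degree at most 12 (helper924)

`P ≤ GL(ι, F)` a core, `|ι| ≤ 12`, `p = char F`.

* `D4_eight` : `HasRGDT p D4 (Soc P)` : `|ι| = 8`, every invariant quadratic form has a totally singular 4-space, and if
  `p = 2` and `P` fixes a symplectic form then it fixes a quadratic form;
* `B3_cases` : `HasRGDT p B3 (Soc P)` : the same, or the type is `J^c = {0}` (natural module).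
-/

set_option autoImplicit false
set_option linter.unusedSectionVars false
set_option linter.style.haveILetI false
set_option linter.style.longLine false

universe u

namespace Cfsg.Agent.H924.D5

open CoxeterSystem Cfsg.Agent.ChevalleyStructure.CoxeterGeom Cfsg.Agent.Tits.Roots Cfsg.Agent.Tits.Core
  Cfsg.Agent.Tits.Exchange Cfsg.Agent.Nodes.Reps Cfsg.Agent.Nodes.BNOf Cfsg.Agent.Nodes.StabComb
  Cfsg.Agent.Nodes.Bruhat Cfsg.Agent.Nodes.OppDec Cfsg.Agent.Nodes.LeviDec Cfsg.Agent.KFacts.RgdOpp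
  Cfsg.Agent.Omega.CR Cfsg.Agent.Omega.FOne.Lift.Sd Cfsg.Agent.H905.Md Cfsg.Agent.H905
  Cfsg.Agent.Omega.ML.Ex.Typ
open Cfsg Cfsg.Geo Matrix
open scoped MatrixGroups

/-! ### a basis of vertices -/

section basis

variable {I W Y : Type*} [Fintype I] [DecidableEq I] [Group W] [Group Y] {M : CoxeterMatrix I}
  {cs : CoxeterSystem M W} {A : I → I → ℤ} {h : IsCartan M A} {p : ℕ} {T : Subgroup Y} {n : I → Y}
  {X : (I → ℤ) → Subgroup Y} {k V : Type*} [Field k] [AddCommGroup V] [Module k V]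

theorem Fr8.exists_basis {R : RGD cs h p T n X} [Finite Y] [Finite W] [Fact p.Prime] [CharP k p]
    {ρ : Y →* Module.End k V} [FiniteDimensional k V] [Nontrivial V]
    (hirr : ∀ L : Submodule k V, Ivt ρ (GG cs h T X) L → L = ⊥ ∨ L = ⊤) {i : I} (fr : Fr8 R ρ i)
    (L : List (List I)) (hL : (L.map (lbw A i)).Nodup) (hL' : ∀ w, ∃ ω ∈ L, lb cs h i w = lbw A i ω)
    {g : W → Y} (hg : ∀ w, Rp cs R.nsys w (g w)) :
    ∃ b : Module.Basis (Fin L.length) k V, ∀ a, b a ∈ (D cs h X ρ).map (ρ (g (cs.wordProd (L.get a)))) := by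
  obtain ⟨c, hc, hc0⟩ := (Submodule.ne_bot_iff _).1 (simp_fx R ρ hirr).ne
  set v : Fin L.length → V := fun a => ρ (g (cs.wordProd (L.get a))) c with hv
  have hmem : ∀ a, v a ∈ (D cs h X ρ).map (ρ (g (cs.wordProd (L.get a)))) := fun a => ⟨c, hc, rfl⟩
  have hinj : ∀ a a' : Fin L.length, a ≠ a' → lbw A i (L.get a) ≠ lbw A i (L.get a') := by
    intro a a' haa he
    apply haa
    have h2 := List.nodup_iff_injective_get.1 hL
    have h3 : (⟨a, by rw [List.length_map]; exact a.2⟩ : Fin (L.map (lbw A i)).length) =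
        ⟨a', by rw [List.length_map]; exact a'.2⟩ := by
      apply h2
      simp only [List.get_eq_getElem, List.getElem_map]
      exact he
    have h4 := congrArg Fin.val h3
    exact Fin.ext h4
  have hli : LinearIndependent k v := by
    rw [Fintype.linearIndependent_iff]
    intro r hr a
    obtain ⟨φ, hφ, hφ0⟩ := exists_pair_D R hirr hc hc0
    have h1 := congrArg (dualRep ρ (g (cs.wordProd (L.get a))) φ) hr
    rw [map_zero, map_sum, Finset.sum_eq_single a] at h1
    · rw [map_smul, smul_eq_mul, hv] at h1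
      rcases mul_eq_zero.1 h1 with h2 | h2
      · exact h2
      · exfalso
        rw [dualRep_apply, rho_inv_rho] at h2
        exact hφ0 h2
    · intro a' _ haa
      rw [map_smul, pair_zero R hirr fr.hJ (hg _) (hg _) (by
        rw [lb_wordProd, lb_wordProd]
        exact hinj a a' haa.symm) ⟨φ, hφ, rfl⟩ (hmem a'), smul_zero]
    · intro ha; exact absurd (Finset.mem_univ a) ha
  have hsp : ⊤ ≤ Submodule.span k (Set.range v) := by
    rw [← top_of_Kv R hirr fr.hK hg]
    refine iSup_le fun w => ?_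
    intro x hx
    obtain ⟨ω, hω, e⟩ := hL' w
    obtain ⟨a, ha⟩ := List.mem_iff_get.1 hω
    rw [map_eq_of_lb R hirr fr.hJ (hg w) (hg (cs.wordProd (L.get a))) (by rw [e, ha, lb_wordProd])] at hx
    have hne : v a ≠ 0 := rho_ne_zero ρ _ hc0
    obtain ⟨r, hr⟩ := fr.exists_smul (hmem a) hne hx
    rw [← hr]
    exact Submodule.smul_mem _ _ (Submodule.subset_span ⟨a, rfl⟩)
  refine ⟨Module.Basis.mk hli hsp, fun a => ?_⟩
  rw [Module.Basis.mk_apply]
  exact hmem a

end basis

section P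

variable {F : Type u} [Field F] [Finite F] {ι : Type} [Fintype ι] [DecidableEq ι] {P : Subgroup (GL ι F)}
  {p : ℕ} [hp : Fact p.Prime] [CharP F p]

/-- the conclusion in degree `8` -/
def EightGood (p : ℕ) (P : Subgroup (GL ι F)) : Prop :=
  Fintype.card ι = 8 ∧
    (∀ Q : (ι → F) → F, IsNondegenerateQuadraticForm Q → FixesQuadForm (matrixSet P) Q →
      ∃ N : Submodule F (ι → F), 4 ≤ Module.finrank F N ∧ ∀ v ∈ N, Q v = 0) ∧
    (p = 2 → H915.LD.FixA P → H915.LD.FixQ P)

theorem eight_of_fr8 {l : ℕ} {M : CoxeterMatrix (Fin l)} {A : Fin l → Fin l → ℤ} {h : IsCartan M A}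
    {T : Subgroup P} {n : Fin l → P} {X : (Fin l → ℤ) → Subgroup P} [Finite M.Group] [Nonempty ι]
    {R : RGD M.toCoxeterSystem h p T n X}
    (hG : GG M.toCoxeterSystem h T X = ⊤)
    (hirr : ∀ L : Submodule F (ι → F), Ivt (natP P) (GG M.toCoxeterSystem h T X) L → L = ⊥ ∨ L = ⊤)
    {i : Fin l} (fr : Fr8 R (natP P) i) (h8 : Fintype.card ι = 8)
    (S : List (List (Fin l))) (hS : (S.map (lbw A i)).Nodup) (hS4 : S.length = 4)
    (hS2 : ∀ ω ∈ S, ∀ ω' ∈ S, lbw A i ω ≠ -lbw A i ω')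
    (L : List (List (Fin l))) (hL : (L.map (lbw A i)).Nodup)
    (hL' : ∀ w, ∃ ω ∈ L, lb M.toCoxeterSystem h i w = lbw A i ω) : EightGood p P := by
  refine ⟨h8, ?_, ?_⟩
  · intro Q hQ hQP
    let Lf : (ι → F) → Module.Dual F (ι → F) := fun v =>
      { toFun := fun w => QuadraticMap.polar Q v w
        map_add' := fun x y => hQ.polar_bilinear.add_right v x y
        map_smul' := fun a x => hQ.polar_bilinear.smul_right a v x }
    obtain ⟨N, hN, hN0⟩ := fr.singular hirr (Q := Q) (L := Lf) hQ.smul (fun v w => by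
      change Q (v + w) = Q v + Q w + QuadraticMap.polar Q v w
      rw [QuadraticMap.polar]
      ring) (fun g v => by
      rw [natP_apply]
      exact hQP _ ⟨g, g.2, rfl⟩ v) S hS hS2
    exact ⟨N, hS4 ▸ hN, hN0⟩
  · rintro hp2 ⟨f, hf, hfP⟩
    subst hp2
    have h2 : (2 : F) = 0 := by exact_mod_cast CharP.cast_eq_zero F 2
    choose g hg using fun w => exists_rp M.toCoxeterSystem R.nsys w
    obtain ⟨b, hb⟩ := fr.exists_basis hirr L hL hL' hg
    obtain ⟨Q, hQ, hQb⟩ := H919.Q2.exists_qp_basis h2 hf b 0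
    have hQv : ∀ w g', Rp M.toCoxeterSystem R.nsys w g' → ∀ v ∈ (D M.toCoxeterSystem h X (natP P)).map (natP P g'),
        Q v = 0 := by
      intro w g' hg' v hv
      obtain ⟨ω, hω, e⟩ := hL' w
      obtain ⟨a, ha⟩ := List.mem_iff_get.1 hω
      rw [map_eq_of_lb R hirr fr.hJ hg' (hg (M.toCoxeterSystem.wordProd (L.get a)))
        (by rw [e, ha, lb_wordProd])] at hv
      obtain ⟨r, hr⟩ := fr.exists_smul (hb a) (b.ne_zero a) hv
      rw [← hr, hQ.smul, hQb, Pi.zero_apply, mul_zero]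
    let Lf : (ι → F) → Module.Dual F (ι → F) := fun v =>
      { toFun := fun w => f v w
        map_add' := fun x y => hf.bilinear.add_right v x y
        map_smul' := fun a x => hf.bilinear.smul_right a v x }
    have hLf : ∀ (g : P) c v, Lf (natP P g c) (natP P g v) = Lf c v := by
      intro g c v
      exact hfP _ ⟨g, g.2, rfl⟩ c v
    -- the stabiliser of `Q`
    have hstab : ∀ x : P, (∀ a, Q (natP P x (b a)) = 0) → ∀ v, Q (natP P x v) = Q v := by
      intro x hx v
      have h3 : (fun v => Q (((x : GL ι F) : Matrix ι ι F) *ᵥ v)) = Q := by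
        apply H919.Q2.qp_ext_span (hQ.comp (fun v w => hfP _ ⟨x, x.2, rfl⟩ v w)) hQ (S := Set.range b) b.span_eq
        rintro _ ⟨a, rfl⟩
        change Q (natP P x (b a)) = Q (b a)
        rw [hx a, hQb, Pi.zero_apply]
      exact congrFun h3 v
    let K : Subgroup P :=
      { carrier := {g | ∀ v, Q (natP P g v) = Q v}
        one_mem' := fun v => by rw [rho_one]
        mul_mem' := fun {a b} ha hb v => by rw [rho_mul, ha, hb]
        inv_mem' := fun {a} ha v => by rw [← ha (natP P a⁻¹ v), rho_rho_inv] }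
    have hK : GG M.toCoxeterSystem h T X ≤ K := by
      unfold GG
      refine sup_le ?_ (RGD.Sup_le fun x hx => ?_)
      · intro t ht
        refine hstab t fun a => ?_
        obtain ⟨c, hc, e⟩ := hb a
        rw [← e, ← rho_mul]
        have h3 : Rp M.toCoxeterSystem R.nsys (M.toCoxeterSystem.wordProd (L.get a))
            (t * g (M.toCoxeterSystem.wordProd (L.get a))) := by
          have := (rp_of_mem (cs := M.toCoxeterSystem) (hN := R.nsys) ht).mul
            (hg (M.toCoxeterSystem.wordProd (L.get a)))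
          rwa [one_mul] at this
        exact hQv _ _ h3 _ ⟨c, hc, rfl⟩
      · intro y hy
        refine hstab y fun a => ?_
        obtain ⟨w', g', hg', hne, hm⟩ := fr.mv _ _ (hg _) x hx y hy _ (hb a)
        obtain ⟨v1, hv1, v2, hv2, e⟩ := Submodule.mem_sup.1 hm
        rw [← e, hQ.add, hQv _ _ (hg _) v1 hv1, hQv _ _ hg' v2 hv2]
        have h4 : Lf v1 v2 = 0 := fr.form_zero hirr hLf (hg _) hg' hne hv1 hv2
        change 0 + 0 + Lf v1 v2 = 0
        rw [h4]
        ring
    refine H919.Q2.fixQ_of hf hQ ?_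
    intro x hx v
    have h5 : (⟨x, hx⟩ : P) ∈ K := hK (by rw [hG]; trivial)
    exact h5 v

/-- root group data of `P` -/
theorem exists_data (hC : H915.LD.Core P) {l : ℕ} (hl : 0 < l) {M : CoxeterMatrix (Fin l)}
    (hT : HasRGDT p M (H915.LD.Soc P)) :
    ∃ (A : Fin l → Fin l → ℤ) (h : IsCartan M A) (T : Subgroup P) (n : Fin l → P) (X : (Fin l → ℤ) → Subgroup P),
      Finite M.Group ∧ RGD M.toCoxeterSystem h p T n X ∧ GG M.toCoxeterSystem h T X = ⊤ ∧
      (∀ L : Submodule F (ι → F), Ivt (natP P) (GG M.toCoxeterSystem h T X) L → L = ⊥ ∨ L = ⊤) ∧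
      (Nonempty ι → ∃ i, i ∉ Jx M.toCoxeterSystem h X (natP P)) := by
  have h1 : HasRGDT p M P := by
    refine DC.hasRGDT_lift (f := QuotientGroup.mk' ((scalars ι F).subgroupOf P))
      (commutator_eq_top_of_perfect hC.perfect) ?_ ?_ (QuotientGroup.mk'_surjective _) hT
    · rw [QuotientGroup.ker_mk']
      exact subgroupOf_scalars_le P
    · rw [QuotientGroup.ker_mk']
      exact card_scalars_coprime P
  obtain ⟨A, h, T, n, X, hW, R, hX⟩ := h1
  have hG : GG M.toCoxeterSystem h T X = ⊤ := by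
    rw [eq_top_iff, ← hX]
    exact le_sup_right
  have hirr : ∀ L : Submodule F (ι → F), Ivt (natP P) (GG M.toCoxeterSystem h T X) L → L = ⊥ ∨ L = ⊤ := by
    intro L hL
    rw [hG] at hL
    exact natP_irr hC.absIrred.1 L hL
  refine ⟨A, h, T, n, X, hW, R, hG, hirr, fun hι => ?_⟩
  by_contra hcon
  push Not at hcon
  have h2 := D_eq_top R hirr hcon
  have h3 : X (sr ⟨0, hl⟩) = ⊥ := by
    rw [Subgroup.eq_bot_iff_forall]
    intro x hx
    apply natP_injective P
    rw [map_one]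
    refine LinearMap.ext fun v => ?_
    have h4 : v ∈ D M.toCoxeterSystem h X (natP P) := by rw [h2]; trivial
    exact X_fix R (natP P) h4 ⟨0, hl⟩ hx
  exact X_ne_bot R (isRoot_sr M.toCoxeterSystem h ⟨0, hl⟩) h3

/-- **type `D4`** -/
theorem D4_eight (hC : H915.LD.Core P) [Nonempty ι] (hn : Fintype.card ι ≤ 12)
    (hT : HasRGDT p (Nodes.TypeD.M 2) (H915.LD.Soc P)) : EightGood p P := by
  obtain ⟨A, h, T, n, X, hW, R, hG, hirr, hi⟩ := exists_data hC (by norm_num) hT
  obtain ⟨i, hi⟩ := hi inferInstance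
  obtain rfl := D4.cartan_D4 h
  have hV : Module.finrank F (ι → F) ≤ 12 := by rw [Module.finrank_fintype_fun_eq_card]; exact hn
  obtain ⟨hi1, hJ, h8⟩ := D4.cases R hirr hV hi
  have fr := fr8_D R hirr hi1 hJ hV
  obtain ⟨s1, s2, s3⟩ := dsing i hi1
  refine eight_of_fr8 hG hirr fr ?_ (sL i) s1 s2 s3 (D4.lL i) (D4.nl i)
    (orbit_of_closed (cs := (Nodes.TypeD.M 2).toCoxeterSystem) (h := h) i (D4.lL i) (by
      have : ∀ i : Fin 4, ∃ ω ∈ D4.lL i, (Pi.single i 1 : Fin 4 → ℤ) = lbw DC.cD4 i ω := by decide +kernel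
      exact this i) (D4.cl i))
  rw [← h8, Module.finrank_fintype_fun_eq_card]

/-- **type `B3`** -/
theorem B3_cases (hC : H915.LD.Core P) [Nonempty ι] (hn : Fintype.card ι ≤ 12)
    (hT : HasRGDT p (CoxeterMatrix.B 3) (H915.LD.Soc P)) :
    EightGood p P ∨ ∃ (A : Fin 3 → Fin 3 → ℤ) (h : IsCartan (CoxeterMatrix.B 3) A) (T : Subgroup P) (n : Fin 3 → P)
      (X : (Fin 3 → ℤ) → Subgroup P), Finite (CoxeterMatrix.B 3).Group ∧
      RGD (CoxeterMatrix.B 3).toCoxeterSystem h p T n X ∧ GG (CoxeterMatrix.B 3).toCoxeterSystem h T X = ⊤ ∧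
      ∀ j, j ∉ Jx (CoxeterMatrix.B 3).toCoxeterSystem h X (natP P) ↔ j = 0 := by
  obtain ⟨A, h, T, n, X, hW, R, hG, hirr, hi⟩ := exists_data hC (by norm_num) hT
  obtain ⟨i, hi⟩ := hi inferInstance
  have hV : Module.finrank F (ι → F) ≤ 12 := by rw [Module.finrank_fintype_fun_eq_card]; exact hn
  rcases B.cases R hirr hV hi with hJ | ⟨hJ, h8⟩
  · exact Or.inr ⟨A, h, T, n, X, hW, R, hG, hJ⟩
  · left
    have fr := fr8_B R hirr hJ hV
    refine eight_of_fr8 hG hirr fr ?_ _ (bsing h).1 rfl (bsing h).2 B.l2 (B.nl2 h)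
      (orbit_of_closed (cs := (CoxeterMatrix.B 3).toCoxeterSystem) (h := h) 2 B.l2 ⟨[], by decide, rfl⟩ (B.cl2 h))
    rw [← h8, Module.finrank_fintype_fun_eq_card]

end P

end Cfsg.Agent.H924.D5
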