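import Cfsg.Agent.H924.D5L

/-!
# The sign of the invariant form (helper924)

* `nofix` : a negative root element outside the Levi subgroup moves the highest weight vector;
* `Fr8.sign` : the invariant form of an eight dimensional module of type `B3` (spin), `D4` is not alternating, `p ≠ 2`.
-/

set_option autoImplicit false
set_option linter.unusedSectionVars false
set_option linter.style.haveILetI false
set_option linter.style.longLine false

universe u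

namespace Cfsg.Agent.H924.D5

open CoxeterSystem Cfsg.Agent.ChevalleyStructure.CoxeterGeom Cfsg.Agent.Tits.Roots Cfsg.Agent.Tits.Core
  Cfsg.Agent.Tits.Exchange Cfsg.Agent.Nodes.Reps Cfsg.Agent.Nodes.BNOf Cfsg.Agent.Nodes.StabComb
  Cfsg.Agent.Nodes.Bruhat Cfsg.Agent.Nodes.OppDec Cfsg.Agent.Nodes.LeviDec Cfsg.Agent.KFacts.RgdOpp
  Cfsg.Agent.Omega.CR Cfsg.Agent.Omega.FOne.Lift.Sd Cfsg.Agent.H905.Md Cfsg.Agent.H905
open scoped commutatorElement

section general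

variable {I W Y : Type*} [Fintype I] [DecidableEq I] [Group W] [Group Y] {M : CoxeterMatrix I}
  {cs : CoxeterSystem M W} {A : I → I → ℤ} {h : IsCartan M A} {p : ℕ} {T : Subgroup Y} {n : I → Y}
  {X : (I → ℤ) → Subgroup Y} {k V : Type*} [Field k] [AddCommGroup V] [Module k V]

variable (R : RGD cs h p T n X) [Finite Y] [Finite W] [Fact p.Prime] [CharP k p]
  {ρ : Y →* Module.End k V} [FiniteDimensional k V]

section comm

include R

omit [Finite Y] [Finite W] [Fact p.Prime] in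
/-- commuting root groups -/
theorem comm_simple {i j : I} (hij : i ≠ j) {a b : Y} (ha : a ∈ X (sr i)) (hb : b ∈ X (-sr j)) : a * b = b * a := by
  have hir := isRoot_sr cs h i
  have hjr := isRoot_sr cs h j
  have h1 := R.comm (sr i) (-sr j) hir hjr.neg (by
    intro e
    have := congrFun e i
    rw [sr_self, Pi.neg_apply, sr_ne hij] at this
    omega) (by
    rw [neg_neg]
    intro e
    have := congrFun e i
    rw [sr_self, sr_ne hij] at this
    omega) a ha b hb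
  have h2 : btw cs h X (sr i) (-sr j) = ⊥ := by
    unfold Nodes.Reps.btw
    rw [iSup_eq_bot]
    rintro ⟨z, hz, m, c, d, hm, hc, hd, he⟩
    exfalso
    have e1 := congrFun he i
    have e2 := congrFun he j
    simp only [Pi.smul_apply, Pi.add_apply, Pi.neg_apply, smul_eq_mul, sr_self, sr_ne hij, sr_ne hij.symm] at e1 e2
    rcases hz.pos_or_neg with h3 | h3
    · have h4 : 0 ≤ m * z j := mul_nonneg hm.le (h3 j)
      linarith
    · have h4 : m * z i ≤ 0 := mul_nonpos_of_nonneg_of_nonpos hm.le (h3 i)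
      linarith
  rw [h2, Subgroup.mem_bot] at h1
  exact commutatorElement_eq_one_iff_mul_comm.1 h1

omit [Finite Y] [Finite W] [Fact p.Prime] in
theorem comm_of_conj {w : W} {i j : I} (hij : i ≠ j) {x y : I → ℤ} (hx : x = rep cs h w (sr i))
    (hy : y = rep cs h w (-sr j)) {a b : Y} (ha : a ∈ X x) (hb : b ∈ X y) : a * b = b * a := by
  obtain ⟨g, hg⟩ := exists_rp cs R.nsys w
  subst hx hy
  have h1 := R.conj_mem' hg ((isRoot_sr cs h i).act w) ha
  have h2 := R.conj_mem' hg ((isRoot_sr cs h j).neg.act w) hb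
  rw [rep_inv_apply] at h1 h2
  have h3 := comm_simple R hij h1 h2
  have h4 := congrArg (fun z => g * z * g⁻¹) h3
  calc a * b = g * (g⁻¹ * a * g * (g⁻¹ * b * g)) * g⁻¹ := by group
    _ = g * (g⁻¹ * b * g * (g⁻¹ * a * g)) * g⁻¹ := h4
    _ = b * a := by group

end comm

variable (hirr : ∀ L : Submodule k V, Ivt ρ (GG cs h T X) L → L = ⊥ ∨ L = ⊤)
include R hirr

/-- **a negative root element outside the Levi subgroup moves the highest weight vector** -/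
theorem nofix [Nontrivial V] {i : I} (hJ : ∀ j, j ∉ Jx cs h X ρ ↔ j = i) {w : W} {j : I}
    (hpos : 0 < rep cs h w (sr j) i) {u : Y} (hu : u ∈ X (-rep cs h w (sr j))) (hu1 : u ≠ 1) {c : V}
    (hc : c ∈ D cs h X ρ) (hc0 : c ≠ 0) : ρ u c ≠ c := by
  intro he
  have hi : i ∉ Jx cs h X ρ := (hJ i).2 rfl
  obtain ⟨g, hg⟩ := exists_rp cs R.nsys w
  have hxr : IsRoot cs h (-rep cs h w (sr j)) := ((isRoot_sr cs h j).act w).neg
  have h1 := R.conj_mem' hg hxr hu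
  rw [map_neg, rep_inv_apply] at h1
  have h2 : g⁻¹ * u * g ≠ 1 := by
    intro h0
    apply hu1
    calc u = g * (g⁻¹ * u * g) * g⁻¹ := by group
      _ = 1 := by rw [h0]; group
  obtain ⟨a, ha, t, ht, b, hb, e⟩ := R.rk1 j _ h1 h2
  set v := ρ g⁻¹ c with hv
  have hvm : v ∈ (D cs h X ρ).map (ρ g⁻¹) := ⟨c, hc, rfl⟩
  have hv0 : v ≠ 0 := rho_ne_zero ρ _ hc0
  have h3 : ρ (g⁻¹ * u * g) v = v := by
    rw [hv, ← rho_mul, mul_assoc (g⁻¹ * u) g g⁻¹, mul_inv_cancel, mul_one, rho_mul, he]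
  have hp : 0 ≤ pr (lb cs h i w⁻¹) (sr j) := by
    rw [← rep_inv_coord', inv_inv]
    exact hpos.le
  have hfix : ∀ b ∈ X (sr j), ρ b v = v := fun b hb => fixv R hirr hJ hg.inv (isRoot_sr cs h j) hp hb hvm
  have e1 : n j = t⁻¹ * (a⁻¹ * (g⁻¹ * u * g * b⁻¹)) := by
    rw [e]
    group
  have h4 : ρ (n j) v = ρ t⁻¹ v := by
    rw [e1, rho_mul, rho_mul, rho_mul, hfix _ (inv_mem hb), h3, hfix _ (inv_mem ha)]
  have h5 : ρ (n j) v ∈ (D cs h X ρ).map (ρ g⁻¹) := by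
    have h6 : Rp cs R.nsys w⁻¹ (t⁻¹ * g⁻¹) := by
      have := (rp_of_mem (cs := cs) (hN := R.nsys) (inv_mem ht)).mul hg.inv
      rwa [one_mul] at this
    rw [map_eq_of_lb R hirr hJ hg.inv h6 rfl, h4, hv, ← rho_mul]
    exact ⟨c, hc, rfl⟩
  have h7 : ρ (n j) v ∈ (D cs h X ρ).map (ρ (n j * g⁻¹)) := by
    rw [hv, ← rho_mul]
    exact ⟨c, hc, rfl⟩
  have h8 : w⁻¹⁻¹ * (cs.simple j * w⁻¹) ∉ WJ cs (Jx cs h X ρ) := by
    intro hm
    have h9 := coord_of_mem_WJ (h := h) hm (rep cs h w (sr j)) hi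
    rw [inv_inv, rep_mul_apply, rep_mul_apply, rep_inv_apply, rep_simple_sr, map_neg, Pi.neg_apply] at h9
    omega
  have h10 := D_inf R hirr hg.inv ((rp_simple cs R.nsys j).mul hg.inv) h8
  have h11 : ρ (n j) v ∈ (D cs h X ρ).map (ρ g⁻¹) ⊓ (D cs h X ρ).map (ρ (n j * g⁻¹)) := ⟨h5, h7⟩
  rw [h10, Submodule.mem_bot] at h11
  exact rho_ne_zero ρ _ hv0 h11

/-- the component of the highest weight vector -/
theorem move_exact [Nontrivial V] {i : I} (hJ : ∀ j, j ∉ Jx cs h X ρ ↔ j = i) {β : I → ℤ} (hβ : IsRoot cs h β)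
    (hβ0 : 0 ≤ β) {x : Y} (hx : x ∈ X (-β)) {w : W} {g : Y} (hg : Rp cs R.nsys w g) (hne : lb cs h i 1 ≠ lb cs h i w)
    {c : V} (hc : c ∈ D cs h X ρ) (hm : ρ x c ∈ D cs h X ρ ⊔ (D cs h X ρ).map (ρ g)) :
    ρ x c - c ∈ (D cs h X ρ).map (ρ g) := by
  obtain ⟨a, ha, c', hc', e⟩ := Submodule.mem_sup.1 hm
  have e1 : a = c := by
    rw [← sub_eq_zero]
    by_contra hne'
    obtain ⟨φ, hφ, hφ0⟩ := exists_pair_D R hirr (Submodule.sub_mem _ ha hc) hne'
    apply hφ0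
    have h2 : φ c' = 0 := pair_zero R hirr hJ (rp_one (cs := cs) (hN := R.nsys)) hg hne
      (by rw [map_one]; exact ⟨φ, hφ, rfl⟩) hc'
    have h3 := congrArg φ e
    rw [map_add, h2, add_zero, dual_fx_pair R hφ (X_le_UN hβ.neg (neg_nonpos.2 hβ0) hx)] at h3
    rw [map_sub, h3, sub_self]
  rw [← e, e1, add_sub_cancel_left]
  exact hc'

/-- the same at another vertex -/
theorem move_exact' [Nontrivial V] {i : I} (hJ : ∀ j, j ∉ Jx cs h X ρ ↔ j = i) {β : I → ℤ} (hβ : IsRoot cs h β)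
    (hβ0 : 0 ≤ β) {w : W} {g : Y} (hg : Rp cs R.nsys w g) (hne : lb cs h i 1 ≠ lb cs h i w)
    (hmv : ∀ x ∈ X (-β), ∀ c ∈ D cs h X ρ, ρ x c ∈ D cs h X ρ ⊔ (D cs h X ρ).map (ρ g))
    {w' : W} {g' : Y} (hg' : Rp cs R.nsys w' g') (hfix : rep cs h w' β = β) {x : Y} (hx : x ∈ X (-β))
    {b : V} (hb : b ∈ (D cs h X ρ).map (ρ g')) : ρ x b - b ∈ (D cs h X ρ).map (ρ (g' * g)) := by
  obtain ⟨c, hc, rfl⟩ := hb
  have h1 := R.conj_mem' hg' hβ.neg hx
  have h2 : rep cs h w'⁻¹ β = β := by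
    have := rep_inv_apply cs h w' β
    rwa [hfix] at this
  rw [map_neg, h2] at h1
  obtain ⟨d, hd, e⟩ := move_exact R hirr hJ hβ hβ0 h1 hg hne hc (hmv _ h1 c hc)
  refine ⟨d, hd, ?_⟩
  have e5 : ρ g' (ρ (g'⁻¹ * x * g') c) = ρ x (ρ g' c) := by
    rw [← rho_mul, ← rho_mul]
    congr 2
    group
  rw [rho_mul, e, map_sub, e5]

end general

section sign

variable {I W Y : Type*} [Fintype I] [DecidableEq I] [Group W] [Group Y] {M : CoxeterMatrix I}
  {cs : CoxeterSystem M W} {A : I → I → ℤ} {h : IsCartan M A} {p : ℕ} {T : Subgroup Y} {n : I → Y}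
  {X : (I → ℤ) → Subgroup Y} {k V : Type*} [Field k] [AddCommGroup V] [Module k V]

variable {R : RGD cs h p T n X} [Finite Y] [Finite W] [Fact p.Prime] [CharP k p]
  {ρ : Y →* Module.End k V} [FiniteDimensional k V] [Nontrivial V]
  (hirr : ∀ L : Submodule k V, Ivt ρ (GG cs h T X) L → L = ⊥ ∨ L = ⊤)
  {i : I} (fr : Fr8 R ρ i)
include hirr fr

/-- **the sign** -/
theorem Fr8.sign {L : V → Module.Dual k V} (hL : ∀ g c v, L (ρ g c) (ρ g v) = L c v)
    (hadd : ∀ a b v, L (a + b) v = L a v + L b v)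
    (hskew : ∀ a b, L a b = -L b a) (hnd : ∀ v, v ≠ 0 → ∃ u, L v u ≠ 0)
    {β γ : I → ℤ} (hβ : IsRoot cs h β) (hγ : IsRoot cs h γ) (hβ0 : 0 ≤ β) (hγ0 : 0 ≤ γ)
    {wβ wγ : W} {gβ gγ : Y} (hgβ : Rp cs R.nsys wβ gβ) (hgγ : Rp cs R.nsys wγ gγ)
    (mβ : ∀ x ∈ X (-β), ∀ c ∈ D cs h X ρ, ρ x c ∈ D cs h X ρ ⊔ (D cs h X ρ).map (ρ gβ))
    (mγ : ∀ x ∈ X (-γ), ∀ c ∈ D cs h X ρ, ρ x c ∈ D cs h X ρ ⊔ (D cs h X ρ).map (ρ gγ))
    (nβ : ∀ x ∈ X (-β), x ≠ 1 → ∀ c ∈ D cs h X ρ, c ≠ 0 → ρ x c ≠ c)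
    (nγ : ∀ x ∈ X (-γ), x ≠ 1 → ∀ c ∈ D cs h X ρ, c ≠ 0 → ρ x c ≠ c)
    (hcomm : ∀ x ∈ X (-β), ∀ y ∈ X (-γ), x * y = y * x)
    (fβ : rep cs h wβ γ = γ) (fγ : rep cs h wγ β = β)
    (lβ : lb cs h i 1 ≠ lb cs h i wβ) (lγ : lb cs h i 1 ≠ lb cs h i wγ)
    (lop : lb cs h i wγ = -lb cs h i wβ)
    (lt : lb cs h i (wβ * wγ) = -lb cs h i 1) : (2 : k) = 0 := by
  obtain ⟨c, hc, hc0⟩ := (Submodule.ne_bot_iff _).1 (simp_fx R ρ hirr).ne
  change c ∈ D cs h X ρ at hc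
  obtain ⟨x, hx, hx1⟩ := (X (-β)).bot_or_exists_ne_one.resolve_left (X_ne_bot R hβ.neg)
  obtain ⟨y, hy, hy1⟩ := (X (-γ)).bot_or_exists_ne_one.resolve_left (X_ne_bot R hγ.neg)
  have lβ' : lb cs h i wβ ≠ -lb cs h i 1 := by
    intro e
    rw [e, neg_neg] at lop
    exact lγ lop.symm
  have lγ' : lb cs h i wγ ≠ -lb cs h i 1 := by
    intro e
    rw [e, neg_inj] at lop
    exact lβ lop
  set a := ρ x c - c with ha
  set b := ρ y c - c with hb
  have ham : a ∈ (D cs h X ρ).map (ρ gβ) := move_exact R hirr fr.hJ hβ hβ0 hx hgβ lβ hc (mβ x hx c hc)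
  have hbm : b ∈ (D cs h X ρ).map (ρ gγ) := move_exact R hirr fr.hJ hγ hγ0 hy hgγ lγ hc (mγ y hy c hc)
  have ha0 : a ≠ 0 := sub_ne_zero.2 (nβ x hx hx1 c hc hc0)
  have hb0 : b ≠ 0 := sub_ne_zero.2 (nγ y hy hy1 c hc hc0)
  have hxc : ρ x c = c + a := by rw [ha]; abel
  have hyc : ρ y c = c + b := by rw [hb]; abel
  set t := ρ y a - a with ht
  have htm : t ∈ (D cs h X ρ).map (ρ (gβ * gγ)) :=
    move_exact' R hirr fr.hJ hγ hγ0 hgγ lγ mγ hgβ fβ hy ham
  have hya : ρ y a = a + t := by rw [ht]; abel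
  have hxb : ρ x b = b + t := by
    have h1 : ρ x (ρ y c) = ρ y (ρ x c) := by rw [← rho_mul, ← rho_mul, hcomm x hx y hy]
    rw [hyc, hxc, map_add, map_add, hxc, hyc, hya] at h1
    have h2 : ρ x b = (c + a + ρ x b) - (c + a) := by abel
    rw [h2, h1]
    abel
  have hgt := hgβ.mul hgγ
  -- the form
  have hc' : c ∈ (D cs h X ρ).map (ρ 1) := by rw [map_one]; exact ⟨c, hc, rfl⟩
  have r1 := rp_one (cs := cs) (hN := R.nsys)
  have h1 : L c b = 0 := fr.form_zero hirr hL r1 hgγ lγ' hc' hbm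
  have h2 : L c a = 0 := fr.form_zero hirr hL r1 hgβ lβ' hc' ham
  have h3 : L a t = 0 := fr.form_zero hirr hL hgβ hgt (by rw [lt, ne_eq, neg_inj]; exact lβ) ham htm
  have h4 : L b t = 0 := fr.form_zero hirr hL hgγ hgt (by
    rw [lt, ne_eq, neg_inj]
    exact lγ) hbm htm
  have e1 : L c t + L a b = 0 := by
    have h5 := hL x c b
    rw [hxc, hxb, hadd, map_add, map_add, h1, h3] at h5
    linear_combination h5
  have e2 : L c t + L b a = 0 := by
    have h5 := hL y c a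
    rw [hyc, hya, hadd, map_add, map_add, h2, h4] at h5
    linear_combination h5
  have hab : L a b ≠ 0 := by
    intro h0
    obtain ⟨u, hu⟩ := hnd a ha0
    apply hu
    choose g hg using fun w => exists_rp cs R.nsys w
    have htop := top_of_Kv R hirr fr.hK hg
    have hum : u ∈ ⨆ w, (D cs h X ρ).map (ρ (g w)) := by rw [htop]; trivial
    induction hum using Submodule.iSup_induction' with
    | mem w v hv =>
      by_cases hw : lb cs h i w = -lb cs h i wβ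
      · have h6 := map_eq_of_lb R hirr fr.hJ (hg w) hgγ (by rw [hw, lop])
        rw [h6] at hv
        obtain ⟨r, hr⟩ := fr.exists_smul hbm hb0 hv
        rw [← hr, map_smul, h0, smul_zero]
      · exact fr.form_zero hirr hL hgβ (hg w) hw ham hv
    | zero => exact map_zero _
    | add v v' _ _ h6 h7 =>
      by_cases h8 : L a v = 0
      · by_cases h9 : L a v' = 0
        · rw [map_add, h8, h9, add_zero]
        · exact absurd (h7 h9) h9
      · exact absurd (h6 h8) h8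
  have e3 := hskew a b
  have e4 : 2 * L a b = 0 := by linear_combination e1 - e2 + e3
  exact (mul_eq_zero.1 e4).resolve_right hab

end sign

end Cfsg.Agent.H924.D5
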