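import Cfsg.Agent.H924.D5M
import Cfsg.Agent.H915.LD

/-!
# The sign of the invariant form, types `B3` (spin) and `D4` (helper924)

* `sign_B`, `sign_D` : an invariant alternating form implies `p = 2`;
* `cover_B3'`, `cover_D4'` : hence `¬ FixA P` for `p ≠ 2`;
* `EightStrong p P` : `EightGood p P` and (`p ≠ 2 → ¬ FixA P`); `psp6'`, `po7'`, `po8minus'`, `po8plus'`.
-/

set_option autoImplicit false
set_option linter.unusedSectionVars false
set_option linter.style.haveILetI false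
set_option linter.style.longLine false

universe u

namespace Cfsg.Agent.H924.D5

open CoxeterSystem Cfsg.Agent.ChevalleyStructure.CoxeterGeom Cfsg.Agent.Tits.Roots Cfsg.Agent.Tits.Core
  Cfsg.Agent.Tits.Exchange Cfsg.Agent.Nodes.Reps Cfsg.Agent.Nodes.BNOf Cfsg.Agent.Nodes.StabComb
  Cfsg.Agent.Nodes.Bruhat Cfsg.Agent.Nodes.OppDec Cfsg.Agent.Nodes.LeviDec Cfsg.Agent.KFacts.RgdOpp
  Cfsg.Agent.Omega.CR Cfsg.Agent.Omega.FOne.Lift.Sd Cfsg.Agent.H905.Md Cfsg.Agent.H905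
open scoped MatrixGroups

/-! ### type `B3` -/

section Bw

open B

variable {A : Fin 3 → Fin 3 → ℤ} (h : IsCartan (CoxeterMatrix.B 3) A)
include h

theorem bsg1 : (∀ l, 0 ≤ rww A [0, 1] (Pi.single 2 1) l) ∧ rww A [0, 1, 2, 1, 0] (rww A [2] (Pi.single 1 1)) = rww A [2] (Pi.single 1 1) ∧
    rww A [2, 1, 2] (rww A [0, 1] (Pi.single 2 1)) = rww A [0, 1] (Pi.single 2 1) := by
  rcases cartan_B3 h with rfl | rfl <;> decide +kernel

theorem bsg2 : (Pi.single 2 1 : Fin 3 → ℤ) ≠ lbw A 2 [2, 1, 2] ∧ (Pi.single 2 1 : Fin 3 → ℤ) ≠ lbw A 2 [0, 1, 2, 1, 0] ∧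
    lbw A 2 [0, 1, 2, 1, 0] = -lbw A 2 [2, 1, 2] ∧ lbw A 2 [2, 1, 2, 0, 1, 2, 1, 0] = -(Pi.single 2 1) := by
  rcases cartan_B3 h with rfl | rfl <;> decide +kernel

theorem bsg3 : rww A [2, 0, 1, 0] (Pi.single 0 1) = -rww A [2] (Pi.single 1 1) ∧
    rww A [2, 0, 1, 0] (Pi.single 2 1) = rww A [0, 1] (Pi.single 2 1) ∧
    (0 : ℤ) < rww A [2] (Pi.single 1 1) 2 ∧ (0 : ℤ) < rww A [0, 1] (Pi.single 2 1) 2 ∧
    (Pi.single 2 1 : Fin 3 → ℤ) = lbw A 2 [0, 1] ∧ lbw A 2 [0, 1, 2, 1, 0] = lbw A 2 ([0, 1] ++ [2]) := by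
  rcases cartan_B3 h with rfl | rfl <;> decide +kernel

end Bw

section B

open B

variable {W Y : Type*} [Group W] [Group Y] {cs : CoxeterSystem (CoxeterMatrix.B 3) W} {A : Fin 3 → Fin 3 → ℤ}
  {h : IsCartan (CoxeterMatrix.B 3) A} {p : ℕ} {T : Subgroup Y} {n : Fin 3 → Y}
  {X : (Fin 3 → ℤ) → Subgroup Y} {k V : Type*} [Field k] [AddCommGroup V] [Module k V]

variable (R : RGD cs h p T n X) [Finite Y] [Finite W] [Fact p.Prime] [CharP k p]
  {ρ : Y →* Module.End k V} [FiniteDimensional k V]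
  (hirr : ∀ L : Submodule k V, Ivt ρ (GG cs h T X) L → L = ⊥ ∨ L = ⊤)
include R hirr

/-- the diagonal of a face -/
theorem diag_B [Nontrivial V] (hJ : ∀ j, j ∉ Jx cs h X ρ ↔ j = 2) (hK : Kv cs h R.nsys X ρ = ⊥) {c : Y}
    (hc : Rp cs R.nsys (cs.wordProd [2, 1, 2]) c) {b' : Y} (h3 : b' ∈ X (-rww A [2] (Pi.single 1 1))) {v : V}
    (hv : v ∈ D cs h X ρ) : ρ b' v ∈ D cs h X ρ ⊔ (D cs h X ρ).map (ρ c) := by
  obtain ⟨γ0, γpos, γ1, γ2, γ3, γ4⟩ := bgam h
  have hγr : IsRoot cs h (rww A [2] (Pi.single 1 1)) := isRoot_word [2] 1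
  have hγJ : rww A [2] (Pi.single 1 1) ∈ PosJ cs h ({j | j ≠ 0} : Set (Fin 3)) :=
    ⟨hγr, γpos, fun l hl => by
      have hl0 : l = 0 := by simpa using hl
      rw [hl0]
      exact γ0⟩
  have hm : ρ b' v ∈ Le cs h T X ρ {j | j ≠ 0} :=
    Ivt_Le R _ b' (X_le_LJ (RootsJ.neg (PosJ_subset _ hγJ)) h3) v (D_le_Le R _ hv)
  have hv1 : v ∈ (D cs h X ρ).map (ρ 1) := by rw [map_one]; exact ⟨v, hv, rfl⟩
  have key : ρ b' v ∈ (D cs h X ρ).map (ρ 1) ⊔ (D cs h X ρ).map (ρ c) := by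
    refine mem_vertex2 R hirr hJ hK (rp_one (cs := cs) (hN := R.nsys)) hc ?_ ?_
    · rw [lb_one, lb_wordProd]
      exact γ2.symm
    · intro w' g' hg' hne1 hne2 φ hφ
      by_contra hφ0
      obtain ⟨ω', hω', he⟩ := orbit_of_closed (cs := cs) (h := h) 2 l2 ⟨[], by decide, rfl⟩ (cl2 h) w'
      rcases bl2 h ω' hω' with h4 | h4 | h4
      · rw [fixd_apply R hirr hJ hg' hγr.neg (by rw [he]; exact h4) h3 hφ,
          pair_zero R hirr hJ hg' (rp_one (cs := cs) (hN := R.nsys)) hne1 hφ hv1] at hφ0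
        exact hφ0 rfl
      · exact hne2 (by rw [he, h4, lb_wordProd])
      · obtain ⟨ψ, hψ, rfl⟩ := hφ
        obtain ⟨u', hu', hu'J⟩ := vertex_face R hirr hg' hψ hm hφ0
        have h5 : lb cs h 2 u' = -lb cs h 2 1 := by
          rw [(mem_WJ_iff_lb hJ).1 hu'J, he, h4, lb_one]
          rfl
        have h6 := lb_eq_neg h5 (rww A [0, 1] (Pi.single 2 1))
        rw [mul_one, rep_fix_of_mem (fun j hj => by
          rw [rep_simple_rf]
          exact (bz h).1 j hj) (inv_mem hu')] at h6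
        have h7 := (bz h).2
        omega
  rw [map_one] at key
  rwa [show Submodule.map (1 : Module.End k V) (D cs h X ρ) = D cs h X ρ from Submodule.map_id _] at key

/-- **type `B3`, spin module: the sign** -/
theorem sign_B [Nontrivial V] (hJ : ∀ j, j ∉ Jx cs h X ρ ↔ j = 2) (hV : Module.finrank k V ≤ 12)
    {L : V → Module.Dual k V} (hL : ∀ g c v, L (ρ g c) (ρ g v) = L c v)
    (hadd : ∀ a b v, L (a + b) v = L a v + L b v)
    (hskew : ∀ a b, L a b = -L b a) (hnd : ∀ v, v ≠ 0 → ∃ u, L v u ≠ 0) : (2 : k) = 0 := by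
  have fr := fr8_B R hirr hJ hV
  obtain ⟨-, γpos, -⟩ := bgam h
  obtain ⟨s1, s2, s3⟩ := bsg1 h
  obtain ⟨s4, s5, s6, s7⟩ := bsg2 h
  obtain ⟨s8, s9, s10, s11, s12, s13⟩ := bsg3 h
  obtain ⟨gβ, hgβ⟩ := exists_rp cs R.nsys (cs.wordProd [2, 1, 2])
  obtain ⟨gγ, hgγ⟩ := exists_rp cs R.nsys (cs.wordProd [0, 1, 2, 1, 0])
  have r1 := rp_one (cs := cs) (hN := R.nsys)
  have hβ : IsRoot cs h (rww A [2] (Pi.single 1 1)) := isRoot_word [2] 1
  have hγ : IsRoot cs h (rww A [0, 1] (Pi.single 2 1)) := isRoot_word [0, 1] 2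
  have e1 : rww A [2] (Pi.single 1 1) = rep cs h (cs.wordProd [2]) (sr 1) := by rw [rep_wordProd]; rfl
  have e2 : rww A [0, 1] (Pi.single 2 1) = rep cs h (cs.wordProd [0, 1]) (sr 2) := by rw [rep_wordProd]; rfl
  refine fr.sign hirr hL hadd hskew hnd hβ hγ γpos s1 hgβ hgγ (fun x hx c hc => diag_B R hirr hJ fr.hK hgβ hx hc)
    (fun x hx c hc => ?_) (fun x hx hx1 c hc hc0 => ?_) (fun x hx hx1 c hc hc0 => ?_) (fun x hx y hy => ?_)
    (by rw [rep_wordProd]; exact s3) (by rw [rep_wordProd]; exact s2) (by rw [lb_one, lb_wordProd]; exact s4)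
    (by rw [lb_one, lb_wordProd]; exact s5) (by rw [lb_wordProd, lb_wordProd]; exact s6)
    (by rw [← cs.wordProd_append, lb_wordProd, lb_one]; exact s7)
  · have h1 := edgev R hirr hJ fr.hLe r1 hgγ [0, 1] (by rw [lb_one]; exact s12) (by rw [lb_wordProd]; exact s13)
      hγ.neg (by rw [neg_neg]) hx (v := c) (by rw [map_one]; exact ⟨c, hc, rfl⟩)
    rw [map_one] at h1
    rwa [show Submodule.map (1 : Module.End k V) (D cs h X ρ) = D cs h X ρ from Submodule.map_id _] at h1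
  · rw [e1] at hx
    exact nofix R hirr hJ (by rw [← e1]; exact s10) hx hx1 hc hc0
  · rw [e2] at hx
    exact nofix R hirr hJ (by rw [← e2]; exact s11) hx hx1 hc hc0
  · refine comm_of_conj R (w := cs.wordProd [2, 0, 1, 0]) (i := 0) (j := 2) (by decide) ?_ ?_ hx hy
    · rw [rep_wordProd]
      exact s8.symm
    · rw [map_neg, rep_wordProd]
      exact congrArg Neg.neg s9.symm

end B

/-! ### type `D4` -/

section Dw

/-- the word of the highest root -/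
def gw (i : Fin 4) : List (Fin 4) := if i = 0 then [1, 2, 3, 1] else if i = 2 then [1, 0, 3, 1] else [1, 0, 2, 1]

/-- the word of the commuting pair -/
def cw (i : Fin 4) : List (Fin 4) × Fin 4 × Fin 4 :=
  if i = 0 then ([0, 1, 2, 0, 1], 2, 3) else if i = 2 then ([1, 2, 0, 1, 0], 0, 3) else ([1, 3, 0, 1, 0], 0, 2)

/-- the vector -/
def gv (i : Fin 4) : Fin 4 → ℤ := rww DC.cD4 (gw i) (Pi.single i 1)

/-- the reflection -/
def gr (i : Fin 4) : List (Fin 4) := gw i ++ i :: (gw i).reverse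

theorem dsg1 : ∀ i : Fin 4, i ≠ 1 → (∀ l, 0 ≤ gv i l) ∧ rww DC.cD4 (gr i) (Pi.single i 1) = Pi.single i 1 ∧
    rww DC.cD4 [i] (gv i) = gv i := by decide +kernel

theorem dsg2 : ∀ i : Fin 4, i ≠ 1 → (Pi.single i 1 : Fin 4 → ℤ) ≠ lbw DC.cD4 i [i] ∧
    (Pi.single i 1 : Fin 4 → ℤ) ≠ lbw DC.cD4 i (gr i) ∧
    lbw DC.cD4 i (gr i) = -lbw DC.cD4 i [i] ∧ lbw DC.cD4 i ([i] ++ gr i) = -(Pi.single i 1) := by decide +kernel

theorem dsg3 : ∀ i : Fin 4, i ≠ 1 → (cw i).2.1 ≠ (cw i).2.2 ∧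
    rww DC.cD4 (cw i).1 (Pi.single (cw i).2.1 1) = -Pi.single i 1 ∧
    rww DC.cD4 (cw i).1 (Pi.single (cw i).2.2 1) = gv i ∧ (0 : ℤ) < gv i i ∧
    (Pi.single i 1 : Fin 4 → ℤ) = lbw DC.cD4 i (gw i) ∧ lbw DC.cD4 i (gr i) = lbw DC.cD4 i (gw i ++ [i]) := by
  decide +kernel

end Dw

section D

open D4

variable {W Y : Type*} [Group W] [Group Y] {cs : CoxeterSystem (Nodes.TypeD.M 2) W}
  {h : IsCartan (Nodes.TypeD.M 2) DC.cD4} {p : ℕ} {T : Subgroup Y} {n : Fin 4 → Y}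
  {X : (Fin 4 → ℤ) → Subgroup Y} {k V : Type*} [Field k] [AddCommGroup V] [Module k V]

variable (R : RGD cs h p T n X) [Finite Y] [Finite W] [Fact p.Prime] [CharP k p]
  {ρ : Y →* Module.End k V} [FiniteDimensional k V]
  (hirr : ∀ L : Submodule k V, Ivt ρ (GG cs h T X) L → L = ⊥ ∨ L = ⊤)
include R hirr

/-- **type `D4`: the sign** -/
theorem sign_D [Nontrivial V] {i : Fin 4} (hi1 : i ≠ 1) (hJ : ∀ j, j ∉ Jx cs h X ρ ↔ j = i)
    (hV : Module.finrank k V ≤ 12)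
    {L : V → Module.Dual k V} (hL : ∀ g c v, L (ρ g c) (ρ g v) = L c v)
    (hadd : ∀ a b v, L (a + b) v = L a v + L b v)
    (hskew : ∀ a b, L a b = -L b a) (hnd : ∀ v, v ≠ 0 → ∃ u, L v u ≠ 0) : (2 : k) = 0 := by
  have fr := fr8_D R hirr hi1 hJ hV
  obtain ⟨s1, s2, s3⟩ := dsg1 i hi1
  obtain ⟨s4, s5, s6, s7⟩ := dsg2 i hi1
  obtain ⟨s8, s9, s10, s11, s12, s13⟩ := dsg3 i hi1
  obtain ⟨gβ, hgβ⟩ := exists_rp cs R.nsys (cs.wordProd [i])
  obtain ⟨gγ, hgγ⟩ := exists_rp cs R.nsys (cs.wordProd (gr i))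
  have r1 := rp_one (cs := cs) (hN := R.nsys)
  have hβ : IsRoot cs h (Pi.single i 1) := isRoot_sr cs h i
  have hγ : IsRoot cs h (gv i) := isRoot_word (gw i) i
  have e2 : gv i = rep cs h (cs.wordProd (gw i)) (sr i) := by rw [rep_wordProd]; rfl
  refine fr.sign hirr hL hadd hskew hnd hβ hγ (sr_nonneg i) s1 hgβ hgγ (fun x hx c hc => ?_)
    (fun x hx c hc => ?_) (fun x hx hx1 c hc hc0 => ?_) (fun x hx hx1 c hc hc0 => ?_) (fun x hx y hy => ?_)
    (by rw [rep_wordProd]; exact s3) (by rw [rep_wordProd]; exact s2) (by rw [lb_one, lb_wordProd]; exact s4)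
    (by rw [lb_one, lb_wordProd]; exact s5) (by rw [lb_wordProd, lb_wordProd]; exact s6)
    (by rw [← cs.wordProd_append, lb_wordProd, lb_one]; exact s7)
  · have h1 := edgev R hirr hJ fr.hLe r1 hgβ [] (by rw [lb_one]; rfl) (by rw [lb_wordProd]; rfl)
      hβ.neg (by rw [neg_neg]; rfl) hx (v := c) (by rw [map_one]; exact ⟨c, hc, rfl⟩)
    rw [map_one] at h1
    rwa [show Submodule.map (1 : Module.End k V) (D cs h X ρ) = D cs h X ρ from Submodule.map_id _] at h1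
  · have h1 := edgev R hirr hJ fr.hLe r1 hgγ (gw i) (by rw [lb_one]; exact s12) (by rw [lb_wordProd]; exact s13)
      hγ.neg (by rw [neg_neg]; rfl) hx (v := c) (by rw [map_one]; exact ⟨c, hc, rfl⟩)
    rw [map_one] at h1
    rwa [show Submodule.map (1 : Module.End k V) (D cs h X ρ) = D cs h X ρ from Submodule.map_id _] at h1
  · refine nofix R hirr hJ (w := 1) (j := i) ?_ ?_ hx1 hc hc0
    · rw [map_one, Module.End.one_apply, sr_self]
      exact one_pos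
    · rw [map_one, Module.End.one_apply]
      exact hx
  · rw [e2] at hx
    exact nofix R hirr hJ (by rw [← e2]; exact s11) hx hx1 hc hc0
  · refine comm_of_conj R (w := cs.wordProd (cw i).1) (i := (cw i).2.1) (j := (cw i).2.2) s8 ?_ ?_ hx hy
    · rw [rep_wordProd]
      exact s9.symm
    · rw [map_neg, rep_wordProd]
      exact congrArg Neg.neg s10.symm

end D

/-! ### groups -/

section cover

open Cfsg Cfsg.Geo Matrix Cfsg.Agent.H911 Cfsg.Agent.H925.Nat Cfsg.Agent.Nodes.RGDLib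

variable {F : Type u} [Field F] [Finite F] {ι : Type} [Fintype ι] [DecidableEq ι] {P : Subgroup (GL ι F)}
  {p : ℕ} [hp : Fact p.Prime] [CharP F p] {Y : Type*} [Group Y] [Finite Y] {g₀ : Y →* P}

/-- no alternating form -/
theorem not_fixA_of_sign (h2 : p ≠ 2)
    (sg : ∀ {L : (ι → F) → Module.Dual F (ι → F)},
      (∀ g c v, L (lin ((matP P).comp g₀) g c) (lin ((matP P).comp g₀) g v) = L c v) →
      (∀ a b v, L (a + b) v = L a v + L b v) → (∀ a b, L a b = -L b a) → (∀ v, v ≠ 0 → ∃ u, L v u ≠ 0) → (2 : F) = 0) :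
    ¬ H915.LD.FixA P := by
  rintro ⟨f, hf, hfP⟩
  let Lf : (ι → F) → Module.Dual F (ι → F) := fun v =>
    { toFun := fun w => f v w
      map_add' := fun x y => hf.bilinear.add_right v x y
      map_smul' := fun a x => hf.bilinear.smul_right a v x }
  have h3 := sg (L := Lf) (by
    intro g c v
    rw [linP_apply, linP_apply]
    exact hfP _ ⟨g₀ g, (g₀ g).2, rfl⟩ c v) (fun a b v => hf.bilinear.add_left a b v) (fun a b => hf.skew a b)
    (fun v hv => (hf.nondegenerate v hv).2)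
  have h4 : (p : F) = 0 := CharP.cast_eq_zero F p
  have h5 : p ∣ 2 := (CharP.cast_eq_zero_iff F p 2).1 (by exact_mod_cast h3)
  exact h2 ((Nat.prime_dvd_prime_iff_eq Fact.out Nat.prime_two).1 h5)

/-- the conclusion in degree `8`, with the sign -/
def EightStrong (p : ℕ) (P : Subgroup (GL ι F)) : Prop :=
  EightGood p P ∧ (p ≠ 2 → ¬ H915.LD.FixA P)

omit [Finite F] [CharP F p] hp in
/-- **an invariant symplectic form implies an invariant quadratic form** -/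
theorem EightStrong.fixQ (h : EightStrong p P) (hA : H915.LD.FixA P) : H915.LD.FixQ P := by
  by_cases h2 : p = 2
  · exact h.1.fixQ h2 hA
  · exact absurd hA (h.2 h2)

/-- **covers with a root group datum of type `B3`** -/
theorem cover_B3' (hC : H915.LD.Core P) (hι : Fintype.card ι ≤ 12) (hg₀ : Function.Surjective g₀)
    {A : Fin 3 → Fin 3 → ℤ} {h : IsCartan (CoxeterMatrix.B 3) A} {T : Subgroup Y} {n : Fin 3 → Y}
    {X : (Fin 3 → ℤ) → Subgroup Y} [Finite (CoxeterMatrix.B 3).Group]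
    (R : RGD (CoxeterMatrix.B 3).toCoxeterSystem h p T n X)
    (hG : G1 (CoxeterMatrix.B 3).toCoxeterSystem h X = ⊤) :
    (∀ i, i ∈ Jx (CoxeterMatrix.B 3).toCoxeterSystem h X (lin ((matP P).comp g₀)) ↔ i ≠ 0) ∨ EightStrong p P := by
  rcases cover_B3 hC hι hg₀ R hG with h1 | h1
  · exact Or.inl h1
  have hne := hC.nonempty
  have hirr := cov_irr (T := T) hC hg₀ hG
  obtain ⟨i, hi⟩ := exists_notMem_J hC hg₀ R hG
  have hV : Module.finrank F (ι → F) ≤ 12 := by rw [Module.finrank_fintype_fun_eq_card]; exact hι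
  rcases B.cases R hirr hV hi with hJ | ⟨hJ, h8⟩
  · left
    intro j
    have := hJ j
    tauto
  · exact Or.inr ⟨h1, fun h2 => not_fixA_of_sign (g₀ := g₀) h2 fun hL ha hs hn => sign_B R hirr hJ hV hL ha hs hn⟩

/-- **covers with a root group datum of type `D4`** -/
theorem cover_D4' (hC : H915.LD.Core P) (hι : Fintype.card ι ≤ 12) (hg₀ : Function.Surjective g₀)
    {A : Fin 4 → Fin 4 → ℤ} {h : IsCartan (Nodes.TypeD.M 2) A} {T : Subgroup Y} {n : Fin 4 → Y}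
    {X : (Fin 4 → ℤ) → Subgroup Y} [Finite (Nodes.TypeD.M 2).Group]
    (R : RGD (Nodes.TypeD.M 2).toCoxeterSystem h p T n X)
    (hG : G1 (Nodes.TypeD.M 2).toCoxeterSystem h X = ⊤) : EightStrong p P := by
  refine ⟨(cover_D4 hC hι hg₀ R hG).1, fun h2 => ?_⟩
  have hne := hC.nonempty
  have hirr := cov_irr (T := T) hC hg₀ hG
  obtain ⟨i, hi⟩ := exists_notMem_J hC hg₀ R hG
  have hV : Module.finrank F (ι → F) ≤ 12 := by rw [Module.finrank_fintype_fun_eq_card]; exact hι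
  obtain rfl := D4.cartan_D4 h
  obtain ⟨hi1, hJ, h8⟩ := D4.cases R hirr hV hi
  exact not_fixA_of_sign (g₀ := g₀) h2 fun hL ha hs hn => sign_D R hirr hi1 hJ hV hL ha hs hn

end cover

section groups

open Cfsg Cfsg.Geo Matrix Cfsg.Agent.H925.Nat

variable {F : Type u} [Field F] [Finite F] {ι : Type} [Fintype ι] [DecidableEq ι] {P : Subgroup (GL ι F)}
  {p : ℕ} [hp : Fact p.Prime] [CharP F p] {K : Type} [Field K] [Finite K] [CharP K p]

/-- **`PSp_6`** -/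
theorem psp6' (hC : H915.LD.Core P) (hι : Fintype.card ι ≤ 12) (e : H915.LD.Soc P ≃* PSp 3 K) :
    (Nonempty (K ≃+* F) ∧ CjOf (spGL 3 F) P) ∨ EightStrong p P := by
  obtain ⟨Y, hY1, hY2, C, -⟩ := exists_cvSp (p := p) hC le_rfl e
  have hWf : Finite (CoxeterMatrix.B 3).Group := Nodes.TypeC.finite_W (CoxeterMatrix.B 3).toCoxeterSystem
  rcases cover_B3' hC hι C.surj_g C.rgd C.gen with h | h
  · exact Or.inl (psp_three hC hι C h)
  · exact Or.inr h

/-- **`PΩ_7`** -/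
theorem po7' (hC : H915.LD.Core P) (hι : Fintype.card ι ≤ 12) (h2 : (2 : K) ≠ 0)
    (e : H915.LD.Soc P ≃* POmega K (quadFormOdd 3 K)) :
    (Nonempty (K ≃+* F) ∧ CjOf (omegaGL (quadFormOdd 3 F)) P) ∨ EightStrong p P := by
  rw [← LieClassical.OrthForms.coe_oddForm] at e
  obtain ⟨Y, hY1, hY2, C, -⟩ := exists_cvOdd (p := p) hC (m := 3) le_rfl h2 e
  have hWf : Finite (CoxeterMatrix.B 3).Group := Nodes.TypeC.finite_W (CoxeterMatrix.B 3).toCoxeterSystem
  rcases cover_B3' hC hι C.surj_g C.rgd C.gen with h | h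
  · exact Or.inl (po_odd_three hC hι h2 C h)
  · exact Or.inr h

/-- **`PΩ⁻_8`** -/
theorem po8minus' (hC : H915.LD.Core P) (hι : Fintype.card ι ≤ 12) {a b : K}
    (hab : ∀ z₁ z₂ : K, z₁ ^ 2 + a * z₁ * z₂ + b * z₂ ^ 2 = 0 → z₁ = 0 ∧ z₂ = 0)
    (e : H915.LD.Soc P ≃* POmega K (quadFormMinus 3 K a b)) :
    (∃ τ : K ≃+* F, CjOf (omegaGL (quadFormMinus 3 F (τ a) (τ b))) P) ∨ EightStrong p P := by
  rw [← LieClassical.OrthForms.coe_minusForm] at e
  obtain ⟨Y, hY1, hY2, C, -⟩ := exists_cvMinus (p := p) hC (m := 3) le_rfl hab e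
  have hWf : Finite (CoxeterMatrix.B 3).Group := Nodes.TypeC.finite_W (CoxeterMatrix.B 3).toCoxeterSystem
  rcases cover_B3' hC hι C.surj_g C.rgd C.gen with h | h
  · exact Or.inl (po_minus_three hC hι hab C h)
  · exact Or.inr h

/-- **`PΩ⁺_8`** -/
theorem po8plus' (hC : H915.LD.Core P) (hι : Fintype.card ι ≤ 12) (e : H915.LD.Soc P ≃* POmega K (quadFormPlus 4 K)) :
    EightStrong p P := by
  obtain ⟨Y, hY1, hY2, C, -⟩ := exists_cvPlus (p := p) hC (n := 2) (by omega) e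
  have hWf : Finite (Nodes.TypeD.M 2).Group := Nodes.TypeD.finite_W (Nodes.TypeD.M 2).toCoxeterSystem
  exact cover_D4' hC hι C.surj_g C.rgd C.gen

end groups

end Cfsg.Agent.H924.D5
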