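import Cfsg.Agent.H924.L34Rep

/-!
# Centralisers in dimension eight (helper924)
-/

set_option autoImplicit false

namespace Cfsg.Agent.H924.L34

open Module Matrix

variable {k : Type*} [Field k] {Λ X : Type*} [Group Λ] [Group X] {ρ : Λ →* M8 k} {π : Λ →* X}

theorem finrank_M8 : finrank k (M8 k) = 64 := by
  rw [Module.finrank_matrix, Fintype.card_fin, Module.finrank_self]

namespace PR

variable (h : PR ρ π)

include h

theorem avg_eq_zero (h2 : (2 : k) ≠ 0) (E : Subgroup X) [Fintype E] (ha : Anti ρ π E) {g : Λ} (hg : π g ∈ E)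
    (hg1 : π g ≠ 1) : h.avg E (ρ g) = 0 := by
  obtain ⟨g', hg', hgg⟩ := ha g hg hg1
  have h1 : h.cj (π g') (ρ g) = -ρ g := by
    rw [cj_apply]
    have : ρ g' * ρ g = -(ρ g * ρ g') := by rw [hgg, neg_neg]
    rw [this, neg_mul, mul_assoc, mul_inv', mul_one]
  have h3 := PR.avg_cj E h hg' (ρ g)
  rw [h1, map_neg] at h3
  have h4 : (2 : k) • h.avg E (ρ g) = 0 := by
    rw [two_smul]
    nth_rewrite 1 [← h3]
    rw [neg_add_cancel]
  exact (smul_eq_zero.1 h4).resolve_left h2

theorem finrank_Fx (h2 : (2 : k) ≠ 0) (E : Subgroup X) [Fintype E] (hcard : Fintype.card E = 16)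
    (ha : Anti ρ π E) : finrank k (h.Fx E) = 4 := by
  classical
  have hE : (Fintype.card E : k) ≠ 0 := by
    rw [hcard]
    have : ((16 : ℕ) : k) = 2 ^ 4 := by norm_num
    rw [this]
    exact pow_ne_zero _ h2
  choose s hs using fun a : E => h.surj (a : X)
  -- the inverse of the matrix of a lift
  have hone : h.avg E 1 = 1 := PR.avg_of_mem E h hE (h.one_mem_Fx E)
  have hav : ∀ a b : E, h.avg E (ρ (s b)⁻¹ * ρ (s a)) = if a = b then 1 else 0 := by
    intro a b
    by_cases hab : a = b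
    · subst hab
      rw [if_pos rfl, inv_mul', hone]
    · rw [if_neg hab, ← map_mul]
      have h3 : π ((s b)⁻¹ * s a) = ((b⁻¹ * a : E) : X) := by
        rw [map_mul, map_inv, hs, hs]; rfl
      apply h.avg_eq_zero h2 E ha
      · rw [h3]; exact (b⁻¹ * a : E).2
      · rw [h3]
        intro h4
        apply hab
        have h5 : b⁻¹ * a = 1 := Subtype.ext h4
        exact (inv_mul_eq_one.1 h5).symm
  have hsum : ∀ x : E, ∑ a : E, ρ (s a) * h.cj (x : X) (ρ (s a)⁻¹) = if x = 1 then (Fintype.card E : k) • 1 else 0 := by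
    intro x
    have h3 : ∀ a : E, ρ (s a) * h.cj (x : X) (ρ (s a)⁻¹) = h.cj (a : X) (ρ (s x)) * ρ (s x)⁻¹ := by
      intro a
      conv_lhs => rw [← hs x, cj_apply]
      conv_rhs => rw [← hs a, cj_apply]
      simp only [mul_assoc]
    rw [Finset.sum_congr rfl fun a _ => h3 a, ← Finset.sum_mul]
    have h4 : ∑ a : E, h.cj (a : X) (ρ (s x)) = (Fintype.card E : k) • h.avg E (ρ (s x)) := by
      rw [PR.avg_apply, smul_smul, mul_inv_cancel₀ hE, one_smul]
    rw [h4]
    by_cases hx : x = 1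
    · subst hx
      rw [if_pos rfl]
      obtain ⟨c, hc0, hc⟩ := h.scal' (g := s 1) (by rw [hs]; rfl)
      have h5 : h.avg E (ρ (s 1)) = ρ (s 1) := by
        rw [hc, map_smul, hone]
      rw [h5, smul_mul_assoc, mul_inv']
    · rw [if_neg hx, h.avg_eq_zero h2 E ha (by rw [hs]; exact x.2) (by
        rw [hs]
        intro h0
        exact hx (Subtype.ext h0)), smul_zero, zero_mul]
  let Φ : (E → h.Fx E) →ₗ[k] M8 k :=
    { toFun := fun c => ∑ a : E, ρ (s a) * (c a : M8 k)
      map_add' := fun c d => by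
        rw [← Finset.sum_add_distrib]
        exact Finset.sum_congr rfl fun a _ => by rw [Pi.add_apply, Submodule.coe_add, mul_add]
      map_smul' := fun t c => by
        rw [Finset.smul_sum]
        exact Finset.sum_congr rfl fun a _ => by
          rw [Pi.smul_apply, Submodule.coe_smul, mul_smul_comm]; rfl }
  let Ψ : M8 k →ₗ[k] (E → h.Fx E) :=
    { toFun := fun A a => ⟨h.avg E (ρ (s a)⁻¹ * A), PR.avg_mem E h _⟩
      map_add' := fun A B => by
        funext a
        apply Subtype.ext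
        change h.avg E (ρ (s a)⁻¹ * (A + B)) = h.avg E (ρ (s a)⁻¹ * A) + h.avg E (ρ (s a)⁻¹ * B)
        rw [mul_add, map_add]
      map_smul' := fun t A => by
        funext a
        apply Subtype.ext
        change h.avg E (ρ (s a)⁻¹ * (t • A)) = t • h.avg E (ρ (s a)⁻¹ * A)
        rw [mul_smul_comm, map_smul] }
  have h3 : Φ ∘ₗ Ψ = LinearMap.id := by
    apply LinearMap.ext
    intro A
    change ∑ a : E, ρ (s a) * h.avg E (ρ (s a)⁻¹ * A) = A
    have h4 : ∀ a : E, ρ (s a) * h.avg E (ρ (s a)⁻¹ * A) =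
        (Fintype.card E : k)⁻¹ • ∑ x : E, (ρ (s a) * h.cj (x : X) (ρ (s a)⁻¹)) * h.cj (x : X) A := by
      intro a
      rw [PR.avg_apply, mul_smul_comm, Finset.mul_sum]
      congr 1
      exact Finset.sum_congr rfl fun x _ => by rw [cj_prod, mul_assoc]
    rw [Finset.sum_congr rfl fun a _ => h4 a, ← Finset.smul_sum, Finset.sum_comm,
      Finset.sum_congr rfl fun x _ => (Finset.sum_mul _ _ _).symm,
      Finset.sum_congr rfl fun x _ => by rw [hsum x]]
    rw [Finset.sum_eq_single (1 : E)]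
    · rw [if_pos rfl, smul_mul_assoc, one_mul, smul_smul, inv_mul_cancel₀ hE, one_smul]
      exact h.cj_one_apply A
    · intro b _ hb
      rw [if_neg hb, zero_mul]
    · intro h0
      exact absurd (Finset.mem_univ _) h0
  have h4 : Ψ ∘ₗ Φ = LinearMap.id := by
    apply LinearMap.ext
    intro c
    funext b
    apply Subtype.ext
    change h.avg E (ρ (s b)⁻¹ * ∑ a : E, ρ (s a) * (c a : M8 k)) = (c b : M8 k)
    rw [Finset.mul_sum, map_sum]
    have h5 : ∀ a : E, h.avg E (ρ (s b)⁻¹ * (ρ (s a) * (c a : M8 k))) = (if a = b then 1 else 0) * (c a : M8 k) := by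
      intro a
      rw [← mul_assoc, PR.avg_mul E h _ (c a).2, hav]
    rw [Finset.sum_congr rfl fun a _ => h5 a, Finset.sum_eq_single b]
    · rw [if_pos rfl, one_mul]
    · intro a _ hab
      rw [if_neg hab, zero_mul]
    · intro h0
      exact absurd (Finset.mem_univ _) h0
  let e : (E → h.Fx E) ≃ₗ[k] M8 k := LinearEquiv.ofLinear Φ Ψ h3 h4
  have h5 := e.finrank_eq
  rw [finrank_M8, Module.finrank_pi_fintype, Finset.sum_const, Finset.card_univ, hcard, smul_eq_mul] at h5
  omega

end PR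

/-! ### four-groups acting on a four-dimensional space -/

theorem finrank_split (h2 : (2 : k) ≠ 0) {V : Type*} [AddCommGroup V] [Module k V] [FiniteDimensional k V]
    (f : Module.End k V) (hf : ∀ v, f (f v) = v) (W : Submodule k V) (hW : ∀ v ∈ W, f v ∈ W) :
    finrank k W = finrank k (W ⊓ f.eigenspace 1 : Submodule k V) + finrank k (W ⊓ f.eigenspace (-1) : Submodule k V) := by
  rw [← Submodule.finrank_sup_add_finrank_inf_eq]
  have h1 : (W ⊓ f.eigenspace 1) ⊓ (W ⊓ f.eigenspace (-1)) = ⊥ := by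
    rw [eq_bot_iff]
    rintro v ⟨⟨-, h1⟩, ⟨-, h3⟩⟩
    have h1' := Module.End.mem_eigenspace_iff.1 h1
    have h3' := Module.End.mem_eigenspace_iff.1 h3
    rw [one_smul] at h1'
    rw [h1', neg_one_smul] at h3'
    have h4 : (2 : k) • v = 0 := by
      rw [two_smul]
      nth_rewrite 1 [h3']
      rw [neg_add_cancel]
    exact (smul_eq_zero.1 h4).resolve_left h2
  have h3 : (W ⊓ f.eigenspace 1) ⊔ (W ⊓ f.eigenspace (-1)) = W := by
    apply le_antisymm (sup_le inf_le_left inf_le_left)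
    intro v hv
    have h4 : v = (2 : k)⁻¹ • (v + f v) + (2 : k)⁻¹ • (v - f v) := by
      rw [← smul_add, add_add_sub_cancel, ← two_smul k v, smul_smul, inv_mul_cancel₀ h2, one_smul]
    rw [h4]
    apply Submodule.add_mem_sup
    · refine ⟨W.smul_mem _ (W.add_mem hv (hW v hv)), ?_⟩
      rw [SetLike.mem_coe, Module.End.mem_eigenspace_iff, map_smul, map_add, hf, one_smul, add_comm]
    · refine ⟨W.smul_mem _ (W.sub_mem hv (hW v hv)), ?_⟩
      rw [SetLike.mem_coe, Module.End.mem_eigenspace_iff, map_smul, map_sub, hf, neg_one_smul, ← smul_neg, neg_sub]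
  rw [h1, h3, finrank_bot, add_zero]

theorem PR.klein (h : PR ρ π) (h2 : (2 : k) ≠ 0) (C : Submodule k (M8 k)) (hC1 : (1 : M8 k) ∈ C)
    (hC : finrank k C = 4) {u v t : X} (hu : u * u = 1) (hv : v * v = 1) (huv : u * v = v * u)
    (htu : v * t = t * u) (htv : u * t = t * (u * v)) (hCu : ∀ A ∈ C, h.cj u A ∈ C) (hCv : ∀ A ∈ C, h.cj v A ∈ C)
    (hCt : ∀ A ∈ C, h.cj t A ∈ C) :
    (∀ A ∈ C, h.cj u A = A) ∨
      (∀ A ∈ C, h.cj u A = A → h.cj v A = A → ∃ c : k, A = c • 1) := by
  set W : k → k → Submodule k (M8 k) := fun a b => (C ⊓ (h.cj u).eigenspace a) ⊓ (h.cj v).eigenspace b with hW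
  have hmem : ∀ a b A, A ∈ W a b ↔ A ∈ C ∧ h.cj u A = a • A ∧ h.cj v A = b • A := by
    intro a b A
    rw [hW]
    change A ∈ (C ⊓ (h.cj u).eigenspace a) ⊓ (h.cj v).eigenspace b ↔ _
    rw [Submodule.mem_inf, Submodule.mem_inf, Module.End.mem_eigenspace_iff, Module.End.mem_eigenspace_iff, and_assoc]
  have huu : ∀ A, h.cj u (h.cj u A) = A := fun A => by rw [← PR.cj_mul_apply, hu, PR.cj_one_apply]
  have hvv : ∀ A, h.cj v (h.cj v A) = A := fun A => by rw [← PR.cj_mul_apply, hv, PR.cj_one_apply]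
  have huv' : ∀ A, h.cj u (h.cj v A) = h.cj v (h.cj u A) := fun A => by
    rw [← PR.cj_mul_apply, ← PR.cj_mul_apply, huv]
  have hsum : finrank k C = (finrank k (W 1 1) + finrank k (W 1 (-1))) + (finrank k (W (-1) 1) + finrank k (W (-1) (-1))) := by
    rw [finrank_split h2 (h.cj u) huu C hCu]
    congr 1
    · apply finrank_split h2 (h.cj v) hvv
      intro A hA
      obtain ⟨h3, h4⟩ := hA
      rw [SetLike.mem_coe, Module.End.mem_eigenspace_iff] at h4
      refine ⟨hCv A h3, ?_⟩
      rw [SetLike.mem_coe, Module.End.mem_eigenspace_iff, huv', h4, map_smul]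
    · apply finrank_split h2 (h.cj v) hvv
      intro A hA
      obtain ⟨h3, h4⟩ := hA
      rw [SetLike.mem_coe, Module.End.mem_eigenspace_iff] at h4
      refine ⟨hCv A h3, ?_⟩
      rw [SetLike.mem_coe, Module.End.mem_eigenspace_iff, huv', h4, map_smul]
  have hvt : ∀ A, h.cj v (h.cj t A) = h.cj t (h.cj u A) := fun A => by
    rw [← PR.cj_mul_apply, ← PR.cj_mul_apply, htu]
  have hut : ∀ A, h.cj u (h.cj t A) = h.cj t (h.cj u (h.cj v A)) := fun A => by
    rw [← PR.cj_mul_apply, ← PR.cj_mul_apply, ← PR.cj_mul_apply, htv, mul_assoc]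
  have hle : ∀ a b c d : k, b * a = c → a = d → finrank k (W a b) ≤ finrank k (W c d) := by
    intro a b c d hc hd
    have h3 : ∀ A : W a b, h.cj t (A : M8 k) ∈ W c d := by
      intro A
      obtain ⟨h4, h5, h6⟩ := (hmem a b _).1 A.2
      rw [hmem]
      refine ⟨hCt _ h4, ?_, ?_⟩
      · rw [hut, h6, map_smul, h5, smul_smul, map_smul, hc]
      · rw [hvt, h5, map_smul, ← hd]
    have h4 : Function.Injective (LinearMap.codRestrict (W c d) ((h.cj t).domRestrict (W a b)) h3) := by
      intro A B hAB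
      have h5 : h.cj t (A : M8 k) = h.cj t (B : M8 k) := congrArg Subtype.val hAB
      apply Subtype.ext
      rw [← h.cj_inv_cj t A, h5, PR.cj_inv_cj]
    exact LinearMap.finrank_le_finrank_of_injective h4
  have h3 := hle 1 (-1) (-1) 1 (by ring) rfl
  have h4 := hle (-1) 1 (-1) (-1) (by ring) rfl
  have h5 := hle (-1) (-1) 1 (-1) (by ring) rfl
  have h1mem : (1 : M8 k) ∈ W 1 1 := by
    rw [hmem]
    exact ⟨hC1, by rw [PR.cj_oneM, one_smul], by rw [PR.cj_oneM, one_smul]⟩
  have h11 : 1 ≤ finrank k (W 1 1) := by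
    rw [Nat.one_le_iff_ne_zero]
    intro h0
    rw [Submodule.finrank_eq_zero] at h0
    rw [h0, Submodule.mem_bot] at h1mem
    exact one_ne_zero h1mem
  rw [hC] at hsum
  by_cases hm : finrank k (W 1 (-1)) = 0
  · left
    have h6 : finrank k (W 1 1) = finrank k C := by omega
    have h7 : W 1 1 ≤ C := fun A hA => ((hmem 1 1 A).1 hA).1
    have h8 := Submodule.eq_of_le_of_finrank_eq h7 h6
    intro A hA
    rw [← h8, hmem] at hA
    rw [hA.2.1, one_smul]
  · right
    have h6 : finrank k (W 1 1) = 1 := by omega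
    intro A hA hA1 hA2
    have h7 : A ∈ W 1 1 := by
      rw [hmem]
      exact ⟨hA, by rw [hA1, one_smul], by rw [hA2, one_smul]⟩
    have h8 := (finrank_eq_one_iff_of_nonzero' (⟨1, h1mem⟩ : W 1 1) (by
      intro h0
      exact one_ne_zero (congrArg Subtype.val h0))).1 h6 ⟨A, h7⟩
    obtain ⟨c, hc⟩ := h8
    exact ⟨c, (congrArg Subtype.val hc).symm⟩

/-! ### a subgroup of order 64 with scalar centraliser -/

section Full

variable (h : PR ρ π) (h2 : (2 : k) ≠ 0) (U : Subgroup X) [Fintype U] (hU : Fintype.card U = 64)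
  (hs : ∀ A ∈ h.Fx U, ∃ c : k, A = c • (1 : M8 k))

include h h2 hU hs

theorem PR.sum_conj (A : M8 k) : ∑ a : U, h.cj (a : X) A = (8 * A.trace) • (1 : M8 k) := by
  have hE : (Fintype.card U : k) ≠ 0 := by
    rw [hU]
    have : ((64 : ℕ) : k) = 2 ^ 6 := by norm_num
    rw [this]
    exact pow_ne_zero _ h2
  obtain ⟨c, hc⟩ := hs _ (PR.avg_mem U h A)
  have h3 : ∑ a : U, h.cj (a : X) A = (Fintype.card U : k) • h.avg U A := by
    rw [PR.avg_apply, smul_smul, mul_inv_cancel₀ hE, one_smul]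
  have h4 := PR.trace_avg U h hE A
  rw [hc, Matrix.trace_smul, Matrix.trace_one, Fintype.card_fin, smul_eq_mul] at h4
  rw [h3, hc, smul_smul, hU, ← h4]
  congr 1
  push_cast
  ring

theorem PR.span_image : Submodule.span k (ρ '' {g | π g ∈ U}) = ⊤ := by
  classical
  have h8 : (8 : k) ≠ 0 := by
    have : (8 : k) = 2 ^ 3 := by norm_num
    rw [this]
    exact pow_ne_zero _ h2
  choose s hs' using fun a : U => h.surj (a : X)
  rw [eq_top_iff]
  intro A _
  rw [Matrix.matrix_eq_sum_single A]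
  refine Submodule.sum_mem _ fun l _ => Submodule.sum_mem _ fun j _ => ?_
  have h3 : Matrix.single l j (A l j) = (A l j * 8⁻¹) • ∑ a : U, (ρ (s a)⁻¹) j l • ρ (s a) := by
    ext m i
    have h4 := PR.sum_conj h h2 U hU hs (Matrix.single i j (1 : k))
    have h5 := congrFun (congrFun h4 m) l
    have h6 : (∑ a : U, h.cj (a : X) (Matrix.single i j (1 : k))) m l =
        ∑ a : U, (ρ (s a)⁻¹) j l * (ρ (s a)) m i := by
      rw [Matrix.sum_apply]
      refine Finset.sum_congr rfl fun a _ => ?_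
      rw [← hs' a, PR.cj_apply, Matrix.mul_apply]
      rw [Finset.sum_eq_single j]
      · rw [Matrix.mul_apply, Finset.sum_eq_single i]
        · rw [Matrix.single_apply_same]
          ring
        · intro b _ hb
          rw [Matrix.single_apply_of_row_ne hb.symm, mul_zero]
        · intro h0; exact absurd (Finset.mem_univ _) h0
      · intro b _ hb
        rw [Matrix.mul_apply, Finset.sum_eq_zero, zero_mul]
        intro x _
        rw [Matrix.single_apply_of_col_ne _ _ hb.symm, mul_zero]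
      · intro h0; exact absurd (Finset.mem_univ _) h0
    rw [h6] at h5
    rw [Matrix.smul_apply, Matrix.sum_apply, Finset.sum_congr rfl fun a _ => by
      rw [Matrix.smul_apply, smul_eq_mul], h5, Matrix.smul_apply, smul_eq_mul, smul_eq_mul]
    by_cases hij : i = j
    · subst hij
      rw [Matrix.trace_single_eq_same]
      by_cases hml : m = l
      · subst hml
        rw [Matrix.single_apply_same, Matrix.one_apply_eq]
        field_simp
      · rw [Matrix.single_apply_of_row_ne (Ne.symm hml), Matrix.one_apply_ne hml]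
        ring
    · rw [Matrix.trace_single_eq_of_ne _ _ _ hij, Matrix.single_apply_of_col_ne _ _ (Ne.symm hij)]
      ring
  rw [h3]
  refine Submodule.smul_mem _ _ (Submodule.sum_mem _ fun a _ => Submodule.smul_mem _ _ (Submodule.subset_span ?_))
  exact ⟨s a, by rw [Set.mem_setOf_eq, hs']; exact a.2, rfl⟩

theorem PR.trace_eq_zero {g : Λ} (hg : π g ∈ U) (hg1 : π g ≠ 1) : (ρ g).trace = 0 := by
  classical
  have h8 : (8 : k) ≠ 0 := by
    have : (8 : k) = 2 ^ 3 := by norm_num
    rw [this]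
    exact pow_ne_zero _ h2
  choose s hs' using fun a : U => h.surj (a : X)
  have hspan : ⊤ ≤ Submodule.span k (Set.range fun a : U => ρ (s a)) := by
    rw [← PR.span_image h h2 U hU hs, Submodule.span_le]
    rintro _ ⟨x, hx, rfl⟩
    obtain ⟨c, -, hc⟩ := h.smul_of_eq (g := s ⟨π x, hx⟩) (g' := x) (by rw [hs'])
    rw [hc]
    exact Submodule.smul_mem _ _ (Submodule.subset_span ⟨_, rfl⟩)
  have hli : LinearIndependent k (fun a : U => ρ (s a)) :=
    linearIndependent_of_top_le_span_of_card_eq_finrank hspan (by rw [hU, finrank_M8])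
  by_contra htr
  have h3 := PR.sum_conj h h2 U hU hs (ρ g)
  have h4 : ρ (s 1) ∉ Submodule.span k ((fun a : U => ρ (s a)) '' {a | a ≠ 1}) :=
    hli.notMem_span_image (by simp)
  apply h4
  obtain ⟨c, hc0, hc⟩ := h.scal' (g := s 1) (by rw [hs']; rfl)
  have h5 : ρ (s 1) = (c * (8 * (ρ g).trace)⁻¹) • ∑ a : U, h.cj (a : X) (ρ g) := by
    rw [h3, smul_smul, hc, inv_mul_cancel_right₀ (mul_ne_zero h8 htr)]
  rw [h5]
  refine Submodule.smul_mem _ _ (Submodule.sum_mem _ fun a _ => ?_)
  have h6 : h.cj (a : X) (ρ g) = ρ (s a * g * (s a)⁻¹) := by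
    conv_lhs => rw [← hs' a]
    rw [PR.cj_apply, ← map_mul, ← map_mul]
  have h7 : π (s a * g * (s a)⁻¹) = ((a * ⟨π g, hg⟩ * a⁻¹ : U) : X) := by
    rw [map_mul, map_mul, map_inv, hs']; rfl
  obtain ⟨d, -, hd⟩ := h.smul_of_eq (g := s (a * ⟨π g, hg⟩ * a⁻¹)) (g' := s a * g * (s a)⁻¹) (by rw [hs', h7])
  rw [h6, hd]
  refine Submodule.smul_mem _ _ (Submodule.subset_span ⟨_, ?_, rfl⟩)
  intro h0
  apply hg1
  have h9 : (⟨π g, hg⟩ : U) = 1 := by
    have := conj_eq_one_iff.1 h0
    exact this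
  exact congrArg Subtype.val h9

end Full

end Cfsg.Agent.H924.L34
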