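import Cfsg.Agent.H924.L34Tr
import Cfsg.Agent.H906.L34Amal

/-!
# `SL₃(4)` in dimension eight: Frobenius and duality (helper924)
-/

set_option autoImplicit false

namespace Cfsg.Agent.H924.L34

open Module Matrix Cfsg.Agent.H906.SL3Par Cfsg.Agent.H906.L34

/-! ### the graph automorphism -/

section Graph

variable {K : Type*} [Field K]

/-- `x ↦ w x⁻ᵀ w` -/
def gr (K : Type*) [Field K] : X K →* X K where
  toFun x := ⟨((x⁻¹).1)ᵀ.submatrix Fin.rev Fin.rev, by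
    have h1 : (((x⁻¹).1)ᵀ.submatrix Fin.revPerm Fin.revPerm).det = (((x⁻¹).1)ᵀ).det :=
      Matrix.det_submatrix_equiv_self Fin.revPerm _
    rw [Matrix.det_transpose, (x⁻¹).2] at h1
    exact h1⟩
  map_one' := by
    apply Subtype.ext
    change (((1 : X K)⁻¹).1)ᵀ.submatrix Fin.rev Fin.rev = 1
    rw [inv_one]
    change ((1 : Matrix (Fin 3) (Fin 3) K))ᵀ.submatrix Fin.rev Fin.rev = 1
    rw [Matrix.transpose_one]
    exact Matrix.submatrix_one Fin.rev Fin.rev_injective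
  map_mul' x y := by
    apply Subtype.ext
    change (((x * y)⁻¹).1)ᵀ.submatrix Fin.rev Fin.rev =
      ((x⁻¹).1)ᵀ.submatrix Fin.rev Fin.rev * ((y⁻¹).1)ᵀ.submatrix Fin.rev Fin.rev
    rw [_root_.mul_inv_rev, coe_mul', Matrix.transpose_mul]
    exact (Matrix.submatrix_mul_equiv _ _ Fin.rev Fin.revPerm Fin.rev).symm

theorem gr_apply (x : X K) (i j : Fin 3) : (gr K x).1 i j = (x⁻¹).1 (Fin.rev j) (Fin.rev i) := rfl

theorem gr_gr (x : X K) : gr K (gr K x) = x := by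
  apply Cfsg.Agent.H906.SL3Par.ext'
  intro i j
  rw [gr_apply, ← map_inv, gr_apply, inv_inv, Fin.rev_rev, Fin.rev_rev]

theorem gr_surjective : Function.Surjective (gr K) := fun x => ⟨gr K x, gr_gr x⟩

theorem gr_mem {x : X K} (hx : x ∈ Pa1 K) : gr K x ∈ Pb1 K := by
  obtain ⟨h0, h1, h2⟩ := (Pa1 K).inv_mem hx
  exact ⟨h2, h1, h0⟩

theorem pr_gr {k : Type*} [Field k] {Λ : Type*} [Group Λ] {ρ : Λ →* M8 k} {π : Λ →* X K} (h : PR ρ π) :
    PR ρ ((gr K).comp π) where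
  surj := gr_surjective.comp h.surj
  scal := fun g hg => h.scal g (by
    have h1 : gr K (π g) = 1 := hg
    rw [← gr_gr (π g), h1, map_one])
  cent := fun g hg => by
    have h1 := h.cent g hg
    rw [Subgroup.mem_center_iff] at h1 ⊢
    intro y
    change y * gr K (π g) = gr K (π g) * y
    rw [← gr_gr y, ← map_mul, ← map_mul, h1]
  span := h.span

theorem Pb1_sup_Pa1 : Pb1 K ⊔ Pa1 K = ⊤ := by
  rw [eq_top_iff, ← Cfsg.Agent.LieClassical.SLGen.closure_transvections (ι := Fin 3) (F := K), Subgroup.closure_le]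
  rintro _ ⟨i, j, hij, c, rfl⟩
  set S := Pb1 K ⊔ Pa1 K with hS
  have lb : Pb1 K ≤ S := le_sup_left
  have la : Pa1 K ≤ S := le_sup_right
  change tv hij c ∈ S
  have t21 : ∀ c : K, tv h21 c ∈ S := by
    intro c
    apply lb
    refine ⟨?_, ?_, ?_⟩ <;> simp [tv_val]
  have t10 : ∀ c : K, tv h10 c ∈ S := by
    intro c
    apply la
    refine ⟨?_, ?_, ?_⟩ <;> simp [tv_val]
  have t20 : tv h20 c ∈ S := by
    have h3 := Cfsg.Agent.LieClassical.SLGen.commutator_transvection (F := K) h20 h21 h10 c 1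
    rw [mul_one] at h3
    change tv h21 c * tv h10 1 * (tv h21 c)⁻¹ * (tv h10 1)⁻¹ = tv h20 c at h3
    rw [← h3]
    exact S.mul_mem (S.mul_mem (S.mul_mem (t21 c) (t10 1)) (S.inv_mem (t21 c))) (S.inv_mem (t10 1))
  fin_cases i <;> fin_cases j
  · exact absurd rfl hij
  · apply lb
    refine ⟨?_, ?_, ?_⟩ <;> simp [tv_val]
  · apply lb
    refine ⟨?_, ?_, ?_⟩ <;> simp [tv_val]
  · exact t10 c
  · exact absurd rfl hij
  · apply lb
    refine ⟨?_, ?_, ?_⟩ <;> simp [tv_val]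
  · exact t20
  · exact t21 c
  · exact absurd rfl hij

theorem U_le_Pb1 : U K ≤ Pb1 K := by
  rintro _ ⟨a, b, c, rfl⟩
  refine ⟨?_, ?_, ?_⟩ <;> simp [uni]

theorem U_le_Pa1 : U K ≤ Pa1 K := by
  rintro _ ⟨a, b, c, rfl⟩
  refine ⟨?_, ?_, ?_⟩ <;> simp [uni]

end Graph

/-! ### glueing -/

theorem glue {F : Type*} [Field F] {ι : Type} [Fintype ι] [DecidableEq ι] [Nonempty ι] {Γ : Type*} [Group Γ]
    (ρ₁ ρ₂ : Γ →* Matrix ι ι F) (V H1 H2 : Subgroup Γ) (hV1 : V ≤ H1) (hV2 : V ≤ H2)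
    (hs₁ : Submodule.span F (ρ₁ '' V) = ⊤) (hs₂ : Submodule.span F (ρ₂ '' V) = ⊤)
    (t1 : ∀ g ∈ H1, (ρ₁ g).trace = (ρ₂ g).trace) (t2 : ∀ g ∈ H2, (ρ₁ g).trace = (ρ₂ g).trace)
    (hgen : H1 ⊔ H2 = ⊤) (g : Γ) : (ρ₁ g).trace = (ρ₂ g).trace := by
  have mono : ∀ (ρ : Γ →* Matrix ι ι F) (H : Subgroup Γ), V ≤ H → Submodule.span F (ρ '' V) = ⊤ →
      Submodule.span F (ρ '' H) = ⊤ := by
    intro ρ H hVH hs
    rw [eq_top_iff, ← hs]
    exact Submodule.span_mono (Set.image_mono hVH)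
  obtain ⟨B, hB⟩ := exists_agree ρ₁ ρ₂ H1 (mono _ _ hV1 hs₁) (mono _ _ hV1 hs₂) t1
  obtain ⟨C, hC⟩ := exists_agree ρ₁ ρ₂ H2 (mono _ _ hV2 hs₁) (mono _ _ hV2 hs₂) t2
  have h1 := agree_eq hs₁ (hV1.trans hB) (hV2.trans hC)
  have h2 : g ∈ agree ρ₁ ρ₂ B := by
    have h3 : (⊤ : Subgroup Γ) ≤ agree ρ₁ ρ₂ B := by
      rw [← hgen]
      exact sup_le hB (h1 ▸ hC)
    exact h3 trivial
  rw [← mem_agree.1 h2, cjB_apply, Matrix.trace_mul_comm, ← mul_assoc]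
  rw [← Units.val_mul, inv_mul_cancel, Units.val_one, one_mul]

section Main

variable {k : Type*} [Field k] [Finite k] {Λ : Type*} [Group Λ] {K : Type*} [Field K] [Fintype K]
  {ρ : Λ →* M8 k} {π : Λ →* X K}

theorem image_eq_range (ρ : Λ →* M8 k) (V : Subgroup Λ) : ρ '' V = Set.range (ρ.comp V.subtype) := by
  ext A
  constructor
  · rintro ⟨g, hg, rfl⟩
    exact ⟨⟨g, hg⟩, rfl⟩
  · rintro ⟨g, rfl⟩
    exact ⟨g, g.2, rfl⟩

/-- the Frobenius automorphism -/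
noncomputable def frE (k : Type*) [Field k] [Finite k] (p : ℕ) [hp : Fact p.Prime] [CharP k p] (e : ℕ) : k ≃+* k :=
  RingEquiv.ofBijective (iterateFrobenius k p e)
    ⟨iterateFrobenius_inj k p e, Finite.injective_iff_surjective.1 (iterateFrobenius_inj k p e)⟩

theorem frE_apply (p : ℕ) [hp : Fact p.Prime] [CharP k p] (e : ℕ) (x : k) : frE k p e x = x ^ p ^ e :=
  iterateFrobenius_def p e x

theorem good_H (h : PR ρ π) (h2 : (2 : k) ≠ 0) (hK : Fintype.card K = 4) (p : ℕ) [hp : Fact p.Prime] [CharP k p]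
    (e : ℕ) (hQ : p ^ e % 5 = 0 ∨ p ^ e % 5 = 1 ∨ p ^ e % 5 = 4)
    (hZ : ∀ g, π g = 1 → ∃ c : k, c ^ 4 = 1 ∧ ρ g = c • (1 : M8 k)) {g : Λ} (hg : π g ∈ Pb1 K ∨ π g ∈ Pa1 K) :
    Good ρ (p ^ e) g := by
  rcases hg with hg | hg
  · exact good_Pb1 h h2 hK p e hQ hZ hg
  · exact good_Pb1 (pr_gr h) h2 hK p e hQ (fun g hg => hZ g (by
      have h1 : gr K (π g) = 1 := hg
      rw [← gr_gr (π g), h1, map_one])) (gr_mem hg)

theorem main_aux (h : PR ρ π) (h2 : (2 : k) ≠ 0) (hK : Fintype.card K = 4) (ρ₁ ρ₂ : Λ →* M8 k)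
    (hs₁ : Submodule.span k (ρ₁ '' {g | π g ∈ U K}) = ⊤) (hs₂ : Submodule.span k (ρ₂ '' {g | π g ∈ U K}) = ⊤)
    (ht : ∀ g, (π g ∈ Pb1 K ∨ π g ∈ Pa1 K) → (ρ₁ g).trace = (ρ₂ g).trace) (g : Λ) :
    (ρ₁ g).trace = (ρ₂ g).trace := by
  refine glue ρ₁ ρ₂ ((U K).comap π) ((Pb1 K).comap π) ((Pa1 K).comap π) (Subgroup.comap_mono U_le_Pb1)
    (Subgroup.comap_mono U_le_Pa1) hs₁ hs₂ (fun g hg => ht g (Or.inl hg)) (fun g hg => ht g (Or.inr hg)) ?_ g
  rw [Subgroup.comap_sup_eq _ _ _ h.surj, Pb1_sup_Pa1, Subgroup.comap_top]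

theorem span_twist' (ρ : Λ →* M8 k) (σ : k ≃+* k) (V : Subgroup Λ) (hs : Submodule.span k (ρ '' V) = ⊤) :
    Submodule.span k (H906.twist σ ρ '' V) = ⊤ := by
  have e1 : (H906.twist σ ρ).comp V.subtype = H906.twist σ (ρ.comp V.subtype) := MonoidHom.ext fun _ => rfl
  rw [image_eq_range ρ V] at hs
  rw [image_eq_range (H906.twist σ ρ) V, e1]
  exact H906.span_twist σ hs

theorem span_contra' (ρ : Λ →* M8 k) (V : Subgroup Λ) (hs : Submodule.span k (ρ '' V) = ⊤) :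
    Submodule.span k (H906.contra ρ '' V) = ⊤ := by
  have e1 : (H906.contra ρ).comp V.subtype = H906.contra (ρ.comp V.subtype) := by
    apply MonoidHom.ext
    intro x
    change (ρ ((x : Λ)⁻¹))ᵀ = (ρ ((x⁻¹ : V) : Λ))ᵀ
    rw [Subgroup.coe_inv]
  rw [image_eq_range ρ V] at hs
  rw [image_eq_range (H906.contra ρ) V, e1]
  exact H906.span_contra hs

/-- **Frobenius** -/
theorem fr_all (h : PR ρ π) (h2 : (2 : k) ≠ 0) (hK : Fintype.card K = 4) (p : ℕ) [hp : Fact p.Prime] [CharP k p]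
    (e : ℕ) (hQ : p ^ e % 5 = 0 ∨ p ^ e % 5 = 1 ∨ p ^ e % 5 = 4) (hQ4 : p ^ e % 4 = 1)
    (hZ : ∀ g, π g = 1 → ∃ c : k, c ^ 4 = 1 ∧ ρ g = c • (1 : M8 k)) (g : Λ) :
    (ρ g).trace ^ p ^ e = (ρ g).trace := by
  have hs := span_U h h2 hK
  have h1 := main_aux h h2 hK ρ (H906.twist (frE k p e) ρ) hs (span_twist' ρ _ ((U K).comap π) hs) (by
    intro g hg
    obtain ⟨c, τ, hc4, hτ, h3, h4⟩ := good_H h h2 hK p e hQ hZ hg
    rw [H906.twist_apply, H906.map_trace', frE_apply, h3, mul_pow, hτ]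
    congr 1
    conv_rhs => rw [← Nat.div_add_mod (p ^ e) 4, hQ4, pow_add, pow_mul, hc4, one_pow, one_mul, pow_one]) g
  rw [H906.twist_apply, H906.map_trace', frE_apply] at h1
  exact h1.symm

/-- **Frobenius and duality** -/
theorem cj_all (h : PR ρ π) (h2 : (2 : k) ≠ 0) (hK : Fintype.card K = 4) (p : ℕ) [hp : Fact p.Prime] [CharP k p]
    (e : ℕ) (hQ : p ^ e % 5 = 0 ∨ p ^ e % 5 = 1 ∨ p ^ e % 5 = 4) (hQ4 : p ^ e % 4 = 3)
    (hZ : ∀ g, π g = 1 → ∃ c : k, c ^ 4 = 1 ∧ ρ g = c • (1 : M8 k)) (g : Λ) :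
    (ρ g).trace ^ p ^ e = (ρ g⁻¹).trace := by
  have hs := span_U h h2 hK
  have h1 := main_aux h h2 hK (H906.contra ρ) (H906.twist (frE k p e) ρ) (span_contra' ρ ((U K).comap π) hs)
    (span_twist' ρ _ ((U K).comap π) hs) (by
    intro g hg
    obtain ⟨c, τ, hc4, hτ, h3, h4⟩ := good_H h h2 hK p e hQ hZ hg
    have hc0 : c ≠ 0 := by
      rintro rfl
      norm_num at hc4
    rw [H906.twist_apply, H906.map_trace', frE_apply, h3, mul_pow, hτ, H906.contra_apply, Matrix.trace_transpose, h4]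
    congr 1
    conv_rhs => rw [← Nat.div_add_mod (p ^ e) 4, hQ4, pow_add, pow_mul, hc4, one_pow, one_mul]
    rw [inv_eq_iff_eq_inv, eq_comm, inv_eq_iff_eq_inv]
    apply eq_inv_of_mul_eq_one_left
    rw [← pow_succ, hc4]) g
  rw [H906.twist_apply, H906.map_trace', frE_apply, H906.contra_apply, Matrix.trace_transpose] at h1
  exact h1.symm

end Main

end Cfsg.Agent.H924.L34
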