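import Mathlib

/-!
# Commuting involutions in dimension eight (helper924)
-/

set_option autoImplicit false

namespace Cfsg.Agent.H924.L34

open Module Matrix Polynomial

theorem exists_joint {k V A : Type*} [Field k] [AddCommGroup V] [Module k V] [FiniteDimensional k V]
    (h2 : (2 : k) ≠ 0) (f : A → Module.End k V) (hcomm : ∀ a b, f a * f b = f b * f a) (hsq : ∀ a, f a * f a = 1)
    {κ : Type*} [Fintype κ] (hκ : Fintype.card κ = finrank k V) :
    ∃ (v : Basis κ k V) (χ : κ → A → k), ∀ i a, f a (v i) = χ i a • v i := by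
  classical
  have hcomm' : ∀ i j, Commute (f i) (f j) := fun i j => hcomm i j
  have hss : ∀ i, Module.End.IsSemisimple (f i) := fun i => by
    refine Module.End.isSemisimple_of_squarefree_aeval_eq_zero (p := Polynomial.X ^ 2 - 1) ?_ ?_
    · have h := Polynomial.separable_X_pow_sub_C (n := 2) (1 : k) (by exact_mod_cast h2) one_ne_zero
      rw [map_one] at h
      exact h.squarefree
    · have : f i ^ 2 = 1 := by rw [pow_two, hsq]
      simp [this]
  have heq : ∀ i μ, (f i).maxGenEigenspace μ = (f i).eigenspace μ := fun i μ =>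
    (hss i).isFinitelySemisimple.maxGenEigenspace_eq_eigenspace μ
  have htop1 : ∀ i, ⨆ μ, (f i).eigenspace μ = ⊤ := by
    intro i
    rw [eq_top_iff]
    intro v _
    have h1 : v = (2 : k)⁻¹ • (v + f i v) + (2 : k)⁻¹ • (v - f i v) := by
      rw [← smul_add, add_add_sub_cancel, ← two_smul k v, smul_smul, inv_mul_cancel₀ h2, one_smul]
    have hff : f i (f i v) = v := by
      have := LinearMap.congr_fun (hsq i) v
      exact this
    rw [h1]
    apply Submodule.add_mem
    · apply Submodule.mem_iSup_of_mem 1
      apply Submodule.smul_mem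
      rw [Module.End.mem_eigenspace_iff, map_add, hff, one_smul, add_comm]
    · apply Submodule.mem_iSup_of_mem (-1)
      apply Submodule.smul_mem
      rw [Module.End.mem_eigenspace_iff, map_sub, hff, neg_one_smul, neg_sub]
  have htop := Module.End.iSup_iInf_maxGenEigenspace_eq_top_of_iSup_maxGenEigenspace_eq_top_of_commute f
    (fun i j _ => hcomm' i j) (fun i => by
      simp only [heq]
      exact htop1 i)
  have hind := Module.End.independent_iInf_maxGenEigenspace_of_forall_mapsTo f
    (fun i j φ => Module.End.mapsTo_maxGenEigenspace_of_comm (hcomm' j i) φ)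
  have hint : DirectSum.IsInternal (fun χ : A → k => ⨅ i, (f i).maxGenEigenspace (χ i)) :=
    (DirectSum.isInternal_submodule_iff_iSupIndep_and_iSup_eq_top _).2 ⟨hind, htop⟩
  let b0 := hint.collectedBasis (fun χ => Module.Free.chooseBasis k
    ((⨅ i, (f i).maxGenEigenspace (χ i) : Submodule k V)))
  have hfin := Module.Finite.finite_basis b0
  obtain ⟨_⟩ := nonempty_fintype (Σ χ : A → k, Module.Free.ChooseBasisIndex k
    (⨅ i, (f i).maxGenEigenspace (χ i) : Submodule k V))
  have hcard := (Module.finrank_eq_card_basis b0).symm.trans hκ.symm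
  let e := Fintype.equivOfCardEq hcard
  refine ⟨b0.reindex e, fun i => (e.symm i).1, fun i y => ?_⟩
  rw [Basis.reindex_apply]
  have hmem := hint.collectedBasis_mem (fun χ => Module.Free.chooseBasis k
    ((⨅ i, (f i).maxGenEigenspace (χ i) : Submodule k V))) (e.symm i)
  have h2 := (Submodule.mem_iInf _).1 hmem y
  rw [heq] at h2
  exact Module.End.mem_eigenspace_iff.1 h2

/-- the eigenvalue multiset of a diagonalisable matrix -/
theorem charpoly_of_eig {k : Type*} [Field k] {n : ℕ} (Y : Matrix (Fin n) (Fin n) k)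
    (v : Basis (Fin n) k (Fin n → k)) (l : Fin n → k) (h : ∀ i, Y *ᵥ v i = l i • v i) :
    Y.charpoly = ∏ i, (X - C (l i)) := by
  have h1 : LinearMap.toMatrix v v (Matrix.toLin' Y) = Matrix.diagonal l := by
    ext i j
    rw [LinearMap.toMatrix_apply, Matrix.toLin'_apply, h, map_smul, Basis.repr_self, Finsupp.smul_apply,
      Finsupp.single_apply, smul_eq_mul, Matrix.diagonal_apply]
    by_cases hij : i = j
    · subst hij; simp
    · rw [if_neg (Ne.symm hij), if_neg hij, mul_zero]
  have h2 : (Matrix.toLin' Y).charpoly = (Matrix.diagonal l).charpoly := by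
    rw [← h1, LinearMap.charpoly_toMatrix]
  have h3 : (Matrix.toLin' Y).charpoly = Y.charpoly := by
    rw [← LinearMap.charpoly_toMatrix (Matrix.toLin' Y) (Pi.basisFun k (Fin n))]
    congr 1
    exact LinearMap.toMatrix'_toLin' Y
  rw [← h3, h2, Matrix.charpoly_diagonal]

/-- numbers of eigenvalues `1` of conjugate diagonalisable matrices -/
theorem count_eq {k : Type*} [Field k] [DecidableEq k] {n : ℕ} {Y Y' : Matrix (Fin n) (Fin n) k}
    {v v' : Basis (Fin n) k (Fin n → k)} {l l' : Fin n → k} (h : ∀ i, Y *ᵥ v i = l i • v i)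
    (h' : ∀ i, Y' *ᵥ v' i = l' i • v' i) (g : GL (Fin n) k)
    (hg : Y' = (g : Matrix (Fin n) (Fin n) k) * Y * ((g⁻¹ : GL (Fin n) k) : Matrix (Fin n) (Fin n) k)) (t : k) :
    (Finset.univ.filter fun i => l i = t).card = (Finset.univ.filter fun i => l' i = t).card := by
  have h1 := charpoly_of_eig Y v l h
  have h2 := charpoly_of_eig Y' v' l' h'
  have h3 : Y'.charpoly = Y.charpoly := by
    rw [hg, Matrix.coe_units_inv]
    exact Matrix.charpoly_units_conj g Y
  rw [h1, h2] at h3
  have key : ∀ l : Fin n → k, (∏ i, (X - C (l i))).roots.count t = (Finset.univ.filter fun i => l i = t).card := by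
    intro l
    have h5 : (∏ i, (X - C (l i))).roots = Finset.univ.val.map l := by
      have := Polynomial.roots_multiset_prod_X_sub_C (Finset.univ.val.map l)
      rw [Multiset.map_map] at this
      exact this
    rw [h5, Multiset.count_map, Finset.card_def, Finset.filter_val]
    congr 2
    funext i
    exact propext eq_comm
  rw [← key, ← key, h3]

/-- a sign character of a group of order sixteen has kernel of order eight or sixteen -/
theorem eight_dvd_count {k : Type*} [Field k] [DecidableEq k] (h2 : (2 : k) ≠ 0) {E : Type*} [Group E] [Fintype E]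
    (hE : Fintype.card E = 16) (ψ : E → k) (hm : ∀ a b, ψ (a * b) = ψ a * ψ b) (hs : ∀ a, ψ a = 1 ∨ ψ a = -1) :
    8 ∣ (Finset.univ.filter fun a => ψ a = 1).card := by
  classical
  have h11 : (-1 : k) ≠ 1 := by
    intro h
    apply h2
    linear_combination -h
  by_cases hc : ∃ a0, ψ a0 = -1
  · obtain ⟨a0, ha0⟩ := hc
    have h3 : (Finset.univ.filter fun a => ψ a = 1).card = (Finset.univ.filter fun a => ¬ ψ a = 1).card := by
      apply Finset.card_bij (fun a _ => a * a0)
      · intro a ha
        rw [Finset.mem_filter] at ha ⊢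
        refine ⟨Finset.mem_univ _, ?_⟩
        rw [hm, ha.2, ha0, one_mul]
        exact h11
      · intro a _ b _ hab
        exact mul_right_cancel hab
      · intro b hb
        rw [Finset.mem_filter] at hb
        refine ⟨b * a0⁻¹, ?_, by rw [inv_mul_cancel_right]⟩
        rw [Finset.mem_filter]
        refine ⟨Finset.mem_univ _, ?_⟩
        have h4 : ψ b = ψ (b * a0⁻¹) * ψ a0 := by rw [← hm, inv_mul_cancel_right]
        rw [(hs b).resolve_left hb.2, ha0] at h4
        linear_combination h4
    have h4 := Finset.card_filter_add_card_filter_not (s := (Finset.univ : Finset E)) (fun a => ψ a = 1)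
    rw [Finset.card_univ, hE] at h4
    omega
  · push Not at hc
    have h3 : (Finset.univ.filter fun a => ψ a = 1) = Finset.univ := by
      ext a
      simp only [Finset.mem_filter, Finset.mem_univ, true_and, iff_true]
      exact (hs a).resolve_right (hc a)
    rw [h3, Finset.card_univ, hE]
    norm_num

/-- There is no elementary abelian group of order sixteen of commuting involutions, conjugate up to sign, in
dimension eight. -/
theorem no_commuting {k : Type*} [Field k] (h2 : (2 : k) ≠ 0) {E : Type*} [Group E] [Fintype E]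
    (hE : Fintype.card E = 16) (y : E → Matrix (Fin 8) (Fin 8) k) (hcomm : ∀ a b, y a * y b = y b * y a)
    (hsq : ∀ a, y a * y a = 1) (hmul : ∀ a b, ∃ c : k, y (a * b) = c • (y a * y b))
    (hcj : ∀ a b, a ≠ 1 → b ≠ 1 → ∃ (g : GL (Fin 8) k) (c : k),
      y b = c • ((g : Matrix (Fin 8) (Fin 8) k) * y a * ((g⁻¹ : GL (Fin 8) k) : Matrix (Fin 8) (Fin 8) k)))
    (hns : ∀ a, a ≠ 1 → ∀ c : k, y a ≠ c • 1) : False := by
  classical
  have h11 : (-1 : k) ≠ 1 := by
    intro h
    apply h2
    linear_combination -h
  obtain ⟨v, χ, hχ⟩ := exists_joint h2 (fun a => Matrix.toLin' (y a))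
    (fun a b => by
      change Matrix.toLin' (y a) ∘ₗ Matrix.toLin' (y b) = Matrix.toLin' (y b) ∘ₗ Matrix.toLin' (y a)
      rw [← Matrix.toLin'_mul, ← Matrix.toLin'_mul, hcomm])
    (fun a => by
      change Matrix.toLin' (y a) ∘ₗ Matrix.toLin' (y a) = 1
      rw [← Matrix.toLin'_mul, hsq, Matrix.toLin'_one]; rfl) (κ := Fin 8) (by simp)
  have hχ' : ∀ i a, y a *ᵥ v i = χ i a • v i := fun i a => hχ i a
  have hχ2 : ∀ i a, χ i a * χ i a = 1 := by
    intro i a
    have h3 : (y a * y a) *ᵥ v i = (χ i a * χ i a) • v i := by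
      rw [← Matrix.mulVec_mulVec, hχ', Matrix.mulVec_smul, hχ', smul_smul]
    rw [hsq, Matrix.one_mulVec] at h3
    have h4 : (1 - χ i a * χ i a) • v i = 0 := by rw [sub_smul, one_smul, ← h3, sub_self]
    rcases smul_eq_zero.1 h4 with h5 | h5
    · linear_combination -h5
    · exact absurd h5 (v.ne_zero i)
  -- twist by the first character
  set ψ : Fin 8 → E → k := fun i a => χ i a * χ 0 a with hψ
  have hψs : ∀ i a, ψ i a = 1 ∨ ψ i a = -1 := by
    intro i a
    apply mul_self_eq_one_iff.1
    rw [hψ]
    linear_combination (χ 0 a * χ 0 a) * hχ2 i a + hχ2 0 a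
  have hψm : ∀ i a b, ψ i (a * b) = ψ i a * ψ i b := by
    intro i a b
    obtain ⟨c, hc⟩ := hmul a b
    have h3 : ∀ j, χ j (a * b) = c * (χ j a * χ j b) := by
      intro j
      have h4 : y (a * b) *ᵥ v j = (c * (χ j a * χ j b)) • v j := by
        rw [hc, Matrix.smul_mulVec, ← Matrix.mulVec_mulVec, hχ', Matrix.mulVec_smul, hχ', smul_smul, smul_smul]
        congr 1
        ring
      rw [hχ'] at h4
      have h5 : (χ j (a * b) - c * (χ j a * χ j b)) • v j = 0 := by rw [sub_smul, h4, sub_self]
      rcases smul_eq_zero.1 h5 with h6 | h6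
      · exact sub_eq_zero.1 h6
      · exact absurd h6 (v.ne_zero j)
    have h4 : c * c = 1 := by
      have h5 := hχ2 0 (a * b)
      rw [h3] at h5
      linear_combination h5 - (c * c * (χ 0 b * χ 0 b)) * hχ2 0 a - c * c * hχ2 0 b
    change χ i (a * b) * χ 0 (a * b) = χ i a * χ 0 a * (χ i b * χ 0 b)
    rw [h3, h3]
    linear_combination (χ i a * χ i b * χ 0 a * χ 0 b) * h4
  -- the twisted matrices
  set w : E → Matrix (Fin 8) (Fin 8) k := fun a => χ 0 a • y a with hw
  have hwv : ∀ a i, w a *ᵥ v i = ψ i a • v i := by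
    intro a i
    rw [hw]
    change (χ 0 a • y a) *ᵥ v i = (χ i a * χ 0 a) • v i
    rw [Matrix.smul_mulVec, hχ', smul_smul, mul_comm]
  set r : E → ℕ := fun a => (Finset.univ.filter fun i => ψ i a = 1).card with hr
  have hψ0 : ∀ a, ψ 0 a = 1 := fun a => hχ2 0 a
  have hr1 : r 1 = 8 := by
    have h3 : ∀ i, ψ i 1 = 1 := by
      intro i
      have h4 := hψm i 1 1
      rw [mul_one] at h4
      rcases hψs i 1 with h5 | h5
      · exact h5
      · rw [h5] at h4
        exfalso
        apply h11
        linear_combination h4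
    rw [hr]
    change (Finset.univ.filter fun i => ψ i 1 = 1).card = 8
    rw [Finset.filter_true_of_mem (fun i _ => h3 i), Finset.card_univ, Fintype.card_fin]
  have hrpos : ∀ a, 1 ≤ r a := by
    intro a
    apply Finset.card_pos.2
    exact ⟨0, by simp [hψ0]⟩
  have hrlt : ∀ a, a ≠ 1 → r a ≤ 7 := by
    intro a ha
    by_contra hcon
    have h3 : (Finset.univ.filter fun i => ψ i a = 1).card = (Finset.univ : Finset (Fin 8)).card := by
      apply le_antisymm (Finset.card_le_card (Finset.filter_subset _ _))
      rw [Finset.card_univ, Fintype.card_fin]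
      change 8 ≤ r a
      omega
    have h4 : ∀ i, ψ i a = 1 := by
      intro i
      exact (Finset.card_filter_eq_iff.1 h3) i (Finset.mem_univ i)
    apply hns a ha (χ 0 a)
    have h5 : w a = 1 := by
      apply Matrix.toLin'.injective
      apply v.ext
      intro i
      rw [Matrix.toLin'_apply, Matrix.toLin'_apply, hwv, h4, one_smul, Matrix.one_mulVec]
    have h6 : y a = χ 0 a • w a := by
      rw [hw]
      change y a = χ 0 a • (χ 0 a • y a)
      rw [smul_smul, hχ2, one_smul]
    rw [h6, h5]
  have hcmp : ∀ a b, a ≠ 1 → b ≠ 1 → r b = r a ∨ r b + r a = 8 := by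
    intro a b ha hb
    obtain ⟨g, c, hg⟩ := hcj a b ha hb
    -- `w b = c' g w a g⁻¹`
    set c' : k := c * χ 0 a * χ 0 b with hc'
    have h3 : w b = (g : Matrix (Fin 8) (Fin 8) k) * (c' • w a) * ((g⁻¹ : GL (Fin 8) k) : Matrix (Fin 8) (Fin 8) k) := by
      rw [hw]
      change χ 0 b • y b = _ * (c' • χ 0 a • y a) * _
      rw [hg, smul_smul, mul_smul_comm, mul_smul_comm, smul_mul_assoc, smul_mul_assoc, smul_smul, hc']
      congr 1
      linear_combination (-c * χ 0 b) * hχ2 0 a
    have hgg : ((g⁻¹ : GL (Fin 8) k) : Matrix (Fin 8) (Fin 8) k) * (g : Matrix (Fin 8) (Fin 8) k) = 1 := by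
      rw [← Units.val_mul, inv_mul_cancel, Units.val_one]
    have hgg' : (g : Matrix (Fin 8) (Fin 8) k) * ((g⁻¹ : GL (Fin 8) k) : Matrix (Fin 8) (Fin 8) k) = 1 := by
      rw [← Units.val_mul, mul_inv_cancel, Units.val_one]
    have hw2 : ∀ a, w a * w a = 1 := by
      intro a
      change (χ 0 a • y a) * (χ 0 a • y a) = 1
      rw [smul_mul_smul_comm, hsq, hχ2, one_smul]
    have h4 : c' * c' = 1 := by
      have h5 : w b * w b = (c' * c') • (1 : Matrix (Fin 8) (Fin 8) k) := by
        rw [h3]
        calc (g : Matrix (Fin 8) (Fin 8) k) * (c' • w a) * ((g⁻¹ : GL (Fin 8) k) : Matrix (Fin 8) (Fin 8) k) *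
              ((g : Matrix (Fin 8) (Fin 8) k) * (c' • w a) * ((g⁻¹ : GL (Fin 8) k) : Matrix (Fin 8) (Fin 8) k))
            = (g : Matrix (Fin 8) (Fin 8) k) * (c' • w a) * (((g⁻¹ : GL (Fin 8) k) : Matrix (Fin 8) (Fin 8) k) *
              (g : Matrix (Fin 8) (Fin 8) k)) * (c' • w a) * ((g⁻¹ : GL (Fin 8) k) : Matrix (Fin 8) (Fin 8) k) := by
              simp only [mul_assoc]
          _ = _ := by
            rw [hgg, mul_one, mul_assoc (g : Matrix (Fin 8) (Fin 8) k), smul_mul_smul_comm, hw2, mul_smul_comm,
              smul_mul_assoc, mul_one, hgg']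
      rw [hw2] at h5
      have h6 := congrFun (congrFun h5 0) 0
      rw [Matrix.one_apply_eq, Matrix.smul_apply, Matrix.one_apply_eq, smul_eq_mul, mul_one] at h6
      exact h6.symm
    have h5 : ∀ i, (c' • w a) *ᵥ v i = (c' * ψ i a) • v i := by
      intro i
      rw [Matrix.smul_mulVec, hwv, smul_smul]
    have h6 := count_eq (l := fun i => c' * ψ i a) (l' := fun i => ψ i b) h5 (hwv b) g h3 1
    rcases mul_self_eq_one_iff.1 h4 with h7 | h7
    · left
      rw [h7] at h6
      simp only [one_mul] at h6
      exact h6.symm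
    · right
      rw [h7] at h6
      have h8 : (Finset.univ.filter fun i => -1 * ψ i a = 1) = Finset.univ.filter fun i => ¬ ψ i a = 1 := by
        ext i
        simp only [Finset.mem_filter, Finset.mem_univ, true_and]
        constructor
        · intro h9 h10
          rw [h10, mul_one] at h9
          exact h11 h9
        · intro h9
          rw [(hψs i a).resolve_left h9]
          ring
      rw [h8] at h6
      have h9 := Finset.card_filter_add_card_filter_not (s := (Finset.univ : Finset (Fin 8))) (fun i => ψ i a = 1)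
      rw [Finset.card_univ, Fintype.card_fin] at h9
      change r b + r a = 8
      change (Finset.univ.filter fun i => ψ i a = 1).card + _ = 8 at h9
      rw [h6] at h9
      rw [add_comm]
      exact h9
  -- count
  have hsum : 8 ∣ ∑ a : E, r a := by
    have h3 : ∑ a : E, r a = ∑ i : Fin 8, (Finset.univ.filter fun a => ψ i a = 1).card := by
      rw [hr]
      simp only [Finset.card_filter]
      exact Finset.sum_comm
    rw [h3]
    apply Finset.dvd_sum
    intro i _
    exact eight_dvd_count h2 hE (ψ i) (hψm i) (hψs i)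
  have hne : ∃ a0 : E, a0 ≠ 1 := by
    by_contra hcon
    push Not at hcon
    have : Fintype.card E ≤ 1 := Fintype.card_le_one_iff.2 fun a b => by rw [hcon a, hcon b]
    omega
  obtain ⟨a0, ha0⟩ := hne
  have h3 : ∑ a : E, r a = 8 + ∑ a ∈ Finset.univ.erase (1 : E), r a := by
    rw [← Finset.add_sum_erase _ _ (Finset.mem_univ (1 : E)), hr1]
  set M := ((Finset.univ.erase (1 : E)).filter fun a => ¬ r a = r a0).card with hM
  have h4 : ∑ a ∈ Finset.univ.erase (1 : E), r a = (15 - M) * r a0 + M * (8 - r a0) := by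
    rw [← Finset.sum_filter_add_sum_filter_not (Finset.univ.erase (1 : E)) (fun a => r a = r a0)]
    congr 1
    · rw [Finset.sum_congr rfl (g := fun _ => r a0) (by
        intro a ha
        exact (Finset.mem_filter.1 ha).2), Finset.sum_const, smul_eq_mul]
      congr 1
      have h5 := Finset.card_filter_add_card_filter_not (s := Finset.univ.erase (1 : E)) (fun a => r a = r a0)
      rw [Finset.card_erase_of_mem (Finset.mem_univ _), Finset.card_univ, hE] at h5
      omega
    · rw [Finset.sum_congr rfl (g := fun _ => 8 - r a0) (by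
        intro a ha
        have h5 := Finset.mem_filter.1 ha
        have h6 := hcmp a0 a ha0 (Finset.mem_erase.1 h5.1).1
        have h7 := h6.resolve_left h5.2
        omega), Finset.sum_const, smul_eq_mul]
  have hM15 : M ≤ 15 := by
    have h5 := Finset.card_filter_le (Finset.univ.erase (1 : E)) (fun a => ¬ r a = r a0)
    rw [Finset.card_erase_of_mem (Finset.mem_univ _), Finset.card_univ, hE] at h5
    exact h5
  rw [h3, h4] at hsum
  have h5 := hrpos a0
  have h6 := hrlt a0 ha0
  clear_value M
  generalize r a0 = R at *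
  interval_cases R <;> omega

end Cfsg.Agent.H924.L34
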