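import Cfsg.Agent.H924.L34Joint

/-!
# Projective representations of degree eight (helper924)

`PR ρ π` : `ρ : Λ → M₈(k)` and `π : Λ ↠ X`, with `ρ g` scalar if `π g = 1`, `π g` central if `ρ g` is scalar, and
`ρ(Λ)` spans.  `PR.cj : X → End M₈(k)` is the conjugation action.
-/

set_option autoImplicit false

namespace Cfsg.Agent.H924.L34

open Module Matrix

abbrev M8 (k : Type*) := Matrix (Fin 8) (Fin 8) k

variable {k : Type*} [Field k] {Λ X : Type*} [Group Λ] [Group X]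

structure PR (ρ : Λ →* M8 k) (π : Λ →* X) : Prop where
  surj : Function.Surjective π
  scal : ∀ g, π g = 1 → ∃ c : k, ρ g = c • (1 : M8 k)
  cent : ∀ g, (∃ c : k, ρ g = c • (1 : M8 k)) → π g ∈ Subgroup.center X
  span : Submodule.span k (Set.range ρ) = ⊤

theorem mul_inv' (ρ : Λ →* M8 k) (g : Λ) : ρ g * ρ g⁻¹ = 1 := by rw [← map_mul, mul_inv_cancel, map_one]

theorem inv_mul' (ρ : Λ →* M8 k) (g : Λ) : ρ g⁻¹ * ρ g = 1 := by rw [← map_mul, inv_mul_cancel, map_one]

theorem smul_one_inj {c d : k} (h : c • (1 : M8 k) = d • (1 : M8 k)) : c = d := by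
  have := congrFun (congrFun h 0) 0
  simpa using this

variable {ρ : Λ →* M8 k} {π : Λ →* X}

namespace PR

variable (h : PR ρ π)

include h

theorem scal' {g : Λ} (hg : π g = 1) : ∃ c : k, c ≠ 0 ∧ ρ g = c • (1 : M8 k) := by
  obtain ⟨c, hc⟩ := h.scal g hg
  refine ⟨c, ?_, hc⟩
  rintro rfl
  rw [zero_smul] at hc
  have h1 := mul_inv' ρ g
  rw [hc, zero_mul] at h1
  exact zero_ne_one h1

theorem smul_of_eq {g g' : Λ} (hg : π g = π g') : ∃ c : k, c ≠ 0 ∧ ρ g' = c • ρ g := by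
  obtain ⟨c, hc0, hc⟩ := h.scal' (g := g' * g⁻¹) (by rw [map_mul, map_inv, hg, mul_inv_cancel])
  refine ⟨c, hc0, ?_⟩
  have h1 : ρ g' = ρ (g' * g⁻¹) * ρ g := by rw [← map_mul, inv_mul_cancel_right]
  rw [h1, hc, smul_mul_assoc, one_mul]

theorem comm_smul {g g' : Λ} (hg : π g * π g' = π g' * π g) : ∃ c : k, c ≠ 0 ∧ ρ g * ρ g' = c • (ρ g' * ρ g) := by
  obtain ⟨c, hc0, hc⟩ := h.smul_of_eq (g := g' * g) (g' := g * g') (by rw [map_mul, map_mul, hg])
  exact ⟨c, hc0, by rw [← map_mul, ← map_mul, hc]⟩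

theorem comm_or_anti {g g' : Λ} (hg : π g * π g' = π g' * π g) (h2 : π g * π g = 1) :
    ρ g * ρ g' = ρ g' * ρ g ∨ ρ g * ρ g' = -(ρ g' * ρ g) := by
  obtain ⟨c, hc0, hc⟩ := h.comm_smul hg
  obtain ⟨d, hd0, hd⟩ := h.scal' (g := g * g) (by rw [map_mul, h2])
  rw [map_mul] at hd
  have h3 : (ρ g * ρ g) * ρ g' = (c * c) • (ρ g' * (ρ g * ρ g)) := by
    rw [mul_assoc, hc, mul_smul_comm, ← mul_assoc, hc, smul_mul_assoc, smul_smul, mul_assoc]
  rw [hd, smul_mul_assoc, one_mul, mul_smul_comm, mul_one, smul_smul] at h3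
  have h4 : (d - c * c * d) • ρ g' = 0 := by rw [sub_smul, ← h3, sub_self]
  have h5 : d - c * c * d = 0 := by
    rcases smul_eq_zero.1 h4 with h6 | h6
    · exact h6
    · exfalso
      have h7 := mul_inv' ρ g'
      rw [h6, zero_mul] at h7
      exact zero_ne_one h7
  have h6 : c * c = 1 := by
    have : (c * c - 1) * d = 0 := by linear_combination -h5
    rcases mul_eq_zero.1 this with h7 | h7
    · linear_combination h7
    · exact absurd h7 hd0
  rcases mul_self_eq_one_iff.1 h6 with h7 | h7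
  · left; rw [hc, h7, one_smul]
  · right; rw [hc, h7, neg_one_smul]

theorem conj_eq {g g' : Λ} (hg : π g = π g') (A : M8 k) : ρ g * A * ρ g⁻¹ = ρ g' * A * ρ g'⁻¹ := by
  obtain ⟨c, hc0, hc⟩ := h.smul_of_eq hg
  have h1 : ρ g'⁻¹ = c⁻¹ • ρ g⁻¹ := by
    have h2 : ρ g'⁻¹ * ρ g' * ρ g⁻¹ = ρ g⁻¹ := by rw [inv_mul', one_mul]
    rw [hc, mul_smul_comm, smul_mul_assoc, mul_assoc, mul_inv', mul_one] at h2
    rw [← h2, smul_smul, inv_mul_cancel₀ hc0, one_smul]
  rw [hc, h1, smul_mul_assoc, smul_mul_assoc, mul_smul_comm, smul_smul, mul_inv_cancel₀ hc0, one_smul]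

/-- the conjugation action -/
noncomputable def cj : X →* Module.End k (M8 k) where
  toFun x :=
    { toFun := fun A => ρ (Function.surjInv h.surj x) * A * ρ (Function.surjInv h.surj x)⁻¹
      map_add' := fun A B => by rw [mul_add, add_mul]
      map_smul' := fun c A => by rw [mul_smul_comm, smul_mul_assoc]; rfl }
  map_one' := by
    apply LinearMap.ext
    intro A
    change ρ (Function.surjInv h.surj 1) * A * ρ (Function.surjInv h.surj 1)⁻¹ = A
    rw [h.conj_eq (g' := 1) (by rw [Function.surjInv_eq h.surj, map_one]), inv_one, map_one, one_mul, mul_one]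
  map_mul' x y := by
    apply LinearMap.ext
    intro A
    change ρ (Function.surjInv h.surj (x * y)) * A * ρ (Function.surjInv h.surj (x * y))⁻¹ =
      ρ (Function.surjInv h.surj x) * (ρ (Function.surjInv h.surj y) * A * ρ (Function.surjInv h.surj y)⁻¹) *
        ρ (Function.surjInv h.surj x)⁻¹
    rw [h.conj_eq (g' := Function.surjInv h.surj x * Function.surjInv h.surj y) (by
      rw [Function.surjInv_eq h.surj, map_mul, Function.surjInv_eq h.surj, Function.surjInv_eq h.surj]),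
      _root_.mul_inv_rev, map_mul, map_mul]
    simp only [mul_assoc]

theorem cj_apply (g : Λ) (A : M8 k) : h.cj (π g) A = ρ g * A * ρ g⁻¹ := by
  change ρ (Function.surjInv h.surj (π g)) * A * ρ (Function.surjInv h.surj (π g))⁻¹ = _
  exact h.conj_eq (Function.surjInv_eq h.surj _) A

theorem cj_mul_apply (x y : X) (A : M8 k) : h.cj (x * y) A = h.cj x (h.cj y A) := by rw [map_mul]; rfl

theorem cj_one_apply (A : M8 k) : h.cj 1 A = A := by rw [map_one]; rfl

theorem cj_inv_cj (x : X) (A : M8 k) : h.cj x⁻¹ (h.cj x A) = A := by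
  rw [← cj_mul_apply, inv_mul_cancel, cj_one_apply]

theorem cj_cj_inv (x : X) (A : M8 k) : h.cj x (h.cj x⁻¹ A) = A := by
  rw [← cj_mul_apply, mul_inv_cancel, cj_one_apply]

theorem cj_prod (x : X) (A B : M8 k) : h.cj x (A * B) = h.cj x A * h.cj x B := by
  obtain ⟨g, rfl⟩ := h.surj x
  rw [cj_apply, cj_apply, cj_apply]
  have h1 := inv_mul' ρ g
  calc ρ g * (A * B) * ρ g⁻¹ = ρ g * A * 1 * B * ρ g⁻¹ := by simp only [mul_assoc, one_mul]
    _ = ρ g * A * (ρ g⁻¹ * ρ g) * B * ρ g⁻¹ := by rw [h1]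
    _ = _ := by simp only [mul_assoc]

theorem cj_scalar (x : X) (c : k) : h.cj x (c • (1 : M8 k)) = c • 1 := by
  obtain ⟨g, rfl⟩ := h.surj x
  rw [cj_apply, mul_smul_comm, smul_mul_assoc, mul_one, mul_inv']

theorem cj_oneM (x : X) : h.cj x (1 : M8 k) = 1 := by
  have := h.cj_scalar x 1
  rwa [one_smul] at this

theorem trace_cj (x : X) (A : M8 k) : (h.cj x A).trace = A.trace := by
  obtain ⟨g, rfl⟩ := h.surj x
  rw [cj_apply, Matrix.trace_mul_comm, ← mul_assoc, inv_mul', one_mul]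

/-- the fixed space of a subgroup -/
noncomputable def Fx (E : Subgroup X) : Submodule k (M8 k) where
  carrier := {A | ∀ a ∈ E, h.cj a A = A}
  add_mem' := fun {A B} hA hB a ha => by rw [map_add, hA a ha, hB a ha]
  zero_mem' := fun a _ => map_zero _
  smul_mem' := fun c A hA a ha => by rw [map_smul, hA a ha]

theorem mem_Fx {E : Subgroup X} {A : M8 k} : A ∈ h.Fx E ↔ ∀ a ∈ E, h.cj a A = A := Iff.rfl

theorem one_mem_Fx (E : Subgroup X) : (1 : M8 k) ∈ h.Fx E := fun a _ => h.cj_oneM a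

theorem mul_mem_Fx {E : Subgroup X} {A B : M8 k} (hA : A ∈ h.Fx E) (hB : B ∈ h.Fx E) : A * B ∈ h.Fx E := by
  intro a ha
  rw [cj_prod, hA a ha, hB a ha]

theorem Fx_mono {E E' : Subgroup X} (hE : E ≤ E') : h.Fx E' ≤ h.Fx E := fun _ hA a ha => hA a (hE ha)

/-- the normaliser acts on the fixed space -/
theorem cj_mem_Fx {E : Subgroup X} {x : X} (hx : ∀ a ∈ E, x⁻¹ * a * x ∈ E) {A : M8 k} (hA : A ∈ h.Fx E) :
    h.cj x A ∈ h.Fx E := by
  intro a ha
  have h1 := hA _ (hx a ha)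
  rw [← cj_mul_apply, show a * x = x * (x⁻¹ * a * x) by group, cj_mul_apply, h1]

/-- the fixed space of the whole group -/
theorem scalar_of_fixed {A : M8 k} (hA : ∀ x, h.cj x A = A) : ∃ c : k, A = c • 1 := by
  have h1 : ∀ g, ρ g * A = A * ρ g := by
    intro g
    have h2 := hA (π g)
    rw [cj_apply] at h2
    calc ρ g * A = ρ g * A * (ρ g⁻¹ * ρ g) := by rw [inv_mul', mul_one]
      _ = (ρ g * A * ρ g⁻¹) * ρ g := by simp only [mul_assoc]
      _ = A * ρ g := by rw [h2]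
  have h3 : ∀ Y : M8 k, Y * A = A * Y := by
    intro Y
    have hY : Y ∈ Submodule.span k (Set.range ρ) := by rw [h.span]; trivial
    induction hY using Submodule.span_induction with
    | mem s hs =>
      obtain ⟨g, rfl⟩ := hs
      exact h1 g
    | zero => simp
    | add a b _ _ ha hb => rw [mul_add, add_mul, ha, hb]
    | smul c a _ ha => rw [mul_smul_comm, smul_mul_assoc, ha]
  obtain ⟨c, hc⟩ := (Matrix.mem_range_scalar_iff_commute_single' (M := A)).2 (fun i j => h3 _)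
  refine ⟨c, ?_⟩
  rw [← hc]
  simp [Matrix.smul_one_eq_diagonal]

/-- the elements fixing a submodule -/
noncomputable def fixer (C : Submodule k (M8 k)) : Subgroup X where
  carrier := {x | ∀ A ∈ C, h.cj x A = A}
  mul_mem' := fun {x y} hx hy A hA => by rw [cj_mul_apply, hy A hA, hx A hA]
  one_mem' := fun A _ => h.cj_one_apply A
  inv_mem' := fun {x} hx A hA => by
    have := h.cj_inv_cj x A
    rwa [hx A hA] at this

theorem mem_fixer {C : Submodule k (M8 k)} {x : X} : x ∈ h.fixer C ↔ ∀ A ∈ C, h.cj x A = A := Iff.rfl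

theorem le_fixer_Fx (E : Subgroup X) : E ≤ h.fixer (h.Fx E) := fun a ha A hA => hA a ha

theorem conj_mem_fixer {C : Submodule k (M8 k)} {x t : X} (hx : x ∈ h.fixer C) (ht : ∀ A ∈ C, h.cj t⁻¹ A ∈ C) :
    t * x * t⁻¹ ∈ h.fixer C := by
  intro A hA
  rw [cj_mul_apply, cj_mul_apply, hx _ (ht A hA), cj_cj_inv]

section avg

variable (E : Subgroup X) [Fintype E]

/-- the average over a finite subgroup -/
noncomputable def avg : Module.End k (M8 k) := (Fintype.card E : k)⁻¹ • ∑ a : E, h.cj (a : X)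

omit h in
theorem avg_apply (h : PR ρ π) (A : M8 k) : h.avg E A = (Fintype.card E : k)⁻¹ • ∑ a : E, h.cj (a : X) A := by
  unfold avg
  rw [LinearMap.smul_apply, LinearMap.sum_apply]

omit h in
theorem cj_avg (h : PR ρ π) {b : X} (hb : b ∈ E) (A : M8 k) : h.cj b (h.avg E A) = h.avg E A := by
  rw [avg_apply, map_smul, map_sum]
  congr 1
  refine Fintype.sum_equiv (Equiv.mulLeft (⟨b, hb⟩ : E)) _ _ (fun a => ?_)
  rw [← cj_mul_apply]; rfl

omit h in
theorem avg_cj (h : PR ρ π) {b : X} (hb : b ∈ E) (A : M8 k) : h.avg E (h.cj b A) = h.avg E A := by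
  rw [avg_apply, avg_apply]
  congr 1
  refine Fintype.sum_equiv (Equiv.mulRight (⟨b, hb⟩ : E)) _ _ (fun a => ?_)
  rw [← cj_mul_apply]; rfl

omit h in
theorem avg_mem (h : PR ρ π) (A : M8 k) : h.avg E A ∈ h.Fx E := fun _ hb => cj_avg E h hb A

omit h in
theorem avg_of_mem (h : PR ρ π) (hE : (Fintype.card E : k) ≠ 0) {A : M8 k} (hA : A ∈ h.Fx E) : h.avg E A = A := by
  have h1 : ∑ a : E, h.cj (a : X) A = ∑ _a : E, A := Finset.sum_congr rfl fun (a : E) _ => hA (a : X) a.2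
  rw [avg_apply, h1, Finset.sum_const, Finset.card_univ,
    ← Nat.cast_smul_eq_nsmul k, smul_smul, inv_mul_cancel₀ hE, one_smul]

omit h in
theorem avg_mul (h : PR ρ π) (A : M8 k) {C : M8 k} (hC : C ∈ h.Fx E) : h.avg E (A * C) = h.avg E A * C := by
  rw [avg_apply, avg_apply, smul_mul_assoc, Finset.sum_mul]
  congr 1
  exact Finset.sum_congr rfl fun a _ => by rw [cj_prod, hC a a.2]

omit h in
theorem trace_avg (h : PR ρ π) (hE : (Fintype.card E : k) ≠ 0) (A : M8 k) : (h.avg E A).trace = A.trace := by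
  rw [avg_apply, Matrix.trace_smul, Matrix.trace_sum, Finset.sum_congr rfl (fun a _ => h.trace_cj _ _),
    Finset.sum_const, Finset.card_univ, nsmul_eq_mul, smul_eq_mul, ← mul_assoc, inv_mul_cancel₀ hE, one_mul]

end avg

end PR

/-! ### extraspecial behaviour -/

/-- every lift of a non-trivial element of `E` anticommutes with some lift of an element of `E` -/
def Anti (ρ : Λ →* M8 k) (π : Λ →* X) (E : Subgroup X) : Prop :=
  ∀ g, π g ∈ E → π g ≠ 1 → ∃ g', π g' ∈ E ∧ ρ g * ρ g' = -(ρ g' * ρ g)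

theorem PR.anti (h : PR ρ π) (h2 : (2 : k) ≠ 0) (E : Subgroup X) [Fintype E] (hcard : Fintype.card E = 16)
    (hsq : ∀ a ∈ E, a * a = 1) (hcomm : ∀ a ∈ E, ∀ b ∈ E, a * b = b * a)
    (hcen : ∀ a ∈ E, a ∈ Subgroup.center X → a = 1)
    (htrans : ∀ a ∈ E, ∀ b ∈ E, a ≠ 1 → b ≠ 1 → ∃ t : X, (∀ c, c ∈ E ↔ t * c * t⁻¹ ∈ E) ∧ t * a * t⁻¹ = b) :
    Anti ρ π E := by
  classical
  intro x hx hx1
  by_contra hcon
  push Not at hcon
  have h1 : ∀ y : Λ, π y ∈ E → ρ x * ρ y = ρ y * ρ x := by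
    intro y hy
    exact (h.comm_or_anti (hcomm _ hx _ hy) (hsq _ hx)).resolve_right (hcon y hy)
  have h3 : ∀ x' y : Λ, π x' ∈ E → π y ∈ E → ρ x' * ρ y = ρ y * ρ x' := by
    intro x' y hx' hy
    by_cases hx'1 : π x' = 1
    · obtain ⟨c, hc⟩ := h.scal _ hx'1
      rw [hc, smul_mul_assoc, mul_smul_comm, one_mul, mul_one]
    obtain ⟨t, ht, hta⟩ := htrans _ hx _ hx' hx1 hx'1
    obtain ⟨τ, rfl⟩ := h.surj t
    obtain ⟨c, hc0, hc⟩ := h.smul_of_eq (g := τ * x * τ⁻¹) (g' := x') (by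
      rw [map_mul, map_mul, map_inv, hta])
    have hy' : π (τ⁻¹ * y * τ) ∈ E := by
      rw [ht, map_mul, map_mul, map_inv]
      have : π τ * ((π τ)⁻¹ * π y * π τ) * (π τ)⁻¹ = π y := by group
      rw [this]
      exact hy
    have h4 := h1 _ hy'
    have h5 : ρ (τ * x * τ⁻¹) * ρ y = ρ y * ρ (τ * x * τ⁻¹) := by
      calc ρ (τ * x * τ⁻¹) * ρ y = ρ τ * (ρ x * ρ (τ⁻¹ * y * τ)) * ρ τ⁻¹ := by
            rw [← map_mul, ← map_mul, ← map_mul, ← map_mul]
            congr 1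
            group
        _ = ρ τ * (ρ (τ⁻¹ * y * τ) * ρ x) * ρ τ⁻¹ := by rw [h4]
        _ = ρ y * ρ (τ * x * τ⁻¹) := by
            rw [← map_mul, ← map_mul, ← map_mul, ← map_mul]
            congr 1
            group
    rw [hc, smul_mul_assoc, h5, mul_smul_comm]
  -- the algebraic closure
  choose s hs using fun a : E => h.surj (a : X)
  let K := AlgebraicClosure k
  let φ : k →+* K := algebraMap k K
  have hφ : Function.Injective φ := φ.injective
  have h2' : (2 : K) ≠ 0 := by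
    intro h0
    apply h2
    apply hφ
    rw [map_ofNat, map_zero, h0]
  have hsc : ∀ a : E, ∃ c : k, c ≠ 0 ∧ ρ (s a) * ρ (s a) = c • (1 : M8 k) := by
    intro a
    obtain ⟨c, hc0, hc⟩ := h.scal' (g := s a * s a) (by rw [map_mul, hs, hsq a a.2])
    exact ⟨c, hc0, by rw [← map_mul, hc]⟩
  choose c hc0 hc using hsc
  have hd : ∀ a : E, ∃ d : K, d * d = (φ (c a))⁻¹ := by
    intro a
    obtain ⟨d, hd⟩ := IsAlgClosed.exists_pow_nat_eq (φ (c a))⁻¹ (n := 2) (by norm_num)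
    exact ⟨d, by rw [← pow_two, hd]⟩
  choose d hd using hd
  have hcφ : ∀ a, φ (c a) ≠ 0 := fun a h0 => hc0 a (hφ (by rw [h0, map_zero]))
  have hd0 : ∀ a, d a ≠ 0 := by
    intro a h0
    have := hd a
    rw [h0, mul_zero] at this
    exact hcφ a (inv_eq_zero.1 this.symm)
  let y : E → M8 K := fun a => d a • (ρ (s a)).map φ
  have hy : ∀ a, y a = d a • (ρ (s a)).map φ := fun _ => rfl
  have hmap : ∀ (A B : M8 k), (A * B).map φ = A.map φ * B.map φ := fun A B => Matrix.map_mul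
  have hmaps : ∀ (e : k) (A : M8 k), (e • A).map φ = φ e • A.map φ := by
    intro e A
    ext i j
    simp
  have hmap1 : (1 : M8 k).map φ = 1 := by
    exact Matrix.map_one φ (map_zero _) (map_one _)
  refine no_commuting h2' (E := E) hcard y ?_ ?_ ?_ ?_ ?_
  · intro a b
    rw [hy, hy, smul_mul_smul_comm, smul_mul_smul_comm, ← hmap, ← hmap,
      h3 (s a) (s b) (by rw [hs]; exact a.2) (by rw [hs]; exact b.2), mul_comm (d a)]
  · intro a
    rw [hy, smul_mul_smul_comm, ← hmap, hc, hmaps, hmap1, smul_smul, hd, inv_mul_cancel₀ (hcφ a), one_smul]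
  · intro a b
    obtain ⟨e, he0, he⟩ := h.smul_of_eq (g := s a * s b) (g' := s (a * b)) (by
      rw [map_mul, hs, hs, hs]; rfl)
    refine ⟨d (a * b) * φ e * (d a * d b)⁻¹, ?_⟩
    rw [hy, hy, hy, he, hmaps, map_mul, hmap, smul_mul_smul_comm, smul_smul, smul_smul]
    congr 1
    rw [inv_mul_cancel_right₀ (mul_ne_zero (hd0 a) (hd0 b))]
  · intro a b ha hb
    obtain ⟨t, ht, hta⟩ := htrans a a.2 b b.2 (fun h0 => ha (Subtype.ext h0)) (fun h0 => hb (Subtype.ext h0))
    obtain ⟨τ, rfl⟩ := h.surj t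
    obtain ⟨e, he0, he⟩ := h.smul_of_eq (g := τ * s a * τ⁻¹) (g' := s b) (by
      rw [map_mul, map_mul, map_inv, hs, hs, hta])
    have hu1 : (ρ τ).map φ * (ρ τ⁻¹).map φ = 1 := by rw [← hmap, mul_inv', hmap1]
    have hu2 : (ρ τ⁻¹).map φ * (ρ τ).map φ = 1 := by rw [← hmap, inv_mul', hmap1]
    refine ⟨⟨(ρ τ).map φ, (ρ τ⁻¹).map φ, hu1, hu2⟩, d b * φ e * (d a)⁻¹, ?_⟩
    change y b = (d b * φ e * (d a)⁻¹) • ((ρ τ).map φ * y a * (ρ τ⁻¹).map φ)
    rw [hy, hy, he, hmaps, map_mul, map_mul, hmap, hmap, mul_smul_comm, smul_mul_assoc, smul_smul, smul_smul]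
    congr 1
    rw [inv_mul_cancel_right₀ (hd0 a)]
  · intro a ha e he
    have h4 : (ρ (s a)).map φ = ((d a)⁻¹ * e) • (1 : M8 K) := by
      rw [mul_smul, ← he, hy, smul_smul, inv_mul_cancel₀ (hd0 a), one_smul]
    have h5 : ρ (s a) = (ρ (s a) 0 0) • (1 : M8 k) := by
      ext i j
      apply hφ
      have h6 := congrFun (congrFun h4 i) j
      have h7 := congrFun (congrFun h4 0) 0
      rw [Matrix.map_apply, Matrix.smul_apply, smul_eq_mul] at h6 h7
      rw [Matrix.one_apply_eq, mul_one] at h7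
      rw [Matrix.smul_apply, smul_eq_mul, map_mul, h6, h7]
      congr 1
      by_cases hij : i = j
      · subst hij; rw [Matrix.one_apply_eq, Matrix.one_apply_eq, map_one]
      · rw [Matrix.one_apply_ne hij, Matrix.one_apply_ne hij, map_zero]
    have h6 := h.cent (s a) ⟨_, h5⟩
    rw [hs] at h6
    exact ha (Subtype.ext (hcen a a.2 h6))

end Cfsg.Agent.H924.L34
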