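import Cfsg.Agent.H924.L34Dim
import Cfsg.Agent.H906.L34Main

/-!
# `SL₃(4)` in dimension eight: unitriangular matrices (helper924)
-/

set_option autoImplicit false

namespace Cfsg.Agent.H924.L34

open Module Matrix Cfsg.Agent.H906.SL3Par Cfsg.Agent.H906.L34
open scoped commutatorElement

section Field4

variable {K : Type*} [Field K] [Fintype K]

theorem two_eq_zero (hK : Fintype.card K = 4) : (2 : K) = 0 := by
  have h4 : ((4 : ℕ) : K) = 0 := by rw [← hK]; exact Nat.cast_card_eq_zero K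
  have h5 : (2 : K) * 2 = 0 := by rw [← h4]; norm_num
  rcases mul_eq_zero.1 h5 with h6 | h6 <;> exact h6

theorem pow_four' (hK : Fintype.card K = 4) (x : K) : x * x * x * x = x := by
  have := FiniteField.pow_card x
  rw [hK] at this
  linear_combination this

/-- `x² = x + 1` for `x ≠ 0, 1` -/
theorem sq_eq (hK : Fintype.card K = 4) {x : K} (h0 : x ≠ 0) (h1 : x ≠ 1) : x * x = x + 1 := by
  have h2 := two_eq_zero hK
  have h4 := pow_four' hK x
  have h5 : x * ((x - 1) * (x * x + x + 1)) = 0 := by linear_combination h4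
  rcases mul_eq_zero.1 h5 with h6 | h6
  · exact absurd h6 h0
  · rcases mul_eq_zero.1 h6 with h7 | h7
    · exact absurd (sub_eq_zero.1 h7) h1
    · linear_combination h7 - (x + 1) * h2

theorem exists_omega (hK : Fintype.card K = 4) : ∃ a : K, a ≠ 0 ∧ a ≠ 1 := by
  classical
  by_contra hcon
  push Not at hcon
  have hsub : (Finset.univ : Finset K) ⊆ {0, 1} := by
    intro x _
    by_cases hx : x = 0
    · simp [hx]
    · simp [hcon x hx]
  have h6 := Finset.card_le_card hsub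
  rw [Finset.card_univ, hK] at h6
  have h7 : ({0, 1} : Finset K).card ≤ 2 := Finset.card_le_two
  omega

end Field4

section Uni

variable {K : Type*} [Field K]

theorem uni_inj {a b c a' b' c' : K} (h : uni a b c = uni a' b' c') : a = a' ∧ b = b' ∧ c = c' := by
  have e := congrArg Subtype.val h
  have e1 := congrFun (congrFun e 0) 1
  have e2 := congrFun (congrFun e 1) 2
  have e3 := congrFun (congrFun e 0) 2
  simp [uni] at e1 e2 e3
  exact ⟨e1, e2, e3⟩

theorem uni_center {a b c : K} (h : uni a b c ∈ Subgroup.center (X K)) : uni a b c = 1 := by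
  have h1 : pj K (uni a b c) = pj K (uni 0 0 0) := by
    rw [uni_zero, map_one]
    exact (QuotientGroup.eq_one_iff _).2 h
  rw [pj_uni_inj h1, uni_zero]

theorem card_Qa [Fintype K] (hK : Fintype.card K = 4) [Fintype (Qa K)] : Fintype.card (Qa K) = 16 := by
  have e : K × K ≃ Qa K := Equiv.ofBijective (fun x => ⟨uni 0 x.1 x.2, ⟨x.1, x.2, rfl⟩⟩) ⟨by
    intro x y hxy
    have := uni_inj (congrArg Subtype.val hxy)
    exact Prod.ext this.2.1 this.2.2, by
    rintro ⟨_, ⟨b, c, rfl⟩⟩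
    exact ⟨(b, c), rfl⟩⟩
  rw [← Fintype.card_congr e, Fintype.card_prod, hK]

theorem card_Qb [Fintype K] (hK : Fintype.card K = 4) [Fintype (Qb K)] : Fintype.card (Qb K) = 16 := by
  have e : K × K ≃ Qb K := Equiv.ofBijective (fun x => ⟨uni x.1 0 x.2, ⟨x.1, x.2, rfl⟩⟩) ⟨by
    intro x y hxy
    have := uni_inj (congrArg Subtype.val hxy)
    exact Prod.ext this.1 this.2.2, by
    rintro ⟨_, ⟨b, c, rfl⟩⟩
    exact ⟨(b, c), rfl⟩⟩
  rw [← Fintype.card_congr e, Fintype.card_prod, hK]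

theorem card_U [Fintype K] (hK : Fintype.card K = 4) [Fintype (U K)] : Fintype.card (U K) = 64 := by
  have e : K × K × K ≃ U K := Equiv.ofBijective (fun x => ⟨uni x.1 x.2.1 x.2.2, ⟨x.1, x.2.1, x.2.2, rfl⟩⟩) ⟨by
    intro x y hxy
    have := uni_inj (congrArg Subtype.val hxy)
    exact Prod.ext this.1 (Prod.ext this.2.1 this.2.2), by
    rintro ⟨_, ⟨a, b, c, rfl⟩⟩
    exact ⟨(a, b, c), rfl⟩⟩
  rw [← Fintype.card_congr e, Fintype.card_prod, Fintype.card_prod, hK]

end Uni

section Main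

variable {k : Type*} [Field k] {Λ : Type*} [Group Λ] {K : Type*} [Field K] [Fintype K]
  {ρ : Λ →* M8 k} {π : Λ →* X K}

theorem anti_Qa (h : PR ρ π) (h2 : (2 : k) ≠ 0) (hK : Fintype.card K = 4) : Anti ρ π (Qa K) := by
  classical
  have k2 := two_eq_zero hK
  have : Fintype (Qa K) := Fintype.ofFinite _
  have e1 : ∀ b c b' c' : K, uni 0 b c * uni 0 b' c' = uni 0 (b + b') (c + c') := by
    intro b c b' c'
    rw [uni_mul]
    congr 1 <;> ring
  apply h.anti h2 (Qa K) (card_Qa hK)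
  · rintro _ ⟨b, c, rfl⟩
    rw [e1, show b + b = 0 by linear_combination b * k2, show c + c = 0 by linear_combination c * k2, uni_zero]
  · rintro _ ⟨b, c, rfl⟩ _ ⟨b', c', rfl⟩
    rw [e1, e1, add_comm b, add_comm c]
  · rintro _ ⟨b, c, rfl⟩ h3
    exact uni_center h3
  · exact trans_of (Qa K) (Pa K) Qa_normal (uni 0 0 1) (by
      rintro _ ⟨b, c, rfl⟩ h3
      exact trans_a h3)

theorem anti_Qb (h : PR ρ π) (h2 : (2 : k) ≠ 0) (hK : Fintype.card K = 4) : Anti ρ π (Qb K) := by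
  classical
  have k2 := two_eq_zero hK
  have : Fintype (Qb K) := Fintype.ofFinite _
  have e1 : ∀ b c b' c' : K, uni b 0 c * uni b' 0 c' = uni (b + b') 0 (c + c') := by
    intro b c b' c'
    rw [uni_mul]
    congr 1 <;> ring
  apply h.anti h2 (Qb K) (card_Qb hK)
  · rintro _ ⟨b, c, rfl⟩
    rw [e1, show b + b = 0 by linear_combination b * k2, show c + c = 0 by linear_combination c * k2, uni_zero]
  · rintro _ ⟨b, c, rfl⟩ _ ⟨b', c', rfl⟩
    rw [e1, e1, add_comm b, add_comm c]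
  · rintro _ ⟨b, c, rfl⟩ h3
    exact uni_center h3
  · exact trans_of (Qb K) (Pb K) Qb_normal (uni 0 0 1) (by
      rintro _ ⟨b, c, rfl⟩ h3
      exact trans_b h3)

theorem finrank_Qa (h : PR ρ π) (h2 : (2 : k) ≠ 0) (hK : Fintype.card K = 4) : finrank k (h.Fx (Qa K)) = 4 := by
  classical
  have : Fintype (Qa K) := Fintype.ofFinite _
  exact h.finrank_Fx h2 (Qa K) (card_Qa hK) (anti_Qa h h2 hK)

theorem finrank_Qb (h : PR ρ π) (h2 : (2 : k) ≠ 0) (hK : Fintype.card K = 4) : finrank k (h.Fx (Qb K)) = 4 := by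
  classical
  have : Fintype (Qb K) := Fintype.ofFinite _
  exact h.finrank_Fx h2 (Qb K) (card_Qb hK) (anti_Qb h h2 hK)

/-- the torus element `diag(1, s, s⁻¹)` -/
def ts {s : K} (hs : s ≠ 0) : X K := dg ![1, s, s⁻¹] (by simp [hs])

theorem ts_mem {s : K} (hs : s ≠ 0) : ts hs ∈ Pb K := dg_mem_Pb _ _

theorem ts_conj {s : K} (hs : s ≠ 0) (b : K) : ts hs * uni 0 b 0 * (ts hs)⁻¹ = uni 0 (s * s * b) 0 := by
  rw [← tv12, ← tv12]
  exact dg_conj _ _ h12 (s * s) (by simp [hs]) b

theorem uni_split (a b c : K) : uni a b c = uni 0 b 0 * uni a 0 c := by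
  rw [uni_mul]
  congr 1 <;> ring

/-- **The element `uni 0 1 0` does not centralise the centraliser of `Qb`.** -/
theorem not_fix (h : PR ρ π) (h2 : (2 : k) ≠ 0) (hK : Fintype.card K = 4)
    (hfix : ∀ A ∈ h.Fx (Qb K), h.cj (uni 0 1 0) A = A) : False := by
  classical
  set D := h.fixer (h.Fx (Qb K)) with hD
  have hPb : ∀ x ∈ D, ∀ t ∈ Pb K, t * x * t⁻¹ ∈ D := by
    intro x hx t ht
    apply h.conj_mem_fixer hx
    intro A hA
    exact h.cj_mem_Fx (Qb_normal _ (inv_mem ht)) hA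
  have hQb : Qb K ≤ D := h.le_fixer_Fx _
  have h1 : uni 0 1 0 ∈ D := hfix
  have h3 : ∀ b : K, uni 0 b 0 ∈ D := by
    intro b
    by_cases hb : b = 0
    · rw [hb, uni_zero]; exact D.one_mem
    · have hs : b * b ≠ 0 := mul_ne_zero hb hb
      have h4 := hPb _ h1 _ (ts_mem hs)
      rw [ts_conj, mul_one, show b * b * (b * b) = b by linear_combination pow_four' hK b] at h4
      exact h4
  have hU : U K ≤ D := by
    rintro _ ⟨a, b, c, rfl⟩
    rw [uni_split]
    exact D.mul_mem (h3 b) (hQb ⟨a, c, rfl⟩)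
  have hle : h.Fx (Qb K) ≤ h.Fx (Qa K) := fun A hA a ha => hU (Qa_le ha) A hA
  have heq : h.Fx (Qb K) = h.Fx (Qa K) := Submodule.eq_of_le_of_finrank_eq hle (by
    rw [finrank_Qa h h2 hK, finrank_Qb h h2 hK])
  have hPa : ∀ x ∈ D, ∀ t ∈ Pa K, t * x * t⁻¹ ∈ D := by
    intro x hx t ht
    apply h.conj_mem_fixer hx
    intro A hA
    rw [heq] at hA ⊢
    exact h.cj_mem_Fx (Qa_normal _ (inv_mem ht)) hA
  have t10 : ∀ c : K, tv h10 c ∈ D := by
    intro c
    have h5 := hPa _ (hU ⟨-c, 0, 0, rfl⟩) _ n12_mem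
    have h6 : n12 K * uni (-c) 0 0 * (n12 K)⁻¹ = tv h10 c := by
      rw [mul_inv_eq_iff_eq_mul]
      apply Cfsg.Agent.H906.SL3Par.ext'
      intro i j
      rw [mul_entry, mul_entry, tv_val]
      fin_cases i <;> fin_cases j <;> simp [uni, n12]
    rwa [h6] at h5
  have t21 : ∀ c : K, tv h21 c ∈ D := by
    intro c
    have h5 := hPb _ (hU ⟨0, -c, 0, rfl⟩) _ n23_mem
    have h6 : n23 K * uni 0 (-c) 0 * (n23 K)⁻¹ = tv h21 c := by
      rw [mul_inv_eq_iff_eq_mul]
      apply Cfsg.Agent.H906.SL3Par.ext'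
      intro i j
      rw [mul_entry, mul_entry, tv_val]
      fin_cases i <;> fin_cases j <;> simp [uni, n23]
    rwa [h6] at h5
  have t20 : ∀ c : K, tv h20 c ∈ D := by
    intro c
    have h3 := Cfsg.Agent.LieClassical.SLGen.commutator_transvection (F := K) h20 h21 h10 c 1
    have h4 : ⁅tv h21 c, tv h10 1⁆ = tv h20 c := by
      rw [mul_one] at h3
      exact h3
    rw [← h4, commutatorElement_def]
    have m1 := t21 c
    have m2 := t10 1
    exact D.mul_mem (D.mul_mem (D.mul_mem m1 m2) (D.inv_mem m1)) (D.inv_mem m2)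
  have htop : D = ⊤ := by
    rw [eq_top_iff, ← Cfsg.Agent.LieClassical.SLGen.closure_transvections (ι := Fin 3) (F := K), Subgroup.closure_le]
    rintro _ ⟨i, j, hij, c, rfl⟩
    change tv hij c ∈ D
    fin_cases i <;> fin_cases j
    · exact absurd rfl hij
    · have := hU ⟨c, 0, 0, rfl⟩
      rw [← tv01] at this
      exact this
    · have := hU ⟨0, 0, c, rfl⟩
      rw [← tv02] at this
      exact this
    · exact t10 c
    · exact absurd rfl hij
    · have := hU ⟨0, c, 0, rfl⟩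
      rw [← tv12] at this
      exact this
    · exact t20 c
    · exact t21 c
    · exact absurd rfl hij
  have hsc : h.Fx (Qb K) ≤ Submodule.span k {(1 : M8 k)} := by
    intro A hA
    obtain ⟨c, hc⟩ := h.scalar_of_fixed (A := A) (fun x => by
      have hx : x ∈ D := by rw [htop]; trivial
      exact hx A hA)
    rw [Submodule.mem_span_singleton]
    exact ⟨c, hc.symm⟩
  have h5 := Submodule.finrank_mono hsc
  rw [finrank_Qb h h2 hK] at h5
  have h6 := finrank_span_le_card (R := k) ({(1 : M8 k)} : Set (M8 k))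
  simp at h6
  omega

/-- **The centraliser of the unitriangular group is scalar.** -/
theorem Fx_U (h : PR ρ π) (h2 : (2 : k) ≠ 0) (hK : Fintype.card K = 4) :
    ∀ A ∈ h.Fx (U K), ∃ c : k, A = c • (1 : M8 k) := by
  have k2 := two_eq_zero hK
  obtain ⟨w, hw0, hw1⟩ := exists_omega hK
  have hww := sq_eq hK hw0 hw1
  have hs : w * w ≠ 0 := mul_ne_zero hw0 hw0
  have hw4 : w * w * (w * w) = w := by linear_combination pow_four' hK w
  have hPbC : ∀ t ∈ Pb K, ∀ A ∈ h.Fx (Qb K), h.cj t A ∈ h.Fx (Qb K) := fun t ht A hA =>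
    h.cj_mem_Fx (Qb_normal t ht) hA
  have e1 : ∀ b b' : K, uni 0 b 0 * uni 0 b' 0 = uni 0 (b + b') 0 := by
    intro b b'
    rw [uni_mul]
    congr 1 <;> ring
  have e2 : ∀ b : K, ts hs * uni 0 b 0 = uni 0 (w * b) 0 * ts hs := by
    intro b
    rw [← mul_inv_eq_iff_eq_mul, ts_conj, hw4]
  have h3 := h.klein h2 (h.Fx (Qb K)) (h.one_mem_Fx _) (finrank_Qb h h2 hK) (u := uni 0 1 0) (v := uni 0 w 0)
    (t := ts hs)
    (by rw [e1, show (1 : K) + 1 = 0 by linear_combination k2, uni_zero])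
    (by rw [e1, show w + w = 0 by linear_combination w * k2, uni_zero])
    (by rw [e1, e1, add_comm])
    (by rw [e2, mul_one])
    (by rw [e1, e2, show w * (1 + w) = 1 by linear_combination hww + w * k2])
    (hPbC _ (uni_mem_Pb 0 1 0)) (hPbC _ (uni_mem_Pb 0 w 0)) (hPbC _ (ts_mem hs))
  rcases h3 with h3 | h3
  · exact (not_fix h h2 hK h3).elim
  · intro A hA
    exact h3 A (h.Fx_mono Qb_le hA) (hA _ ⟨0, 1, 0, rfl⟩) (hA _ ⟨0, w, 0, rfl⟩)

theorem span_U (h : PR ρ π) (h2 : (2 : k) ≠ 0) (hK : Fintype.card K = 4) :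
    Submodule.span k (ρ '' {g | π g ∈ U K}) = ⊤ := by
  classical
  have : Fintype (U K) := Fintype.ofFinite _
  exact PR.span_image h h2 (U K) (card_U hK) (Fx_U h h2 hK)

theorem trace_U (h : PR ρ π) (h2 : (2 : k) ≠ 0) (hK : Fintype.card K = 4) {g : Λ} (hg : π g ∈ U K)
    (hg1 : π g ≠ 1) : (ρ g).trace = 0 := by
  classical
  have : Fintype (U K) := Fintype.ofFinite _
  exact PR.trace_eq_zero h h2 (U K) (card_U hK) (Fx_U h h2 hK) hg hg1

end Main

end Cfsg.Agent.H924.L34
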