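import Cfsg.Agent.H924.L34SL
import Cfsg.Agent.H906.SL2Real
import Cfsg.Agent.H911.Base5

/-!
# `SL₃(4)` in dimension eight: traces on the parabolic subgroups (helper924)
-/

set_option autoImplicit false

namespace Cfsg.Agent.H924.L34

open Module Matrix Cfsg.Agent.H906.SL3Par Cfsg.Agent.H906.L34

/-- stabiliser of the vector `e₁` -/
def Pb1 (K : Type*) [Field K] : Subgroup (X K) where
  carrier := {g | g.1 0 0 = 1 ∧ g.1 1 0 = 0 ∧ g.1 2 0 = 0}
  mul_mem' := by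
    rintro g h ⟨hg0, hg1, hg2⟩ ⟨hh0, hh1, hh2⟩
    have e0 := mul_entry g h 0 0
    have e1 := mul_entry g h 1 0
    have e2 := mul_entry g h 2 0
    rw [hh0, hh1, hh2] at e0 e1 e2
    refine ⟨e0.trans ?_, e1.trans ?_, e2.trans ?_⟩
    · rw [hg0]; ring
    · rw [hg1]; ring
    · rw [hg2]; ring
  one_mem' := by refine ⟨?_, ?_, ?_⟩ <;> simp
  inv_mem' := by
    rintro g ⟨hg0, hg1, hg2⟩
    have hd := det_eq g
    rw [hg0, hg1, hg2] at hd
    refine ⟨?_, ?_, ?_⟩ <;> (rw [inv_val, Matrix.adjugate_fin_three]; simp [hg1, hg2])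
    linear_combination hd

/-- stabiliser of the linear form `e₃*` -/
def Pa1 (K : Type*) [Field K] : Subgroup (X K) where
  carrier := {g | g.1 2 0 = 0 ∧ g.1 2 1 = 0 ∧ g.1 2 2 = 1}
  mul_mem' := by
    rintro g h ⟨hg0, hg1, hg2⟩ ⟨hh0, hh1, hh2⟩
    have e0 := mul_entry g h 2 0
    have e1 := mul_entry g h 2 1
    have e2 := mul_entry g h 2 2
    rw [hg0, hg1, hg2] at e0 e1 e2
    refine ⟨e0.trans ?_, e1.trans ?_, e2.trans ?_⟩
    · rw [hh0]; ring
    · rw [hh1]; ring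
    · rw [hh2]; ring
  one_mem' := by refine ⟨?_, ?_, ?_⟩ <;> simp
  inv_mem' := by
    rintro g ⟨hg0, hg1, hg2⟩
    have hd := det_eq g
    rw [hg0, hg1, hg2] at hd
    refine ⟨?_, ?_, ?_⟩ <;> (rw [inv_val, Matrix.adjugate_fin_three]; simp [hg0, hg1])
    linear_combination hd

section Emb

variable {K : Type*} [Field K]

/-- `A ↦ diag(1, A)` -/
def emb (K : Type*) [Field K] : SpecialLinearGroup (Fin 2) K →* X K where
  toFun A := ⟨!![1, 0, 0; 0, A.1 0 0, A.1 0 1; 0, A.1 1 0, A.1 1 1], by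
    have := A.2
    rw [Matrix.det_fin_two] at this
    simp [Matrix.det_fin_three]
    exact this⟩
  map_one' := by
    apply Cfsg.Agent.H906.SL3Par.ext'
    intro i j
    fin_cases i <;> fin_cases j <;> simp
  map_mul' A B := by
    apply Cfsg.Agent.H906.SL3Par.ext'
    intro i j
    refine Eq.trans ?_ (mul_entry _ _ i j).symm
    fin_cases i <;> fin_cases j <;> simp [Matrix.mul_apply, Fin.sum_univ_two]

theorem emb_val (A : SpecialLinearGroup (Fin 2) K) :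
    (emb K A).1 = !![1, 0, 0; 0, A.1 0 0, A.1 0 1; 0, A.1 1 0, A.1 1 1] := rfl

theorem sl2_sq (A : SpecialLinearGroup (Fin 2) K) : A.1 * A.1 = (A.1 0 0 + A.1 1 1) • A.1 - 1 := by
  have hd := A.2
  rw [Matrix.det_fin_two] at hd
  ext i j
  rw [Matrix.mul_apply, Fin.sum_univ_two, Matrix.sub_apply, Matrix.smul_apply, smul_eq_mul]
  fin_cases i <;> fin_cases j <;> simp
  · linear_combination -hd
  · ring
  · ring
  · linear_combination -hd

theorem sl2_pow_three (hK2 : (2 : K) = 0) (A : SpecialLinearGroup (Fin 2) K) (ht : A.1 0 0 + A.1 1 1 = 1) :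
    A ^ 3 = 1 := by
  apply Subtype.ext
  have h1 := sl2_sq A
  rw [ht, one_smul] at h1
  change (A ^ 3).1 = 1
  rw [pow_succ, pow_two]
  change A.1 * A.1 * A.1 = 1
  rw [h1, sub_mul, h1, one_mul, sub_sub_cancel_left]
  ext i j
  rw [Matrix.neg_apply]
  linear_combination (-(1 : Matrix (Fin 2) (Fin 2) K) i j) * hK2

theorem sl2_pow_five (hK2 : (2 : K) = 0) (A : SpecialLinearGroup (Fin 2) K)
    (ht : (A.1 0 0 + A.1 1 1) * (A.1 0 0 + A.1 1 1) = A.1 0 0 + A.1 1 1 + 1) :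
    A ^ 5 = 1 := by
  apply Subtype.ext
  have h1 := sl2_sq A
  generalize A.1 0 0 + A.1 1 1 = t at ht h1
  have hneg : ∀ M : Matrix (Fin 2) (Fin 2) K, -M = M := by
    intro M
    ext i j
    rw [Matrix.neg_apply]
    linear_combination (-M i j) * hK2
  have h2 : A.1 * A.1 = t • A.1 + 1 := by rw [h1, sub_eq_add_neg, hneg]
  have h3 : A.1 * A.1 * A.1 = t • A.1 + t • 1 := by
    rw [h2, add_mul, one_mul, smul_mul_assoc, h2, smul_add, smul_smul, ht, add_smul, one_smul]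
    have : A.1 + A.1 = 0 := by
      nth_rewrite 1 [← hneg A.1]
      rw [neg_add_cancel]
    calc t • A.1 + A.1 + t • 1 + A.1 = t • A.1 + t • 1 + (A.1 + A.1) := by abel
      _ = _ := by rw [this, add_zero]
  have h4 : A.1 * A.1 * (A.1 * A.1 * A.1) = 1 := by
    rw [h3, h2, mul_add, add_mul, add_mul, mul_smul_comm, smul_mul_assoc, h2, one_mul, mul_smul_comm, mul_one, one_mul]
    ext i j
    simp only [Matrix.add_apply, Matrix.smul_apply, smul_eq_mul]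
    generalize A.1 i j = a
    generalize (1 : Matrix (Fin 2) (Fin 2) K) i j = o
    linear_combination (a * (t + 2) + o) * ht + (a * (2 * t + 1) + o * t) * hK2
  change (A ^ 5).1 = 1
  have h5 : A ^ 5 = A * A * (A * A * A) := by
    rw [pow_succ, pow_succ, pow_succ, pow_two]
    simp only [mul_assoc]
  rw [h5]
  exact h4

/-- unipotent elements of `SL₂` are conjugate to upper unitriangular ones -/
theorem sl2_unip (hK2 : (2 : K) = 0) (A : SpecialLinearGroup (Fin 2) K) (ht : A.1 0 0 + A.1 1 1 = 0) :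
    ∃ B : SpecialLinearGroup (Fin 2) K, (B * A * B⁻¹).1 0 0 = 1 ∧ (B * A * B⁻¹).1 1 0 = 0 ∧ (B * A * B⁻¹).1 1 1 = 1 := by
  have hd := A.2
  rw [Matrix.det_fin_two] at hd
  by_cases hc : A.1 1 0 = 0
  · refine ⟨1, ?_⟩
    rw [one_mul, inv_one, mul_one]
    have h1 : (A.1 0 0 - 1) * (A.1 0 0 - 1) = 0 := by
      linear_combination A.1 0 0 * ht - hd - A.1 0 1 * hc - A.1 0 0 * hK2
    have h2 : A.1 0 0 = 1 := by
      rcases mul_eq_zero.1 h1 with h3 | h3 <;> exact sub_eq_zero.1 h3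
    refine ⟨h2, hc, ?_⟩
    linear_combination ht - h2 - hK2
  · -- `B⁻¹` has columns `(a + 1, c)`, `(c⁻¹, 0)`
    have key : ∃ B : SpecialLinearGroup (Fin 2) K, B.1 = !![0, (A.1 1 0)⁻¹; A.1 1 0, A.1 0 0 + 1] := by
      refine ⟨⟨!![0, (A.1 1 0)⁻¹; A.1 1 0, A.1 0 0 + 1], ?_⟩, rfl⟩
      rw [Matrix.det_fin_two]
      simp [hc]
      linear_combination (-1) * hK2
    obtain ⟨B, hB⟩ := key
    have hBi : (B⁻¹).1 = !![A.1 0 0 + 1, -(A.1 1 0)⁻¹; -(A.1 1 0), 0] := by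
      rw [Matrix.SpecialLinearGroup.coe_inv, hB, Matrix.adjugate_fin_two]
      simp
    have hm : ∀ i j, (B * A * B⁻¹).1 i j = (B.1 * A.1 * (B⁻¹).1) i j := fun i j => rfl
    have h11 : A.1 1 1 = A.1 0 0 := by linear_combination ht - A.1 0 0 * hK2
    rw [h11] at hd
    refine ⟨B, ?_, ?_, ?_⟩
    · rw [hm, hB, hBi, Matrix.mul_apply, Fin.sum_univ_two, Matrix.mul_apply, Matrix.mul_apply, Fin.sum_univ_two,
        Fin.sum_univ_two]
      simp
      rw [h11]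
      field_simp
      ring
    · rw [hm, hB, hBi, Matrix.mul_apply, Fin.sum_univ_two, Matrix.mul_apply, Matrix.mul_apply, Fin.sum_univ_two,
        Fin.sum_univ_two]
      simp
      rw [h11]
      linear_combination A.1 1 0 * hd + A.1 1 0 * (A.1 0 0 + 1) * hK2
    · rw [hm, hB, hBi, Matrix.mul_apply, Fin.sum_univ_two, Matrix.mul_apply, Matrix.mul_apply, Fin.sum_univ_two,
        Fin.sum_univ_two]
      simp
      field_simp
      linear_combination (-1 - A.1 0 0) * hK2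

/-- the lower right block -/
def lr (K : Type*) [Field K] : Pb1 K →* SpecialLinearGroup (Fin 2) K where
  toFun g := ⟨!![g.1.1 1 1, g.1.1 1 2; g.1.1 2 1, g.1.1 2 2], by
    have hd := det_eq g.1
    obtain ⟨h0, h1, h2⟩ := g.2
    rw [h0, h1, h2] at hd
    rw [Matrix.det_fin_two]
    simp
    linear_combination hd⟩
  map_one' := by
    apply Subtype.ext
    ext i j
    fin_cases i <;> fin_cases j <;> simp
  map_mul' g h := by
    obtain ⟨h0, h1, h2⟩ := g.2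
    apply Subtype.ext
    have e : ∀ i j, ((g * h : Pb1 K) : X K).1 i j =
      g.1.1 i 0 * h.1.1 0 j + g.1.1 i 1 * h.1.1 1 j + g.1.1 i 2 * h.1.1 2 j := fun i j => mul_entry g.1 h.1 i j
    change !![(g * h : Pb1 K).1.1 1 1, (g * h : Pb1 K).1.1 1 2; (g * h : Pb1 K).1.1 2 1, (g * h : Pb1 K).1.1 2 2] =
      !![g.1.1 1 1, g.1.1 1 2; g.1.1 2 1, g.1.1 2 2] * !![h.1.1 1 1, h.1.1 1 2; h.1.1 2 1, h.1.1 2 2]
    rw [Matrix.mul_fin_two, e, e, e, e, h1, h2]
    simp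

theorem emb_mem (A : SpecialLinearGroup (Fin 2) K) : emb K A ∈ Pb1 K := by
  refine ⟨?_, ?_, ?_⟩ <;> simp [emb_val]

theorem lr_emb (A : SpecialLinearGroup (Fin 2) K) : lr K ⟨emb K A, emb_mem A⟩ = A := by
  apply Subtype.ext
  ext i j
  fin_cases i <;> fin_cases j <;> rfl

theorem lr_00 (g : Pb1 K) : (lr K g).1 0 0 = g.1.1 1 1 := rfl
theorem lr_01 (g : Pb1 K) : (lr K g).1 0 1 = g.1.1 1 2 := rfl
theorem lr_10 (g : Pb1 K) : (lr K g).1 1 0 = g.1.1 2 1 := rfl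
theorem lr_11 (g : Pb1 K) : (lr K g).1 1 1 = g.1.1 2 2 := rfl

theorem exists_conj_emb (g : Pb1 K) (ht : (2 : K) - ((lr K g).1 0 0 + (lr K g).1 1 1) ≠ 0) :
    ∃ u : X K, (g : X K) = u * emb K (lr K g) * u⁻¹ := by
  obtain ⟨h0, h1, h2⟩ := g.2
  have hd := det_eq g.1
  rw [h0, h1, h2] at hd
  rw [lr_00, lr_11] at ht
  set t' := (2 : K) - (g.1.1 1 1 + g.1.1 2 2) with ht'
  have hdt : (g.1.1 1 1 - 1) * (g.1.1 2 2 - 1) - g.1.1 1 2 * g.1.1 2 1 = t' := by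
    rw [ht']
    linear_combination hd
  refine ⟨uni ((g.1.1 0 1 * (g.1.1 2 2 - 1) - g.1.1 0 2 * g.1.1 2 1) / t') 0
    ((g.1.1 0 2 * (g.1.1 1 1 - 1) - g.1.1 0 1 * g.1.1 1 2) / t'), ?_⟩
  rw [eq_mul_inv_iff_mul_eq]
  apply Cfsg.Agent.H906.SL3Par.ext'
  intro i j
  rw [mul_entry, mul_entry]
  fin_cases i <;> fin_cases j <;> simp [uni, emb_val, lr_00, lr_01, lr_10, lr_11, h0, h1, h2]
  · field_simp
    linear_combination (-g.1.1 0 1) * hdt
  · field_simp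
    linear_combination (-g.1.1 0 2) * hdt

/-- elements of the stabiliser of a vector in `SL₃(4)` -/
theorem pb1_cases [Fintype K] (hK : Fintype.card K = 4) {x : X K} (hx : x ∈ Pb1 K) :
    (∃ y, y * x * y⁻¹ ∈ U K) ∨ ∃ n, (n = 3 ∨ n = 5) ∧ x ^ n = 1 ∧ ∃ y, y * x * y⁻¹ = x⁻¹ := by
  have k2 := two_eq_zero hK
  set A := lr K ⟨x, hx⟩ with hA
  by_cases ht : A.1 0 0 + A.1 1 1 = 0
  · left
    obtain ⟨B, hB0, hB1, hB2⟩ := sl2_unip k2 A ht
    refine ⟨emb K B, ?_⟩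
    have hmem : emb K B * x * (emb K B)⁻¹ ∈ Pb1 K :=
      (Pb1 K).mul_mem ((Pb1 K).mul_mem (emb_mem B) hx) ((Pb1 K).inv_mem (emb_mem B))
    have h1 : lr K ⟨emb K B * x * (emb K B)⁻¹, hmem⟩ = B * A * B⁻¹ := by
      have h2 : (⟨emb K B * x * (emb K B)⁻¹, hmem⟩ : Pb1 K) = ⟨emb K B, emb_mem B⟩ * ⟨x, hx⟩ * ⟨emb K B, emb_mem B⟩⁻¹ :=
        rfl
      rw [h2, map_mul, map_mul, map_inv, lr_emb]
    rw [← h1] at hB0 hB1 hB2
    rw [lr_00] at hB0
    rw [lr_10] at hB1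
    rw [lr_11] at hB2
    obtain ⟨m0, m1, m2⟩ := hmem
    refine ⟨(emb K B * x * (emb K B)⁻¹).1 0 1, (emb K B * x * (emb K B)⁻¹).1 1 2,
      (emb K B * x * (emb K B)⁻¹).1 0 2, ?_⟩
    apply Cfsg.Agent.H906.SL3Par.ext'
    intro i j
    fin_cases i <;> fin_cases j
    · exact m0
    · rfl
    · rfl
    · exact m1
    · exact hB0
    · rfl
    · exact m2
    · exact hB1
    · exact hB2
  · right
    obtain ⟨u, hu⟩ := exists_conj_emb ⟨x, hx⟩ (by
      rw [← hA]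
      intro h0
      apply ht
      linear_combination k2 - h0)
    rw [← hA] at hu
    change x = _ at hu
    have hpow : ∀ n, A ^ n = 1 → x ^ n = 1 := by
      intro n hn
      rw [hu, conj_pow, ← map_pow, hn, map_one, mul_one, mul_inv_cancel]
    obtain ⟨B, hB⟩ := Cfsg.Agent.H906.SL2_conj_inv A (by
      intro h0
      apply ht
      have h1 : (A.1 0 0 + A.1 1 1) * (A.1 0 0 + A.1 1 1) = 0 := by linear_combination h0 + 2 * k2
      rcases mul_eq_zero.1 h1 with h2 | h2 <;> exact h2)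
    have hreal : ∃ y, y * x * y⁻¹ = x⁻¹ := by
      refine ⟨u * emb K B * u⁻¹, ?_⟩
      have h1 : emb K B * emb K A * (emb K B)⁻¹ = (emb K A)⁻¹ := by
        rw [← map_mul, ← map_inv, ← map_mul, hB, map_inv]
      calc u * emb K B * u⁻¹ * x * (u * emb K B * u⁻¹)⁻¹
          = u * (emb K B * emb K A * (emb K B)⁻¹) * u⁻¹ := by rw [hu]; group
        _ = x⁻¹ := by rw [h1, hu]; group
    by_cases ht1 : A.1 0 0 + A.1 1 1 = 1
    · exact ⟨3, Or.inl rfl, hpow 3 (sl2_pow_three k2 A ht1), hreal⟩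
    · exact ⟨5, Or.inr rfl, hpow 5 (sl2_pow_five k2 A (sq_eq hK ht ht1)), hreal⟩

end Emb

section Tr

variable {k : Type*} [Field k] {Λ : Type*} [Group Λ] {G : Type*} [Group G] {ρ : Λ →* M8 k} {π : Λ →* G}

/-- the trace data of an element -/
def Good (ρ : Λ →* M8 k) (Q : ℕ) (g : Λ) : Prop :=
  ∃ c τ : k, c ^ 4 = 1 ∧ τ ^ Q = τ ∧ (ρ g).trace = c * τ ∧ (ρ g⁻¹).trace = c⁻¹ * τ

theorem nat_pow_char (p : ℕ) [hp : Fact p.Prime] [CharP k p] (e m : ℕ) : ((m : ℕ) : k) ^ p ^ e = m := by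
  have := map_natCast (iterateFrobenius k p e) m
  rwa [iterateFrobenius_def] at this

theorem good_of_scalar (p : ℕ) [hp : Fact p.Prime] [CharP k p] (e : ℕ) {g : Λ} {c : k} (hc4 : c ^ 4 = 1)
    (hc : ρ g = c • (1 : M8 k)) : Good ρ (p ^ e) g := by
  have hc0 : c ≠ 0 := by
    rintro rfl
    norm_num at hc4
  have h1 : ρ g⁻¹ = c⁻¹ • (1 : M8 k) := by
    have h2 := inv_mul' ρ g
    rw [hc, mul_smul_comm, mul_one] at h2
    rw [← h2, smul_smul, inv_mul_cancel₀ hc0, one_smul]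
  refine ⟨c, 8, hc4, ?_, ?_, ?_⟩
  · have := nat_pow_char (k := k) p e 8
    exact_mod_cast this
  · rw [hc, Matrix.trace_smul, Matrix.trace_one, Fintype.card_fin, smul_eq_mul]
    norm_num
  · rw [h1, Matrix.trace_smul, Matrix.trace_one, Fintype.card_fin, smul_eq_mul]
    norm_num

theorem good_conj {Q : ℕ} {g y : Λ} (h : Good ρ Q (y * g * y⁻¹)) : Good ρ Q g := by
  obtain ⟨c, τ, h1, h2, h3, h4⟩ := h
  refine ⟨c, τ, h1, h2, ?_, ?_⟩
  · rw [← h3, map_mul, Matrix.trace_mul_comm, ← map_mul, inv_mul_cancel_left]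
  · rw [← h4, show (y * g * y⁻¹)⁻¹ = y * g⁻¹ * y⁻¹ by group, map_mul, Matrix.trace_mul_comm, ← map_mul,
      inv_mul_cancel_left]

theorem good_of_real (h : PR ρ π) (p : ℕ) [hp : Fact p.Prime] [CharP k p] (e : ℕ)
    (hQ : p ^ e % 5 = 0 ∨ p ^ e % 5 = 1 ∨ p ^ e % 5 = 4)
    (hZ : ∀ g, π g = 1 → ∃ c : k, c ^ 4 = 1 ∧ ρ g = c • (1 : M8 k)) {g : Λ} {n : ℕ} (hn : n = 3 ∨ n = 5)
    (hgn : π g ^ n = 1) (hreal : ∃ y, y * π g * y⁻¹ = (π g)⁻¹) : Good ρ (p ^ e) g := by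
  -- the element of order `n`
  have h15 : π g ^ 15 = 1 := by
    rcases hn with rfl | rfl
    · rw [show 15 = 3 * 5 by norm_num, pow_mul, hgn, one_pow]
    · rw [show 15 = 5 * 3 by norm_num, pow_mul, hgn, one_pow]
  obtain ⟨c, hc4, hc⟩ := hZ (g ^ 15) (by rw [map_pow, h15])
  have hc0 : c ≠ 0 := by
    rintro rfl
    norm_num at hc4
  set g' := g ^ 16 with hg'
  have hπg' : π g' = π g := by rw [hg', map_pow, pow_succ, h15, one_mul]
  have hρg' : ρ g' = c • ρ g := by rw [hg', pow_succ, map_mul, hc, smul_mul_assoc, one_mul]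
  obtain ⟨d, hd4, hd⟩ := hZ (g ^ n) (by rw [map_pow, hgn])
  have hMn : ρ g' ^ n = 1 := by
    rw [← map_pow, hg', ← pow_mul, mul_comm 16 n, pow_mul, map_pow, hd, smul_pow, one_pow,
      show d ^ 16 = (d ^ 4) ^ 4 by ring, hd4, one_pow, one_smul]
  have hMin : ρ g'⁻¹ ^ n = 1 := by
    have h1 : ρ g' ^ n * ρ g'⁻¹ ^ n = 1 := by
      rw [← map_pow, ← map_pow, inv_pow, mul_inv']
    rwa [hMn, one_mul] at h1
  have hMi : ρ g' ^ (n - 1) = ρ g'⁻¹ := by
    have h1 : ρ g' ^ (n - 1) * ρ g' = 1 := by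
      rw [← pow_succ, Nat.sub_add_cancel (by rcases hn with rfl | rfl <;> norm_num), hMn]
    calc ρ g' ^ (n - 1) = ρ g' ^ (n - 1) * (ρ g' * ρ g'⁻¹) := by rw [mul_inv', mul_one]
      _ = ρ g'⁻¹ := by rw [← mul_assoc, h1, one_mul]
  -- real
  have htr : (ρ g'⁻¹).trace = (ρ g').trace := by
    obtain ⟨y, hy⟩ := hreal
    obtain ⟨Y, rfl⟩ := h.surj y
    obtain ⟨f, hf4, hf⟩ := hZ (Y * g' * Y⁻¹ * g') (by
      rw [map_mul, map_mul, map_mul, map_inv, hπg', hy, inv_mul_cancel])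
    have h1 : ρ (Y * g' * Y⁻¹) = f • ρ g'⁻¹ := by
      have h2 : ρ (Y * g' * Y⁻¹ * g') * ρ g'⁻¹ = ρ (Y * g' * Y⁻¹) := by
        rw [← map_mul, mul_inv_cancel_right]
      rw [← h2, hf, smul_mul_assoc, one_mul]
    have h3 : ρ (Y * g' * Y⁻¹) ^ n = 1 := by
      rw [← map_pow, conj_pow, map_mul, map_mul, map_pow, hMn, mul_one, mul_inv']
    rw [h1, smul_pow, hMin] at h3
    have h4 : f ^ n = 1 := by
      apply smul_one_inj (k := k)
      rw [h3, one_smul]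
    have h5 : f = 1 := by
      rcases hn with rfl | rfl
      · calc f = f ^ 4 * (f ^ 3)⁻¹ := by
              rw [h4, inv_one, mul_one, show f ^ 4 = f ^ 3 * f by ring, h4, one_mul]
          _ = 1 := by rw [hf4, h4, inv_one, mul_one]
      · calc f = f ^ 4 * f := by rw [hf4, one_mul]
          _ = f ^ 5 := by ring
          _ = 1 := h4
    rw [h5, one_smul] at h1
    rw [← h1, map_mul, Matrix.trace_mul_comm, ← map_mul, inv_mul_cancel_left]
  -- Frobenius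
  have hQ' : p ^ e % n = 0 ∨ p ^ e % n = 1 ∨ p ^ e % n = n - 1 := by
    rcases hn with rfl | rfl
    · omega
    · exact hQ
  have hFr : (ρ g').trace ^ p ^ e = (ρ g').trace := by
    have h1 : (ρ g' ^ p ^ e).trace = (ρ g').trace ^ p ^ e := H911.Base.trace_pow_char_pow p _ e
    have h2 : ρ g' ^ p ^ e = ρ g' ^ (p ^ e % n) := by
      conv_lhs => rw [← Nat.div_add_mod (p ^ e) n, pow_add, pow_mul, hMn, one_pow, one_mul]
    rcases hQ' with h3 | h3 | h3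
    · rw [h2, h3, pow_zero, Matrix.trace_one, Fintype.card_fin] at h1
      have h4 := nat_pow_char (k := k) p e 8
      have h5 : ((ρ g').trace - ((8 : ℕ) : k)) ^ p ^ e = 0 := by
        rw [sub_pow_char_pow, ← h1, h4, sub_self]
      have h6 := sub_eq_zero.1 ((pow_eq_zero_iff (pow_ne_zero _ hp.out.ne_zero)).1 h5)
      rw [h6, h4]
    · rw [h2, h3, pow_one] at h1
      exact h1.symm
    · rw [h2, h3, hMi, htr] at h1
      exact h1.symm
  -- conclusion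
  have hρ : ρ g = c⁻¹ • ρ g' := by rw [hρg', smul_smul, inv_mul_cancel₀ hc0, one_smul]
  have hρi : ρ g⁻¹ = c • ρ g'⁻¹ := by
    have h1 : ρ g⁻¹ * ρ g * ρ g'⁻¹ = ρ g'⁻¹ := by rw [inv_mul', one_mul]
    rw [hρ, mul_smul_comm, smul_mul_assoc, mul_assoc, mul_inv', mul_one] at h1
    rw [← h1, smul_smul, mul_inv_cancel₀ hc0, one_smul]
  refine ⟨c⁻¹, (ρ g').trace, by rw [inv_pow, hc4, inv_one], hFr, ?_, ?_⟩
  · rw [hρ, Matrix.trace_smul, smul_eq_mul]
  · rw [hρi, Matrix.trace_smul, smul_eq_mul, inv_inv, htr]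

end Tr

section Par

variable {k : Type*} [Field k] {Λ : Type*} [Group Λ] {K : Type*} [Field K] [Fintype K]
  {ρ : Λ →* M8 k} {π : Λ →* X K}

theorem good_Pb1 (h : PR ρ π) (h2 : (2 : k) ≠ 0) (hK : Fintype.card K = 4) (p : ℕ) [hp : Fact p.Prime] [CharP k p]
    (e : ℕ) (hQ : p ^ e % 5 = 0 ∨ p ^ e % 5 = 1 ∨ p ^ e % 5 = 4)
    (hZ : ∀ g, π g = 1 → ∃ c : k, c ^ 4 = 1 ∧ ρ g = c • (1 : M8 k)) {g : Λ} (hg : π g ∈ Pb1 K) :
    Good ρ (p ^ e) g := by
  rcases pb1_cases hK hg with ⟨y, hy⟩ | ⟨n, hn, hgn, hreal⟩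
  · obtain ⟨Y, rfl⟩ := h.surj y
    rw [← map_inv, ← map_mul, ← map_mul] at hy
    apply good_conj (y := Y)
    by_cases h1 : π (Y * g * Y⁻¹) = 1
    · obtain ⟨c, hc4, hc⟩ := hZ _ h1
      exact good_of_scalar p e hc4 hc
    · refine ⟨1, 0, one_pow _, zero_pow (pow_ne_zero _ hp.out.ne_zero), ?_, ?_⟩
      · rw [trace_U h h2 hK hy h1, mul_zero]
      · rw [trace_U h h2 hK (g := (Y * g * Y⁻¹)⁻¹) (by rw [map_inv]; exact inv_mem hy) (by
          rw [map_inv]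
          intro h0
          exact h1 (inv_eq_one.1 h0)), mul_zero]
  · exact good_of_real h p e hQ hZ hn hgn hreal

end Par

end Cfsg.Agent.H924.L34
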