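import Cfsg.Agent.H924.QuadTensor
import Cfsg.Agent.H918.TransvWreath
import Cfsg.Agent.H919.AschWreath

/-!
# Characteristic two: tensor powers of an alternating form (helper924)
-/

set_option autoImplicit false
set_option linter.unusedSectionVars false

open Cfsg Cfsg.Geo Matrix

namespace Cfsg.Agent.H924

open Cfsg.Agent.H919 (HermForm frameMat pureMat)

variable {ι : Type} [Fintype ι] [DecidableEq ι] {F : Type*} [Field F]
variable {f : (ι → F) → (ι → F) → F} {m t : ℕ}

/-- The pure tensor with components `v i`. -/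
def ptt (v : Fin t → Fin m → F) : (Fin t → Fin m) → F := fun a => ∏ i, v i (a i)

lemma sum_prod_eq (g : Fin t → Fin m → F) : ∑ a : Fin t → Fin m, ∏ i, g i (a i) = ∏ i, ∑ j, g i j := by
  rw [Finset.prod_univ_sum, Fintype.piFinset_univ]

lemma pureMat_mulVec_ptt (x : Fin t → Matrix (Fin m) (Fin m) F) (v : Fin t → Fin m → F) :
    pureMat x *ᵥ ptt v = ptt (fun i => x i *ᵥ v i) := by
  funext a
  simp only [Matrix.mulVec, dotProduct, H919.pureMat_apply, ptt]
  simp only [← Finset.prod_mul_distrib]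
  exact sum_prod_eq (fun i j => x i (a i) j * v i j)

lemma ptt_dotProduct (v w : Fin t → Fin m → F) : ptt v ⬝ᵥ ptt w = ∏ i, v i ⬝ᵥ w i := by
  simp only [dotProduct, ptt, ← Finset.prod_mul_distrib]
  exact sum_prod_eq (fun i j => v i j * w i j)

lemma single_eq_ptt (a : Fin t → Fin m) :
    (Pi.single a 1 : (Fin t → Fin m) → F) = ptt (fun i => Pi.single (a i) 1) := by
  funext b
  simp only [ptt, Pi.single_apply]
  by_cases h : b = a
  · subst h; simp
  · rw [if_neg h]
    obtain ⟨i, hi⟩ := Function.ne_iff.mp h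
    exact (Finset.prod_eq_zero (Finset.mem_univ i) (if_neg hi)).symm

lemma frameMat_mulVec (e : ι ≃ (Fin t → Fin m)) (P : GL ι F) (X : Matrix (Fin t → Fin m) (Fin t → Fin m) F)
    (x : (Fin t → Fin m) → F) :
    frameMat e P X *ᵥ ((P : Matrix ι ι F) *ᵥ (x ∘ e)) = (P : Matrix ι ι F) *ᵥ ((X *ᵥ x) ∘ e) := by
  rw [frameMat, ← Matrix.mulVec_mulVec, ← Matrix.mulVec_mulVec,
    Matrix.mulVec_mulVec (x ∘ e) ((P⁻¹ : GL ι F) : Matrix ι ι F), ← Units.val_mul, inv_mul_cancel, Units.val_one,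
    Matrix.one_mulVec]
  congr 1
  funext i
  simp only [Matrix.mulVec, dotProduct, Function.comp_apply, Matrix.reindexAlgEquiv_apply, Matrix.reindex_apply,
    Matrix.submatrix_apply, Equiv.symm_symm]
  exact Equiv.sum_comp e (fun b => X (e i) b * x b)

/-- Elements of the tensor-wreath subgroup map pure tensors to pure tensors. -/
lemma wreath_mulVec_ptt {e : ι ≃ (Fin t → Fin m)} {P g : GL ι F} (hg : g ∈ tensorWreathSubgroup m t e P)
    (v : Fin t → Fin m → F) : ∃ w : Fin t → Fin m → F,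
      (g : Matrix ι ι F) *ᵥ ((P : Matrix ι ι F) *ᵥ (ptt v ∘ e)) = (P : Matrix ι ι F) *ᵥ (ptt w ∘ e) := by
  obtain ⟨h, hh, rfl⟩ := (H919.mem_tensorWreathSubgroup_iff e P g).mp hg
  obtain ⟨gs, σ, hgs⟩ := H918.isWreathElt_of_mem hh
  refine ⟨fun i => (gs i : Matrix (Fin m) (Fin m) F) *ᵥ v (σ i), ?_⟩
  rw [H919.frameGL_val, frameMat_mulVec]
  congr 1
  funext i
  simp only [Function.comp_apply]
  generalize e i = x
  simp only [Matrix.mulVec, dotProduct, hgs, ptt]
  have h1 : ∀ y : Fin t → Fin m, ∏ i, v i (y i) = ∏ i, v (σ i) (y (σ i)) := fun y =>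
    (Equiv.prod_comp σ (fun i => v i (y i))).symm
  simp only [h1, ← Finset.prod_mul_distrib]
  rw [← sum_prod_eq (fun i j => (gs i : Matrix (Fin m) (Fin m) F) (x i) j * v (σ i) j)]
  exact (Equiv.sum_comp (Equiv.arrowCongr σ (Equiv.refl (Fin m)))
    (fun y : Fin t → Fin m => ∏ i, ((gs i : Matrix (Fin m) (Fin m) F) (x i) (y (σ i)) * v (σ i) (y (σ i))))).symm.trans
    (by
      apply Finset.sum_congr rfl
      intro y _
      apply Finset.prod_congr rfl
      intro i _
      simp [Equiv.arrowCongr])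

/-- (C7), characteristic 2: the stabiliser of a tensor power of an alternating form fixes a quadratic form. -/
theorem quad_of_power (hf : IsSymplecticForm f) (h2 : (2 : F) = 0) (ht : 2 ≤ t) {ε₁ : F}
    {f₁ : (Fin m → F) → (Fin m → F) → F}
    (hf₁ : HermForm (RingEquiv.refl F) ε₁ f₁) (ha₁ : ∀ v, f₁ v v = 0)
    {e : ι ≃ (Fin t → Fin m)} {P : GL ι F} (hstr : IsTensorPowerFormStructure (RingEquiv.refl F) f f₁ e P) :
    ∃ Q : (ι → F) → F, IsNondegenerateQuadraticForm Q ∧ (∀ u v, QuadraticMap.polar Q u v = f u v) ∧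
      ∀ g : GL ι F, (∀ u v, f ((g : Matrix ι ι F) *ᵥ u) ((g : Matrix ι ι F) *ᵥ v) = f u v) →
        g ∈ tensorWreathSubgroup m t e P → ∀ v, Q ((g : Matrix ι ι F) *ᵥ v) = Q v := by
  classical
  obtain ⟨c, hc, hform⟩ := hstr
  let G := gramMatrix f₁
  let i₀ : Fin t := ⟨0, by omega⟩
  let i₁ : Fin t := ⟨1, by omega⟩
  have hi : i₁ ≠ i₀ := by simp [i₀, i₁, Fin.ext_iff]
  let N : Fin t → Matrix (Fin m) (Fin m) F := fun i => if i = i₀ then upper G else G
  have hGs : ∀ i j, G i j = G j i := gram_symm_of_two hf₁ h2 ha₁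
  have hG : ∀ w : Fin m → F, w ⬝ᵥ (G *ᵥ w) = 0 := by
    intro w
    have h := H912.formOfGram_gramMatrix hf₁
    have h3 := congrFun (congrFun h w) w
    rw [H912.formOfGram_eq_dotProduct, ha₁] at h3
    exact h3
  have hM : pureMat N + (pureMat N)ᵀ = pureMat (fun _ => G) := by
    ext a b
    simp only [Matrix.add_apply, Matrix.transpose_apply, H919.pureMat_apply]
    rw [← Finset.mul_prod_erase Finset.univ (fun i => N i (a i) (b i)) (Finset.mem_univ i₀),
      ← Finset.mul_prod_erase Finset.univ (fun i => N i (b i) (a i)) (Finset.mem_univ i₀),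
      ← Finset.mul_prod_erase Finset.univ (fun i => G (a i) (b i)) (Finset.mem_univ i₀)]
    have h1 : ∏ i ∈ Finset.univ.erase i₀, N i (a i) (b i) = ∏ i ∈ Finset.univ.erase i₀, G (a i) (b i) := by
      apply Finset.prod_congr rfl
      intro i hi
      simp only [N, if_neg (Finset.ne_of_mem_erase hi)]
    have h1' : ∏ i ∈ Finset.univ.erase i₀, N i (b i) (a i) = ∏ i ∈ Finset.univ.erase i₀, G (a i) (b i) := by
      apply Finset.prod_congr rfl
      intro i hi
      simp only [N, if_neg (Finset.ne_of_mem_erase hi)]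
      exact hGs _ _
    rw [h1, h1', ← add_mul]
    congr 1
    simp only [N, if_pos]
    exact congrFun (congrFun (upper_add_transpose (gram_diag ha₁) hGs) (a i₀)) (b i₀)
  obtain ⟨Q, hQ, hpol, hinv⟩ := exists_quad_of_half hf e P (pureMat N) c (by
      intro x y
      rw [hform x y, hM]
      congr 1
      simp only [dotProduct, Matrix.mulVec, Finset.mul_sum, H919.pureMat_apply]
      apply Finset.sum_congr rfl
      intro a _
      apply Finset.sum_congr rfl
      intro b _
      show x a * _ * y b = x a * (_ * y b)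
      rw [mul_assoc]) {x | ∃ v : Fin t → Fin m → F, x = ptt v} (fun a => ⟨_, single_eq_ptt a⟩) (by
      rintro _ ⟨v, rfl⟩
      rw [pureMat_mulVec_ptt, ptt_dotProduct]
      apply Finset.prod_eq_zero (Finset.mem_univ i₁)
      simp only [N, if_neg hi]
      exact hG _)
  refine ⟨Q, hQ, hpol, fun g hg hgT => hinv g hg ?_⟩
  rintro _ ⟨v, rfl⟩
  obtain ⟨w, hw⟩ := wreath_mulVec_ptt hgT v
  exact ⟨_, ⟨w, rfl⟩, hw⟩

end Cfsg.Agent.H924
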