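import Cfsg.Agent.H924.SympForm
import Cfsg.Agent.H912.TensForm4
import Cfsg.Agent.H912.TensForm3
import Cfsg.Agent.H914.Quad

/-!
# Characteristic two: quadratic forms vanishing on pure tensors (helper924)
-/

set_option autoImplicit false
set_option linter.unusedSectionVars false

open Cfsg Cfsg.Geo Matrix
open scoped Kronecker

namespace Cfsg.Agent.H924

open Cfsg.Agent.H919 (HermForm)
open Cfsg.Agent.H912 (tens pt gramPe comp_eq_sum exists_comp_eq)

variable {ι : Type} [Fintype ι] [DecidableEq ι] {F : Type*} [Field F]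
variable {f : (ι → F) → (ι → F) → F}

/-- Quadratic maps with the same polar form agreeing on a spanning set of vectors are equal. -/
lemma quad_eq_of_span {κ : Type} [Fintype κ] [DecidableEq κ] (e : ι ≃ κ) (P : GL ι F) {Q Q' : (ι → F) → F}
    (hQ : ∀ (c : F) v, Q (c • v) = c ^ 2 * Q v) (hQ' : ∀ (c : F) v, Q' (c • v) = c ^ 2 * Q' v)
    (hp : ∀ u v, QuadraticMap.polar Q u v = QuadraticMap.polar Q' u v)
    (hb : ∀ a : κ, Q ((P : Matrix ι ι F) *ᵥ (Pi.single a (1 : F) ∘ e)) =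
      Q' ((P : Matrix ι ι F) *ᵥ (Pi.single a (1 : F) ∘ e))) (v : ι → F) : Q v = Q' v := by
  have hadd : ∀ u v, Q (u + v) - Q' (u + v) = (Q u - Q' u) + (Q v - Q' v) := by
    intro u v
    have := hp u v
    simp only [QuadraticMap.polar] at this
    linear_combination this
  have hsum : ∀ (s : Finset κ) (w : κ → (ι → F)), Q (∑ a ∈ s, w a) - Q' (∑ a ∈ s, w a) =
      ∑ a ∈ s, (Q (w a) - Q' (w a)) := by
    intro s w
    induction s using Finset.induction_on with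
    | empty =>
      have h0 := hQ 0 0
      have h0' := hQ' 0 0
      simp only [zero_smul, ne_eq, OfNat.ofNat_ne_zero, not_false_eq_true, zero_pow, zero_mul] at h0 h0'
      simp [h0, h0']
    | insert a s ha ih => rw [Finset.sum_insert ha, Finset.sum_insert ha, hadd, ih]
  obtain ⟨x, rfl⟩ := exists_comp_eq e P v
  have h1 := hsum Finset.univ (fun a => x a • ((P : Matrix ι ι F) *ᵥ (Pi.single a (1 : F) ∘ e)))
  rw [← comp_eq_sum] at h1
  rw [← sub_eq_zero, h1]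
  apply Finset.sum_eq_zero
  intro a _
  rw [hQ, hQ', hb a, sub_self]

/-- The quadratic form attached to an "upper triangular half" `M` of the Gram matrix. -/
theorem exists_quad_of_half (hf : IsSymplecticForm f) {κ : Type} [Fintype κ] [DecidableEq κ] (e : ι ≃ κ) (P : GL ι F)
    (M : Matrix κ κ F) (c : F)
    (hform : ∀ x y : κ → F, f ((P : Matrix ι ι F) *ᵥ (x ∘ e)) ((P : Matrix ι ι F) *ᵥ (y ∘ e)) =
      c * (x ⬝ᵥ ((M + Mᵀ) *ᵥ y)))
    (S : Set (κ → F)) (hS1 : ∀ a, Pi.single a 1 ∈ S) (hS0 : ∀ x ∈ S, x ⬝ᵥ (M *ᵥ x) = 0) :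
    ∃ Q : (ι → F) → F, IsNondegenerateQuadraticForm Q ∧ (∀ u v, QuadraticMap.polar Q u v = f u v) ∧
      ∀ g : GL ι F, (∀ u v, f ((g : Matrix ι ι F) *ᵥ u) ((g : Matrix ι ι F) *ᵥ v) = f u v) →
        (∀ x ∈ S, ∃ y ∈ S, (g : Matrix ι ι F) *ᵥ ((P : Matrix ι ι F) *ᵥ (x ∘ e)) = (P : Matrix ι ι F) *ᵥ (y ∘ e)) →
        ∀ v, Q ((g : Matrix ι ι F) *ᵥ v) = Q v := by
  classical
  let co : (ι → F) → (κ → F) := fun v => (((P⁻¹ : GL ι F) : Matrix ι ι F) *ᵥ v) ∘ e.symm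
  have hco : ∀ v, (P : Matrix ι ι F) *ᵥ (co v ∘ e) = v := by
    intro v
    have : co v ∘ e = ((P⁻¹ : GL ι F) : Matrix ι ι F) *ᵥ v := by
      funext i; simp [co]
    rw [this, Matrix.mulVec_mulVec, ← Units.val_mul, mul_inv_cancel, Units.val_one, Matrix.one_mulVec]
  have hco2 : ∀ x : κ → F, co ((P : Matrix ι ι F) *ᵥ (x ∘ e)) = x := by
    intro x
    funext a
    simp only [co, Function.comp_apply]
    rw [Matrix.mulVec_mulVec, ← Units.val_mul, inv_mul_cancel, Units.val_one, Matrix.one_mulVec]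
    simp
  have hadd : ∀ u v, co (u + v) = co u + co v := by
    intro u v; funext a; simp [co, Matrix.mulVec_add]
  have hsm : ∀ (t : F) v, co (t • v) = t • co v := by
    intro t v; funext a; simp [co, Matrix.mulVec_smul]
  let Q : (ι → F) → F := fun v => c * (co v ⬝ᵥ (M *ᵥ co v))
  have hQs : ∀ (t : F) v, Q (t • v) = t ^ 2 * Q v := by
    intro t v
    simp only [Q, hsm, Matrix.mulVec_smul, smul_dotProduct, dotProduct_smul, smul_eq_mul]
    ring
  have hpol : ∀ u v, QuadraticMap.polar Q u v = f u v := by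
    intro u v
    conv_rhs => rw [← hco u, ← hco v]
    rw [hform]
    simp only [QuadraticMap.polar, Q, hadd]
    have h1 : (co u ⬝ᵥ ((M + Mᵀ) *ᵥ co v)) = co u ⬝ᵥ (M *ᵥ co v) + co v ⬝ᵥ (M *ᵥ co u) := by
      rw [Matrix.add_mulVec, dotProduct_add, Matrix.mulVec_transpose, dotProduct_comm (co u) (co v ᵥ* M),
        ← Matrix.dotProduct_mulVec]
    rw [h1]
    simp only [Matrix.mulVec_add, dotProduct_add, add_dotProduct]
    ring
  refine ⟨Q, isNondegenerateQuadraticForm_of_polar hf.bilinear hf.nondegenerate hQs hpol, hpol, ?_⟩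
  intro g hg hgS v
  have key := quad_eq_of_span e P (Q := fun v => Q ((g : Matrix ι ι F) *ᵥ v)) (Q' := Q) ?_ hQs ?_ ?_ v
  · exact key
  · intro t v
    show Q ((g : Matrix ι ι F) *ᵥ (t • v)) = _
    rw [Matrix.mulVec_smul, hQs]
  · intro u v
    rw [H914.polar_comp, hpol, hpol, hg]
  · intro a
    obtain ⟨y, hy, h⟩ := hgS _ (hS1 a)
    show Q ((g : Matrix ι ι F) *ᵥ _) = _
    rw [h]
    simp only [Q, hco2]
    rw [hS0 y hy, hS0 _ (hS1 a)]

/-- Strictly upper triangular part. -/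
def upper {n : ℕ} (G : Matrix (Fin n) (Fin n) F) : Matrix (Fin n) (Fin n) F := fun i j => if i < j then G i j else 0

lemma upper_add_transpose {n : ℕ} {G : Matrix (Fin n) (Fin n) F} (h0 : ∀ i, G i i = 0) (hs : ∀ i j, G i j = G j i) :
    upper G + (upper G)ᵀ = G := by
  ext i j
  simp only [upper, Matrix.add_apply, Matrix.transpose_apply]
  rcases lt_trichotomy i j with h | h | h
  · rw [if_pos h, if_neg (not_lt.mpr h.le), add_zero]
  · subst h; simp [h0]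
  · rw [if_neg (not_lt.mpr h.le), if_pos h, zero_add, hs]

lemma gram_diag {n : ℕ} {f₁ : (Fin n → F) → (Fin n → F) → F} (ha : ∀ v, f₁ v v = 0) (i : Fin n) :
    gramMatrix f₁ i i = 0 := ha _

lemma gram_symm_of_two {n : ℕ} {ε₁ : F} {f₁ : (Fin n → F) → (Fin n → F) → F}
    (h1 : HermForm (RingEquiv.refl F) ε₁ f₁) (h2 : (2 : F) = 0) (ha : ∀ v, f₁ v v = 0) (i j : Fin n) :
    gramMatrix f₁ i j = gramMatrix f₁ j i := by
  have h := ha (Pi.single i (1 : F) + Pi.single j 1)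
  rw [h1.add_left, h1.add_right, h1.add_right, ha, ha, zero_add, add_zero] at h
  show f₁ _ _ = f₁ _ _
  linear_combination h - (f₁ (Pi.single j (1 : F)) (Pi.single i 1)) * h2

/-- (C4), characteristic 2: the stabiliser of a tensor decomposition into two alternating forms fixes a
quadratic form. -/
theorem quad_of_tensor (hf : IsSymplecticForm f) (h2 : (2 : F) = 0) {n₁ n₂ : ℕ} {ε₁ ε₂ : F}
    {f₁ : (Fin n₁ → F) → (Fin n₁ → F) → F} {f₂ : (Fin n₂ → F) → (Fin n₂ → F) → F}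
    (hf₁ : HermForm (RingEquiv.refl F) ε₁ f₁) (hf₂ : HermForm (RingEquiv.refl F) ε₂ f₂)
    (ha₁ : ∀ v, f₁ v v = 0) (ha₂ : ∀ v, f₂ v v = 0)
    {e : ι ≃ Fin n₁ × Fin n₂} {P : GL ι F} (hstr : IsTensorFormStructure (RingEquiv.refl F) f f₁ f₂ e P) :
    ∃ Q : (ι → F) → F, IsNondegenerateQuadraticForm Q ∧ (∀ u v, QuadraticMap.polar Q u v = f u v) ∧
      ∀ g : GL ι F, (∀ u v, f ((g : Matrix ι ι F) *ᵥ u) ((g : Matrix ι ι F) *ᵥ v) = f u v) →
        g ∈ tensorProductSubgroup n₁ n₂ e P → ∀ v, Q ((g : Matrix ι ι F) *ᵥ v) = Q v := by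
  classical
  obtain ⟨c, hc, hform⟩ := hstr
  set G₁ := gramMatrix f₁
  set G₂ := gramMatrix f₂
  have hG₂ : ∀ w : Fin n₂ → F, w ⬝ᵥ (G₂ *ᵥ w) = 0 := by
    intro w
    have h := H912.formOfGram_gramMatrix hf₂
    have h3 := congrFun (congrFun h w) w
    rw [H912.formOfGram_eq_dotProduct, ha₂] at h3
    exact h3
  have hM : (upper G₁ ⊗ₖ G₂) + (upper G₁ ⊗ₖ G₂)ᵀ = G₁ ⊗ₖ G₂ := by
    have h1 : (upper G₁ ⊗ₖ G₂)ᵀ = (upper G₁)ᵀ ⊗ₖ G₂ := by
      ext ⟨a, b⟩ ⟨a', b'⟩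
      simp only [Matrix.transpose_apply, Matrix.kroneckerMap_apply]
      rw [show G₂ b' b = G₂ b b' from gram_symm_of_two hf₂ h2 ha₂ b' b]
    rw [h1, ← Matrix.add_kronecker, upper_add_transpose (gram_diag ha₁) (gram_symm_of_two hf₁ h2 ha₁)]
  obtain ⟨Q, hQ, hpol, hinv⟩ := exists_quad_of_half hf e P (upper G₁ ⊗ₖ G₂) c (by
      intro x y
      rw [hform x y, hM, H912.formOfGram_eq_dotProduct]
      rfl) {x | ∃ v w, x = pt v w} (by
      rintro ⟨a, b⟩
      refine ⟨Pi.single a 1, Pi.single b 1, ?_⟩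
      funext ⟨a', b'⟩
      simp only [pt, Pi.single_apply, Prod.mk.injEq]
      by_cases h1 : a' = a <;> by_cases h2 : b' = b <;> simp [h1, h2]) (by
      rintro _ ⟨v, w, rfl⟩
      rw [H912.kronecker_mulVec_pt]
      have h : pt v w ⬝ᵥ pt (upper G₁ *ᵥ v) (G₂ *ᵥ w) = (v ⬝ᵥ (upper G₁ *ᵥ v)) * (w ⬝ᵥ (G₂ *ᵥ w)) := by
        simp only [dotProduct, pt, Fintype.sum_prod_type, Finset.sum_mul_sum]
        exact Finset.sum_congr rfl (fun _ _ => Finset.sum_congr rfl (fun _ _ => by ring))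
      rw [h, hG₂, mul_zero])
  refine ⟨Q, hQ, hpol, fun g hg hgT => hinv g hg ?_⟩
  rintro _ ⟨v, w, rfl⟩
  obtain ⟨a, b, hab⟩ := H912.mem_tensorProductSubgroup_iff.mp hgT
  refine ⟨_, ⟨(a : Matrix _ _ F) *ᵥ v, (b : Matrix _ _ F) *ᵥ w, rfl⟩, ?_⟩
  rw [hab, H912.tens_mulVec, H912.kronecker_mulVec_pt]

end Cfsg.Agent.H924
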