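import Cfsg.Agent.H924.SympForm
import Cfsg.Agent.H924.POne

/-!
Aschbacher library (H924), symplectic case: quadratic forms of characteristic two attached to a totally isotropic
pair and to a quadratic field that is adjoint-closed but not self-adjoint; self-adjoint fields.
-/

set_option autoImplicit false
set_option linter.style.haveILetI false
open Cfsg Cfsg.Geo Matrix

namespace Cfsg.Agent.H924

open Cfsg.Agent.H919 (HermForm)

variable {ι : Type} [Fintype ι] [DecidableEq ι] {F : Type*} [Field F]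
variable {f : (ι → F) → (ι → F) → F}

/-- **Class C8 from a totally isotropic pair in characteristic two.** -/
theorem quad_of_pair (hf : IsSymplecticForm f) (h2 : (2 : F) = 0) {k : ℕ} {D : Fin 2 → Submodule F (ι → F)}
    (hD : IsMDecomposition k D) (hts : ∀ i, IsTotallySingularFor f (D i)) :
    ∃ Q : (ι → F) → F, IsNondegenerateQuadraticForm Q ∧ (∀ u v, QuadraticMap.polar Q u v = f u v) ∧
      ∀ g : GL ι F, (∀ u v, f ((g : Matrix ι ι F) *ᵥ u) ((g : Matrix ι ι F) *ᵥ v) = f u v) →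
        g ∈ decompositionStabilizer D → ∀ v, Q ((g : Matrix ι ι F) *ᵥ v) = Q v := by
  classical
  have hneg : ∀ x : F, -x = x := by
    intro x
    have h1 : x + x = 0 := by rw [← two_mul, h2, zero_mul]
    exact neg_eq_of_add_eq_zero_left h1
  have hsym : ∀ u v, f u v = f v u := fun u v => by rw [hf.skew u v, hneg]
  have hcompl : IsCompl (D 0) (D 1) := by
    refine ⟨?_, ?_⟩
    · exact hD.indep.pairwiseDisjoint (by decide)
    · rw [codisjoint_iff, eq_top_iff, ← hD.iSup_eq_top]
      apply iSup_le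
      intro i
      fin_cases i
      · exact le_sup_left
      · exact le_sup_right
  have hdec : ∀ v : ι → F, ∃ a ∈ D 0, ∃ b ∈ D 1, v = a + b := by
    intro v
    have hv : v ∈ D 0 ⊔ D 1 := by rw [hcompl.sup_eq_top]; trivial
    obtain ⟨a, ha, b, hb, h⟩ := Submodule.mem_sup.mp hv
    exact ⟨a, ha, b, hb, h.symm⟩
  choose π0 hπ0 π1 hπ1 hsum using hdec
  have huniq : ∀ {a b : ι → F}, a ∈ D 0 → b ∈ D 1 → π0 (a + b) = a ∧ π1 (a + b) = b := by
    intro a b ha hb
    have h := hsum (a + b)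
    have h3 : π0 (a + b) - a = b - π1 (a + b) := by
      rw [sub_eq_sub_iff_add_eq_add, ← h, add_comm b a]
    have h4 : π0 (a + b) - a ∈ D 0 := Submodule.sub_mem _ (hπ0 _) ha
    have h5 : π0 (a + b) - a ∈ D 1 := by rw [h3]; exact Submodule.sub_mem _ hb (hπ1 _)
    have h6 : π0 (a + b) - a = 0 := by
      have : π0 (a + b) - a ∈ D 0 ⊓ D 1 := ⟨h4, h5⟩
      rwa [hcompl.inf_eq_bot, Submodule.mem_bot] at this
    exact ⟨sub_eq_zero.mp h6, (sub_eq_zero.mp (h3 ▸ h6)).symm⟩
  let Q : (ι → F) → F := fun v => f (π0 v) (π1 v)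
  have hQ : ∀ {a b : ι → F}, a ∈ D 0 → b ∈ D 1 → Q (a + b) = f a b := by
    intro a b ha hb
    simp only [Q]
    rw [(huniq ha hb).1, (huniq ha hb).2]
  have hpol : ∀ u v, QuadraticMap.polar Q u v = f u v := by
    intro u v
    have h1 : u + v = (π0 u + π0 v) + (π1 u + π1 v) := by
      conv_lhs => rw [hsum u, hsum v]
      abel
    have h3 : Q (u + v) = f (π0 u + π0 v) (π1 u + π1 v) := by
      rw [h1]
      exact hQ (Submodule.add_mem _ (hπ0 u) (hπ0 v)) (Submodule.add_mem _ (hπ1 u) (hπ1 v))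
    have h4 : f u v = f (π0 u + π1 u) (π0 v + π1 v) := by rw [← hsum u, ← hsum v]
    rw [QuadraticMap.polar, h3, h4]
    simp only [Q]
    rw [hf.bilinear.add_left, hf.bilinear.add_right, hf.bilinear.add_right, hf.bilinear.add_left,
      hf.bilinear.add_right, hf.bilinear.add_right, hts 0 _ (hπ0 u) _ (hπ0 v), hts 1 _ (hπ1 u) _ (hπ1 v),
      hsym (π1 u) (π0 v)]
    ring
  refine ⟨Q, isNondegenerateQuadraticForm_of_polar hf.bilinear hf.nondegenerate ?_ hpol, hpol, ?_⟩
  · intro c v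
    have h1 : c • v = c • π0 v + c • π1 v := by rw [← smul_add, ← hsum]
    rw [h1, hQ (Submodule.smul_mem _ _ (hπ0 v)) (Submodule.smul_mem _ _ (hπ1 v)), hf.bilinear.smul_left,
      hf.bilinear.smul_right]
    simp only [Q]
    ring
  · intro g hg hgD v
    obtain ⟨s, hs⟩ := hgD
    have hmem : ∀ i, ∀ w ∈ D i, (g : Matrix ι ι F) *ᵥ w ∈ D (s i) := by
      intro i w hw
      rw [← hs i]
      exact ⟨w, hw, rfl⟩
    have h1 : (g : Matrix ι ι F) *ᵥ v = (g : Matrix ι ι F) *ᵥ (π0 v) + (g : Matrix ι ι F) *ᵥ (π1 v) := by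
      rw [← Matrix.mulVec_add, ← hsum]
    have h3 := hmem 0 _ (hπ0 v)
    have h4 := hmem 1 _ (hπ1 v)
    have hs01 : (s 0 = 0 ∧ s 1 = 1) ∨ (s 0 = 1 ∧ s 1 = 0) := by
      have hne : s 0 ≠ s 1 := fun h => by
        have := s.injective h
        exact absurd this (by decide)
      have aux : ∀ a : Fin 2, a = 0 ∨ a = 1 := by decide
      rcases aux (s 0) with h | h <;> rcases aux (s 1) with h' | h'
      · exact absurd (h.trans h'.symm) hne
      · exact Or.inl ⟨h, h'⟩
      · exact Or.inr ⟨h, h'⟩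
      · exact absurd (h.trans h'.symm) hne
    rcases hs01 with ⟨ha, hb⟩ | ⟨ha, hb⟩
    · rw [ha] at h3
      rw [hb] at h4
      rw [h1, hQ h3 h4, hg]
    · rw [ha] at h3
      rw [hb] at h4
      rw [h1, add_comm, hQ h4 h3, hg, hsym]

/-- Self-adjoint elements of an adjoint-closed field of degree two that is not self-adjoint are scalars. -/
lemma scalar_of_selfAdjoint {ε : F} (hf : HermForm (RingEquiv.refl F) ε f) {K : Subalgebra F (Matrix ι ι F)}
    (hK : IsFieldSubalgebra 2 K) (hadj : IsAdjointClosedFor f K) (hns : ¬ IsSelfAdjointFor f K)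
    {x : Matrix ι ι F} (hx : x ∈ K) (hxs : adjM (RingEquiv.refl F) f x = x) : ∃ c : F, x = c • 1 := by
  classical
  by_contra hcon
  push Not at hcon
  apply hns
  have hone : (1 : Matrix ι ι F) ∈ K := Subalgebra.one_mem K
  -- K is spanned by 1 and x
  have hli : LinearIndependent F ![(⟨1, hone⟩ : K), ⟨x, hx⟩] := by
    rw [LinearIndependent.pair_iff]
    intro s t hst
    have h1 : s • (1 : Matrix ι ι F) + t • x = 0 := by
      have := congrArg Subtype.val hst
      simpa using this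
    have ht : t = 0 := by
      by_contra ht
      apply hcon (-(t⁻¹ * s))
      have h3 : t • x = -(s • (1 : Matrix ι ι F)) := by
        rw [add_comm] at h1
        exact eq_neg_of_add_eq_zero_left h1
      calc x = t⁻¹ • (t • x) := by rw [smul_smul, inv_mul_cancel₀ ht, one_smul]
        _ = -(t⁻¹ * s) • (1 : Matrix ι ι F) := by rw [h3, smul_neg, smul_smul, neg_smul]
    subst ht
    refine ⟨?_, rfl⟩
    by_contra hs
    rw [zero_smul, add_zero] at h1
    have h3 : (1 : Matrix ι ι F) = 0 := by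
      calc (1 : Matrix ι ι F) = s⁻¹ • (s • (1 : Matrix ι ι F)) := by rw [smul_smul, inv_mul_cancel₀ hs, one_smul]
        _ = 0 := by rw [h1, smul_zero]
    apply hcon 0
    rw [zero_smul]
    calc x = x * 1 := (mul_one x).symm
      _ = 0 := by rw [h3, mul_zero]
  have hspan := hli.span_eq_top_of_card_eq_finrank' (by rw [hK.finrank_eq]; simp)
  intro k hk u v
  have hkm : (⟨k, hk⟩ : K) ∈ Submodule.span F (Set.range ![(⟨1, hone⟩ : K), ⟨x, hx⟩]) := by
    rw [hspan]; trivial
  rw [Matrix.range_cons, Matrix.range_cons, Matrix.range_empty, Set.union_empty, Set.singleton_union,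
    Submodule.mem_span_pair] at hkm
  obtain ⟨a, b, hab⟩ := hkm
  have hk' : k = a • (1 : Matrix ι ι F) + b • x := by
    have := congrArg Subtype.val hab
    simpa using this.symm
  have h5 : adjM (RingEquiv.refl F) f k = k := by
    rw [hk', adjM_add hf, adjM_smul hf, adjM_smul hf, adjM_one hf, hxs]
    rfl
  have h6 := isAdj_adjM hf k u v
  rw [h5] at h6
  exact h6

/-- **Class C8 from a quadratic extension field of unitary type in characteristic two.** -/
theorem quad_of_field (hf : IsSymplecticForm f) (h2 : (2 : F) = 0) {K : Subalgebra F (Matrix ι ι F)}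
    (hK : IsFieldSubalgebra 2 K) (hadj : IsAdjointClosedFor f K) (hns : ¬ IsSelfAdjointFor f K) :
    ∃ Q : (ι → F) → F, IsNondegenerateQuadraticForm Q ∧ (∀ u v, QuadraticMap.polar Q u v = f u v) ∧
      ∀ g : GL ι F, (∀ u v, f ((g : Matrix ι ι F) *ᵥ u) ((g : Matrix ι ι F) *ᵥ v) = f u v) →
        g ∈ subalgebraNormalizer K → ∀ v, Q ((g : Matrix ι ι F) *ᵥ v) = Q v := by
  have hfh := hermForm_of_symplectic hf
  have hneg : ∀ x : F, -x = x := by
    intro x
    have h1 : x + x = 0 := by rw [← two_mul, h2, zero_mul]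
    exact neg_eq_of_add_eq_zero_left h1
  have hns' := hns
  unfold IsSelfAdjointFor at hns'
  push Not at hns'
  obtain ⟨ω, hω, u0, v0, huv⟩ := hns'
  set ω' := adjM (RingEquiv.refl F) f ω with hω'
  have hω'K : ω' ∈ K := adjM_mem hfh hadj hω
  have hne : ω' ≠ ω := by
    intro h
    apply huv
    have := isAdj_adjM hfh ω u0 v0
    rw [← hω', h] at this
    exact this
  obtain ⟨t, ht⟩ := scalar_of_selfAdjoint hfh hK hadj hns (x := ω + ω') (Subalgebra.add_mem _ hω hω'K) (by
    rw [adjM_add hfh, ← hω', hω', adjM_adjM hfh, add_comm])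
  have ht0 : t ≠ 0 := by
    intro h0
    rw [h0, zero_smul] at ht
    apply hne
    have h3 : ω' = -ω := (neg_eq_of_add_eq_zero_right ht).symm
    rw [h3]
    ext i j
    exact hneg _
  let Q : (ι → F) → F := fun v => t⁻¹ * f (ω *ᵥ v) v
  have hpol : ∀ u v, QuadraticMap.polar Q u v = f u v := by
    intro u v
    have h3 : f (ω *ᵥ v) u = f (ω' *ᵥ u) v := by
      rw [isAdj_adjM hfh ω v u, ← hω', hf.skew, hneg]
    have h4 : f (ω *ᵥ u) v + f (ω' *ᵥ u) v = t * f u v := by
      rw [← hf.bilinear.add_left, ← Matrix.add_mulVec, ht, Matrix.smul_mulVec, Matrix.one_mulVec,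
        hf.bilinear.smul_left]
    have h5 : QuadraticMap.polar Q u v = t⁻¹ * (f (ω *ᵥ u) v + f (ω *ᵥ v) u) := by
      simp only [QuadraticMap.polar, Q]
      rw [Matrix.mulVec_add, hf.bilinear.add_left, hf.bilinear.add_right, hf.bilinear.add_right]
      ring
    rw [h5, h3, h4, ← mul_assoc, inv_mul_cancel₀ ht0, one_mul]
  refine ⟨Q, isNondegenerateQuadraticForm_of_polar hf.bilinear hf.nondegenerate ?_ hpol, hpol, ?_⟩
  · intro c v
    simp only [Q]
    rw [Matrix.mulVec_smul, hf.bilinear.smul_left, hf.bilinear.smul_right]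
    ring
  · intro g hg hgK v
    have hgK' : ∀ k : Matrix ι ι F, k ∈ K ↔ conjM g k ∈ K := hgK
    -- ω₁ = g⁻¹ ω g
    obtain ⟨ω₁, hω₁⟩ : ∃ ω₁, conjM g ω₁ = ω := (conjM g).surjective ω
    have hω₁K : ω₁ ∈ K := by rw [hgK', hω₁]; exact hω
    have h3 : ω₁ + adjM (RingEquiv.refl F) f ω₁ = t • 1 := by
      apply (conjM g).injective
      rw [map_add, ← adjM_conjM hfh hg, hω₁, ← hω', ht, map_smul, map_one]
    obtain ⟨c, hc⟩ := scalar_of_selfAdjoint hfh hK hadj hns (x := ω₁ - ω) (Subalgebra.sub_mem _ hω₁K hω) (by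
      have h4 : adjM (RingEquiv.refl F) f ω₁ = t • 1 - ω₁ := by rw [← h3]; abel
      have h5 : ω' = t • 1 - ω := by rw [← ht]; abel
      have h6 : ω₁ - ω = ω₁ + (-1 : F) • ω := by rw [neg_smul, one_smul, sub_eq_add_neg]
      rw [h6, adjM_add hfh, adjM_smul hfh, h4, ← hω', h5]
      have h7 : (RingEquiv.refl F) (-1 : F) = -1 := rfl
      rw [h7]
      ext i j
      simp only [Matrix.add_apply, Matrix.sub_apply, Matrix.smul_apply, smul_eq_mul]
      have e1 : t * (1 : Matrix ι ι F) i j - ω₁ i j + -1 * (t * (1 : Matrix ι ι F) i j - ω i j) =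
        -(ω₁ i j + -1 * ω i j) := by ring
      rw [e1, hneg])
    have h8 : ω *ᵥ ((g : Matrix ι ι F) *ᵥ v) = (g : Matrix ι ι F) *ᵥ (ω₁ *ᵥ v) := by
      rw [← conjM_mulVec, hω₁]
    have h9 : ω₁ *ᵥ v = ω *ᵥ v + c • v := by
      have : ω₁ = ω + c • 1 := by rw [← hc]; abel
      rw [this, Matrix.add_mulVec, Matrix.smul_mulVec, Matrix.one_mulVec]
    simp only [Q]
    rw [h8, hg, h9, hf.bilinear.add_left, hf.bilinear.smul_left, hf.alternating, mul_zero, add_zero]

end Cfsg.Agent.H924
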