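import Cfsg.Agent.H924.FormFine
import Cfsg.Agent.H924.SympForm
import Cfsg.Agent.H924.SympRed
import Cfsg.Agent.H924.SympField
import Cfsg.Agent.H924.TensorTwo
import Cfsg.Agent.H924.QuadTensor
import Cfsg.Agent.H920.SympD
import Cfsg.Agent.H914.Quad

/-!
# Irreducible groups of isometries of a symplectic form (helper924)
-/

set_option autoImplicit false
set_option linter.unusedSectionVars false

open Cfsg Cfsg.Geo Matrix
open scoped Kronecker

namespace Cfsg.Agent.H924

open Cfsg.Agent.H919 (HermForm WreathData)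

variable {ι : Type} [Fintype ι] [DecidableEq ι] {F : Type*} [Field F]
variable {f : (ι → F) → (ι → F) → F}

lemma odd_card_iff [Fintype F] : Odd (Fintype.card F) ↔ (2 : F) ≠ 0 := by
  constructor
  · intro h h2
    have h3 : ringChar F = 2 := by
      have : ringChar F ∣ 2 := ringChar.dvd (by exact_mod_cast h2)
      have h4 := (Nat.prime_two.eq_one_or_self_of_dvd _ this)
      rcases h4 with h4 | h4
      · exact absurd h4 (CharP.ringChar_ne_one)
      · exact h4
    have h5 := FiniteField.even_card_iff_char_two.mp h3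
    rw [Nat.odd_iff] at h
    omega
  · intro h2
    have h3 : ringChar F ≠ 2 := by
      intro h
      apply h2
      have := ringChar.Nat.cast_ringChar (R := F)
      rw [h] at this
      exact_mod_cast this
    exact Nat.odd_iff.mpr (FiniteField.odd_card_of_char_ne_two h3)

lemma symmetric_of_hermForm (hf : HermForm (RingEquiv.refl F) 1 f) : IsSymmetricForm f where
  bilinear := ⟨hf.add_left, hf.smul_left, hf.add_right, fun c v x => by
    have := hf.smul_right v c x
    simpa using this⟩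
  symm := fun u v => by
    have := hf.herm u v
    simpa using this
  nondegenerate := hf.nondegenerate

lemma alternating_of_skew (h2 : (2 : F) ≠ 0) (hf : HermForm (RingEquiv.refl F) (-1) f) (v : ι → F) : f v v = 0 := by
  have := hf.herm v v
  simp only [RingEquiv.refl_apply] at this
  have h : (2 : F) * f v v = 0 := by linear_combination this
  exact (mul_eq_zero.mp h).resolve_left h2

/-- An element of `scalars ι F` preserving a nondegenerate bilinear form is `1` or `-1`. -/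
lemma sq_of_scalar_isometry [Nonempty ι] (hf : IsSymplecticForm f) {g : GL ι F} (hg : g ∈ scalars ι F)
    (hiso : ∀ u v, f ((g : Matrix ι ι F) *ᵥ u) ((g : Matrix ι ι F) *ᵥ v) = f u v) :
    (g : Matrix ι ι F) = 1 ∨ (g : Matrix ι ι F) = -1 := by
  classical
  obtain ⟨c, hc⟩ : ∃ c : F, (g : Matrix ι ι F) = c • (1 : Matrix ι ι F) := by
    obtain ⟨c, hc⟩ := (mem_scalars_iff g).mp hg
    exact ⟨c, hc⟩
  obtain ⟨i⟩ := ‹Nonempty ι›
  have hv : (Pi.single i (1 : F) : ι → F) ≠ 0 := by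
    intro h
    have := congrFun h i
    simp at this
  have hfv : ∃ x, f x (Pi.single i 1) ≠ 0 := (hf.nondegenerate _ hv).1
  obtain ⟨x, hx⟩ := hfv
  have h1 := hiso x (Pi.single i 1)
  rw [hc, Matrix.smul_mulVec, Matrix.one_mulVec, Matrix.smul_mulVec, Matrix.one_mulVec, hf.bilinear.smul_left,
    hf.bilinear.smul_right] at h1
  have h2 : (c - 1) * (c + 1) = 0 := by
    have : (c * c - 1) * f x (Pi.single i 1) = 0 := by linear_combination h1
    have := (mul_eq_zero.mp this).resolve_right hx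
    linear_combination this
  rcases mul_eq_zero.mp h2 with h | h
  · left; rw [hc, sub_eq_zero.mp h, one_smul]
  · right; rw [hc, eq_neg_of_add_eq_zero_left h, neg_smul, one_smul]

/-- A symplectic-type group of isometries of a symplectic form. -/
lemma symplecticType_data [Fintype F] [Nonempty ι] (hf : IsSymplecticForm f) {r k : ℕ} {R : Subgroup (GL ι F)}
    (hR : ∀ g ∈ R, ∀ u v, f ((g : Matrix ι ι F) *ᵥ u) ((g : Matrix ι ι F) *ᵥ v) = f u v)
    (habs : ActsAbsolutelyIrreducibly (matrixSet R)) (htype : IsSymplecticTypeGroup r R)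
    (hchar : ringChar F ≠ r) (hcen : Subgroup.center R = (scalars ι F).subgroupOf R)
    (hord : (Odd r ∧ Nat.card (Subgroup.center R) = r ∧ Nat.card R = r ^ (1 + 2 * k)) ∨
       (r = 2 ∧ Nat.card (Subgroup.center R) = 4 ∧ Nat.card R = 2 ^ (2 + 2 * k)) ∨
       (r = 2 ∧ Nat.card (Subgroup.center R) = 2 ∧ Nat.card R = 2 ^ (1 + 2 * k)))
    (hsub : ∀ F₀ : Subfield F, F₀ ≠ ⊤ → ¬ RealisableOver F₀ (matrixSet R))
    (hcomm : ∀ x ∈ R, ∀ y ∈ R, x * y * x⁻¹ * y⁻¹ ∈ scalars ι F) :
    r = 2 ∧ Nat.card (Subgroup.center R) = 2 ∧ Nat.card R = 2 ^ (1 + 2 * k) ∧ Odd (Fintype.card F) ∧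
      (Fintype.card F).Prime := by
  classical
  have hle : Nat.card (Subgroup.center R) ≤ 2 := by
    let φ : Subgroup.center R → Bool := fun x => decide (x = 1)
    have hφ : Function.Injective φ := by
      intro x y hxy
      simp only [φ, decide_eq_decide] at hxy
      by_cases hx : x = 1
      · rw [hx, hxy.mp hx]
      · have hy : y ≠ 1 := fun h => hx (hxy.mpr h)
        have hneg : ∀ z : Subgroup.center R, z ≠ 1 → (((z : R) : GL ι F) : Matrix ι ι F) = -1 := by
          intro z hz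
          have hzs : ((z : R) : GL ι F) ∈ scalars ι F := by
            have h0 : (z : R) ∈ Subgroup.center R := z.2
            have h1 : (z : R) ∈ (scalars ι F).subgroupOf R := hcen ▸ h0
            exact h1
          rcases sq_of_scalar_isometry hf hzs (hR _ (z : R).2) with h | h
          · exfalso
            apply hz
            apply Subtype.ext
            apply Subtype.ext
            exact Units.ext h
          · exact h
        apply Subtype.ext
        apply Subtype.ext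
        apply Units.ext
        rw [hneg x hx, hneg y hy]
    have := Nat.card_le_card_of_injective φ hφ
    simpa using this
  have hr2 : 2 ≤ r := htype.prime.two_le
  rcases hord with ⟨h1, h2, h3⟩ | ⟨h1, h2, h3⟩ | ⟨h1, h2, h3⟩
  · exfalso
    rw [h2] at hle
    have : r = 2 := le_antisymm hle hr2
    rw [this] at h1
    exact absurd h1 (by decide)
  · omega
  · subst h1
    have hne : (2 : F) ≠ 0 := by
      intro h0
      apply hchar
      have : ringChar F ∣ 2 := ringChar.dvd (by exact_mod_cast h0)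
      exact ((Nat.prime_two.eq_one_or_self_of_dvd _ this).resolve_left CharP.ringChar_ne_one)
    refine ⟨rfl, h2, h3, odd_card_iff.mpr hne, ?_⟩
    haveI : CharP F (ringChar F) := ringChar.charP F
    have hp : (ringChar F).Prime := CharP.char_is_prime F (ringChar F)
    obtain ⟨e, he⟩ := FiniteField.card F (ringChar F)
    rcases H920.realisable_or_minimal hp he.2 habs hcomm with ⟨F₀, h4, h5⟩ | hmin
    · exact absurd h5 (hsub F₀ h4)
    · rw [h2] at hmin
      obtain ⟨_, _, _, _, hmin⟩ := hmin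
      have he1 : (e : ℕ) = 1 := by
        by_contra hne1
        have hpos : 0 < (e : ℕ) := e.pos
        refine hmin 1 one_pos (by omega) ?_
        rw [pow_one]
        have hodd : Odd (ringChar F) := hp.odd_of_ne_two hchar
        obtain ⟨j, hj⟩ := hodd
        exact ⟨j, by omega⟩
      rw [he.2, he1, pow_one]
      exact hp

/-- **Aschbacher's theorem for irreducible groups of isometries of a symplectic form** (fine version). -/
theorem symplectic_fine [Fintype F] (hcard : 2 ≤ Fintype.card ι) (hf : IsSymplecticForm f) {H : Subgroup (GL ι F)}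
    (hirr : ActsIrreducibly (matrixSet H))
    (hH : ∀ g ∈ H, ∀ u v, f ((g : Matrix ι ι F) *ᵥ u) ((g : Matrix ι ι F) *ᵥ v) = f u v) :
    -- (C2a)
    (∃ (t m : ℕ) (D : Fin t → Submodule F (ι → F)), IsNondegenerateMDecomposition f m D ∧
      H ≤ decompositionStabilizer D ∧
      (∀ i j, ∃ h ∈ H, (D i).map (Matrix.toLin' (h : Matrix ι ι F)) = D j)) ∨
    -- (C2b)
    (Odd (Fintype.card F) ∧ ∃ (m : ℕ) (D : Fin 2 → Submodule F (ι → F)), IsMDecomposition m D ∧
      (∀ i, IsTotallySingularFor f (D i)) ∧ H ≤ decompositionStabilizer D) ∨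
    -- (C3), symplectic
    (∃ (r : ℕ) (K : Subalgebra F (Matrix ι ι F)), r.Prime ∧ IsFieldSubalgebra r K ∧
      IsSelfAdjointFor f K ∧ (∀ k ∈ K, ∀ v, f (k *ᵥ v) v = 0) ∧ H ≤ subalgebraNormalizer K) ∨
    -- (C3), unitary
    (Odd (Fintype.card F) ∧ ∃ K : Subalgebra F (Matrix ι ι F), IsFieldSubalgebra 2 K ∧
      IsAdjointClosedFor f K ∧ ¬ IsSelfAdjointFor f K ∧ H ≤ subalgebraNormalizer K) ∨
    -- (C4)
    (Odd (Fintype.card F) ∧ ∃ (n₁ n₂ : ℕ) (e : ι ≃ Fin n₁ × Fin n₂) (P : GL ι F)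
      (f₁ : (Fin n₁ → F) → (Fin n₁ → F) → F) (f₂ : (Fin n₂ → F) → (Fin n₂ → F) → F), 2 ≤ n₁ ∧ 3 ≤ n₂ ∧
      n₁ * n₂ = Fintype.card ι ∧ IsSymplecticForm f₁ ∧ IsSymmetricForm f₂ ∧ IsTensorFormStructure id f f₁ f₂ e P ∧
      H ≤ tensorProductSubgroup n₁ n₂ e P) ∨
    -- (C5)
    (∃ (F₁ : Subfield F) (r : ℕ) (B : GL ι F) (ζ : F), F₁ ≠ ⊤ ∧ r.Prime ∧ Fintype.card F = Nat.card F₁ ^ r ∧
      ζ ≠ 0 ∧ IsFormRationalStructure f F₁ ζ B ∧ H ≤ subfieldSubgroup F₁ B) ∨
    -- (C6)
    (Odd (Fintype.card F) ∧ (Fintype.card F).Prime ∧ ∃ (k : ℕ) (R : Subgroup (GL ι F)), R ≤ H ∧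
      H ≤ subgroupNormalizer R ∧ ActsAbsolutelyIrreducibly (matrixSet R) ∧ IsSymplecticTypeGroup 2 R ∧
      1 ≤ k ∧ Fintype.card ι = 2 ^ k ∧ Subgroup.center R = (scalars ι F).subgroupOf R ∧
      Nat.card (Subgroup.center R) = 2 ∧ Nat.card R = 2 ^ (1 + 2 * k) ∧
      (∀ x ∈ R, ∀ y ∈ R, x * y * x⁻¹ * y⁻¹ ∈ scalars ι F)) ∨
    -- (C7)
    (∃ (m t : ℕ) (e : ι ≃ (Fin t → Fin m)) (P : GL ι F) (E : Fin t → Subgroup (GL ι F)),
      WreathData H m t e P E) ∨
    -- (C8)
    (¬ Odd (Fintype.card F) ∧ ∃ Q : (ι → F) → F, IsNondegenerateQuadraticForm Q ∧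
      (∀ u v, QuadraticMap.polar Q u v = f u v) ∧ (∀ g ∈ H, ∀ v, Q ((g : Matrix ι ι F) *ᵥ v) = Q v)) ∨
    -- (S)
    InSymplecticResidualClass H := by
  classical
  haveI : Nonempty ι := Fintype.card_pos_iff.mp (by omega)
  have hherm := hermForm_of_symplectic hf
  -- (C2b)
  have hC2b : (∃ (m : ℕ) (D : Fin 2 → Submodule F (ι → F)), IsMDecomposition m D ∧
      (∀ i, IsTotallySingularFor f (D i)) ∧ H ≤ decompositionStabilizer D) →
    (Odd (Fintype.card F) ∧ ∃ (m : ℕ) (D : Fin 2 → Submodule F (ι → F)), IsMDecomposition m D ∧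
      (∀ i, IsTotallySingularFor f (D i)) ∧ H ≤ decompositionStabilizer D) ∨
    (¬ Odd (Fintype.card F) ∧ ∃ Q : (ι → F) → F, IsNondegenerateQuadraticForm Q ∧
      (∀ u v, QuadraticMap.polar Q u v = f u v) ∧ (∀ g ∈ H, ∀ v, Q ((g : Matrix ι ι F) *ᵥ v) = Q v)) := by
    rintro ⟨m, D, hD, hts, hle⟩
    by_cases hodd : Odd (Fintype.card F)
    · exact Or.inl ⟨hodd, m, D, hD, hts, hle⟩
    · right
      have h2 : (2 : F) = 0 := not_not.mp (fun h => hodd (odd_card_iff.mpr h))
      obtain ⟨Q, hQ, hpol, hinv⟩ := quad_of_pair hf h2 hD hts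
      exact ⟨hodd, Q, hQ, hpol, fun g hg => hinv g (hH g hg) (hle hg)⟩
  -- (C3)
  have hC3 : (∃ (r : ℕ) (K : Subalgebra F (Matrix ι ι F)), r.Prime ∧ IsFieldSubalgebra r K ∧
      IsAdjointClosedFor f K ∧ H ≤ subalgebraNormalizer K) →
    (∃ (r : ℕ) (K : Subalgebra F (Matrix ι ι F)), r.Prime ∧ IsFieldSubalgebra r K ∧
      IsSelfAdjointFor f K ∧ (∀ k ∈ K, ∀ v, f (k *ᵥ v) v = 0) ∧ H ≤ subalgebraNormalizer K) ∨
    (Odd (Fintype.card F) ∧ ∃ K : Subalgebra F (Matrix ι ι F), IsFieldSubalgebra 2 K ∧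
      IsAdjointClosedFor f K ∧ ¬ IsSelfAdjointFor f K ∧ H ≤ subalgebraNormalizer K) ∨
    (¬ Odd (Fintype.card F) ∧ ∃ Q : (ι → F) → F, IsNondegenerateQuadraticForm Q ∧
      (∀ u v, QuadraticMap.polar Q u v = f u v) ∧ (∀ g ∈ H, ∀ v, Q ((g : Matrix ι ι F) *ᵥ v) = Q v)) := by
    rintro ⟨r, K, hr, hK, hadj, hle⟩
    by_cases hself : IsSelfAdjointFor f K
    · exact Or.inl ⟨r, K, hr, hK, hself, form_self_zero hf hK hself, hle⟩
    · have hr2 : r = 2 := (selfAdjoint_or_two hherm hr hK hadj).resolve_left hself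
      subst hr2
      right
      by_cases hodd : Odd (Fintype.card F)
      · exact Or.inl ⟨hodd, K, hK, hadj, hself, hle⟩
      · right
        have h2 : (2 : F) = 0 := not_not.mp (fun h => hodd (odd_card_iff.mpr h))
        obtain ⟨Q, hQ, hpol, hinv⟩ := quad_of_field hf h2 hK hadj hself
        exact ⟨hodd, Q, hQ, hpol, fun g hg => hinv g (hH g hg) (hle hg)⟩
  rcases irreducible_fine2 hcard hherm hirr hH with h | h | h | h | h | h | h | h
  · exact Or.inl h
  · rcases hC2b h with h | h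
    · exact Or.inr (Or.inl h)
    · exact Or.inr (Or.inr (Or.inr (Or.inr (Or.inr (Or.inr (Or.inr (Or.inr (Or.inl h))))))))
  · rcases hC3 h with h | h | h
    · exact Or.inr (Or.inr (Or.inl h))
    · exact Or.inr (Or.inr (Or.inr (Or.inl h)))
    · exact Or.inr (Or.inr (Or.inr (Or.inr (Or.inr (Or.inr (Or.inr (Or.inr (Or.inl h))))))))
  · -- (C4)
    obtain ⟨n₁, n₂, e, P, ε₁, ε₂, f₁, f₂, hn₁, hn₂, hprod, hf₁, hf₂, hε, hstr, hle⟩ := h
    by_cases hodd : Odd (Fintype.card F)
    · have h2 := odd_card_iff.mp hodd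
      have hε₁ : ε₁ = 1 ∨ ε₁ = -1 := by
        have h := hf₁.eps
        simp only [RingEquiv.refl_apply] at h
        exact mul_self_eq_one_iff.mp h
      obtain ⟨n₁, n₂, e, P, f₁, f₂, hn₁, hn₂, hprod, hf₁, hf₂, hstr, hle⟩ : ∃ (n₁ n₂ : ℕ) (e : ι ≃ Fin n₁ × Fin n₂)
          (P : GL ι F) (f₁ : (Fin n₁ → F) → (Fin n₁ → F) → F) (f₂ : (Fin n₂ → F) → (Fin n₂ → F) → F), 2 ≤ n₁ ∧
          2 ≤ n₂ ∧ n₁ * n₂ = Fintype.card ι ∧ HermForm (RingEquiv.refl F) (-1) f₁ ∧
          HermForm (RingEquiv.refl F) 1 f₂ ∧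
          IsTensorFormStructure id f f₁ f₂ e P ∧ H ≤ tensorProductSubgroup n₁ n₂ e P := by
        rcases hε₁ with rfl | rfl
        · rw [one_mul] at hε
          subst hε
          exact ⟨n₂, n₁, _, P, f₂, f₁, hn₂, hn₁, by rw [mul_comm]; exact hprod, hf₂, hf₁,
            H912.isTensorFormStructure_swap hstr, by rw [H912.tensorProductSubgroup_swap]; exact hle⟩
        · have : ε₂ = 1 := by linear_combination -hε
          subst this
          exact ⟨n₁, n₂, e, P, f₁, f₂, hn₁, hn₂, hprod, hf₁, hf₂, hstr, hle⟩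
      by_cases h3 : 3 ≤ n₂
      · exact Or.inr (Or.inr (Or.inr (Or.inr (Or.inl ⟨hodd, n₁, n₂, e, P, f₁, f₂, hn₁, h3, hprod,
          symplectic_of_hermForm hf₁ (alternating_of_skew h2 hf₁), symmetric_of_hermForm hf₂, hstr, hle⟩))))
      · obtain rfl : n₂ = 2 := by omega
        rcases cases_of_tensor_two h2 hherm hirr hH (by omega) hf₁ hf₂ hstr hle with h | h | h
        · exact Or.inl h
        · rcases hC2b h with h | h
          · exact Or.inr (Or.inl h)
          · exact Or.inr (Or.inr (Or.inr (Or.inr (Or.inr (Or.inr (Or.inr (Or.inr (Or.inl h))))))))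
        · rcases hC3 h with h | h | h
          · exact Or.inr (Or.inr (Or.inl h))
          · exact Or.inr (Or.inr (Or.inr (Or.inl h)))
          · exact Or.inr (Or.inr (Or.inr (Or.inr (Or.inr (Or.inr (Or.inr (Or.inr (Or.inl h))))))))
    · have h2 : (2 : F) = 0 := not_not.mp (fun h => hodd (odd_card_iff.mpr h))
      have ha₂ := H912.second_alternating h2 (by omega) hn₂ hf₁ hf₂ hstr hirr hle hH
      have ha₁ := H912.second_alternating h2 (by omega) hn₁ hf₂ hf₁ (H912.isTensorFormStructure_swap hstr) hirr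
        (by rw [H912.tensorProductSubgroup_swap]; exact hle) hH
      obtain ⟨Q, hQ, hpol, hinv⟩ := quad_of_tensor hf h2 hf₁ hf₂ ha₁ ha₂ hstr
      exact Or.inr (Or.inr (Or.inr (Or.inr (Or.inr (Or.inr (Or.inr (Or.inr (Or.inl
        ⟨hodd, Q, hQ, hpol, fun g hg => hinv g (hH g hg) (hle hg)⟩))))))))
  · -- (C5)
    obtain ⟨F₁, r, B, ζ, h1, hr, hc, hζ, hrat, hle⟩ := h
    exact Or.inr (Or.inr (Or.inr (Or.inr (Or.inr (Or.inl ⟨F₁, r, B, ζ, h1, hr, by
      rw [← Nat.card_eq_fintype_card]; exact hc, hζ, hrat, hle⟩)))))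
  · -- (C6)
    obtain ⟨r, k, R, hRH, hRn, hHR, habs, htype, hchar, hk, hcardR, hcen, hord, hsub, hcomm⟩ := h
    obtain ⟨rfl, h1, h2, h3, h4⟩ := symplecticType_data hf (fun g hg => hH g (hRH hg)) habs htype hchar hcen hord
      hsub hcomm
    exact Or.inr (Or.inr (Or.inr (Or.inr (Or.inr (Or.inr (Or.inl ⟨h3, h4, k, R, hRH, hHR, habs, htype, hk, hcardR,
      hcen, h1, h2, hcomm⟩))))))
  · exact Or.inr (Or.inr (Or.inr (Or.inr (Or.inr (Or.inr (Or.inr (Or.inl h)))))))
  · -- (S)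
    obtain ⟨P, hP⟩ := h
    have hfP : FixesForm (matrixSet P) f := by
      rintro _ ⟨g, hg, rfl⟩
      exact hH g (hP.le hg)
    have hnu := H914.not_fixes_unitary_of_bilinear hP.absIrred hP.no_subfield (H914.IsSesq.of_herm hherm)
      hf.nondegenerate hfP
    by_cases hodd : Odd (Fintype.card F)
    · have h2 := odd_card_iff.mp hodd
      exact Or.inr (Or.inr (Or.inr (Or.inr (Or.inr (Or.inr (Or.inr (Or.inr (Or.inr ⟨P, hP,
        H914.not_fixes_quad_of_alternating h2 hP.absIrred (H914.IsSesq.of_herm hherm) hf.nondegenerate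
          hf.alternating hfP, hnu⟩))))))))
    · by_cases hQ : ∃ Q : (ι → F) → F, IsNondegenerateQuadraticForm Q ∧ FixesQuadForm (matrixSet P) Q
      · obtain ⟨Q, hQ, hQP⟩ := hQ
        obtain ⟨c, Q', _, _, h3, h4, h5, _⟩ := H914.exists_quad_polar_eq hP.le hP.normal hP.absIrred
          (H914.IsSesq.of_herm hherm) hf.nondegenerate hH hQ hQP
        exact Or.inr (Or.inr (Or.inr (Or.inr (Or.inr (Or.inr (Or.inr (Or.inr (Or.inl ⟨hodd, Q', h3, h4, h5⟩))))))))
      · exact Or.inr (Or.inr (Or.inr (Or.inr (Or.inr (Or.inr (Or.inr (Or.inr (Or.inr ⟨P, hP, hQ, hnu⟩))))))))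

end Cfsg.Agent.H924
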