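import Cfsg.Agent.H879.Basic

/-!
Overgroups of the unitary group `GU(V, κ)` in the symplectic group `Sp(V, f)`: `κ` is an endomorphism with
`κ² = d` (`d` not a square) and `f (κ x) y = - f x (κ y)`, odd characteristic.

Copy of `H879/UnitSymp.lean` (helper879) with the weaker hypothesis `10 ≤ dim V` (helper924).
-/

set_option autoImplicit false
set_option linter.unusedSectionVars false
set_option linter.unusedSimpArgs false

namespace Cfsg.Agent.H924.USymp

open Module Cfsg.Agent.H879

variable {F V : Type*} [Field F] [AddCommGroup V] [Module F V]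

/-- The unitary transvection. -/
def ut (f : V →ₗ[F] V →ₗ[F] F) (κ : V →ₗ[F] V) (d : F) (v : V) (c : F) (x : V) : V :=
  x + (c * f x (κ v)) • κ v - (c * d * f x v) • v

/-- The symplectic transvection. -/
def tr (f : V →ₗ[F] V →ₗ[F] F) (y : V) (e : F) (x : V) : V := x + (e * f x y) • y

/-- The element `[x(1), y(1)]` of `Sp(⟨a, u⟩)`. -/
def rho (f : V →ₗ[F] V →ₗ[F] F) (a u : V) (x : V) : V :=
  x + f x u • ((2 : F) • a + u) + f x a • (a + u)

/-- The inverse of `rho`. -/
def rhoi (f : V →ₗ[F] V →ₗ[F] F) (a u : V) (x : V) : V :=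
  x - f x u • (a + u) - f x a • (a + (2 : F) • u)

/-- `M` is a group of isometries of `f` with all the unitary transvections. -/
structure Hyp (f : V →ₗ[F] V →ₗ[F] F) (κ : V →ₗ[F] V) (d : F) (M : Subgroup (V ≃ₗ[F] V)) :
    Prop where
  alt : ∀ x, f x x = 0
  ndeg : ∀ x, x ≠ 0 → ∃ y, f x y ≠ 0
  two : (2 : F) ≠ 0
  sq : ∀ x, κ (κ x) = d • x
  nsq : ∀ c : F, c * c ≠ d
  norm : ∀ e : F, ∃ α β : F, α * α - d * (β * β) = e
  sumsq : ∀ e : F, ∃ α β : F, α * α + β * β = e
  adj : ∀ x y, f (κ x) y = - f x (κ y)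
  dim : 10 ≤ finrank F V
  pres : ∀ g ∈ M, ∀ x y, f (g x) (g y) = f x y
  tv : ∀ v c, f (κ v) v = 0 → Has M (ut f κ d v c)

variable {f : V →ₗ[F] V →ₗ[F] F} {κ : V →ₗ[F] V} {d : F} {M : Subgroup (V ≃ₗ[F] V)}

namespace Hyp

variable (h : Hyp f κ d M)
include h

theorem skew (x y : V) : f x y = - f y x := by
  have := h.alt (x + y)
  simp only [map_add, LinearMap.add_apply, h.alt, zero_add, add_zero] at this
  exact eq_neg_of_add_eq_zero_right this

theorem kk (x y : V) : f (κ x) (κ y) = - (d * f x y) := by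
  rw [h.adj, h.sq, map_smul, smul_eq_mul]

theorem symm (x y : V) : f (κ x) y = f (κ y) x := by
  rw [h.adj, h.skew x, neg_neg]

theorem d_ne : d ≠ 0 := by
  rintro rfl
  exact h.nsq 0 (mul_zero 0)

theorem finite : FiniteDimensional F V :=
  Module.finite_of_finrank_pos (by have := h.dim; omega)

theorem pres_inv {g : V ≃ₗ[F] V} (hg : g ∈ M) (x y : V) : f (g⁻¹ x) y = f x (g y) := by
  have h1 := h.pres g hg (g⁻¹ x) y
  rw [apply_inv_apply] at h1
  exact h1.symm

theorem q_add (x y : V) : f (κ (x + y)) (x + y) = f (κ x) x + f (κ y) y + 2 * f (κ x) y := by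
  simp only [map_add, LinearMap.add_apply]
  rw [h.symm y x]
  ring

theorem q_smul (c : F) (x : V) : f (κ (c • x)) (c • x) = c * c * f (κ x) x := by
  simp only [map_smul, LinearMap.smul_apply, smul_eq_mul]
  ring

theorem q_comb (α β : F) (x : V) :
    f (κ (α • x + β • κ x)) (α • x + β • κ x) = (α * α - d * (β * β)) * f (κ x) x := by
  simp only [map_add, map_smul, LinearMap.add_apply, LinearMap.smul_apply, smul_eq_mul, h.sq,
    h.alt, h.skew x (κ x)]
  ring

theorem quad_ne {p p' : F} (hp : p ≠ 0 ∨ p' ≠ 0) : p * p * d - p' * p' ≠ 0 := by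
  intro h0
  by_cases hp0 : p = 0
  · subst hp0
    rcases hp with hp | hp
    · exact hp rfl
    · have : p' * p' = 0 := by linear_combination -h0
      exact hp (mul_self_eq_zero.1 this)
  · apply h.nsq (p' / p)
    field_simp
    linear_combination -h0

/-- Isotropic vectors with prescribed products with two vectors and their images. -/
theorem exists_iso (x₁ x₂ z₀ : V) : ∃ z, f (κ z) z = 0 ∧ f x₁ z = f x₁ z₀ ∧
    f (κ x₁) z = f (κ x₁) z₀ ∧ f x₂ z = f x₂ z₀ ∧ f (κ x₂) z = f (κ x₂) z₀ ∧ True := by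
  have := h.finite
  let L : V →ₗ[F] (Fin 4 → F) :=
    LinearMap.pi ![f x₁, f (κ x₁), f x₂, f (κ x₂)]
  have hL : ∀ e, L e = 0 ↔ (f x₁ e = 0 ∧ f (κ x₁) e = 0 ∧ f x₂ e = 0 ∧ f (κ x₂) e = 0) := by
    intro e
    constructor
    · intro h0
      exact ⟨congrFun h0 0, congrFun h0 1, congrFun h0 2, congrFun h0 3⟩
    · rintro ⟨h0, h1, h2, h3⟩
      funext i
      fin_cases i
      · exact h0
      · exact h1
      · exact h2
      · exact h3
  set E := LinearMap.ker L with hE
  have hdimE : finrank F V ≤ finrank F E + 4 := by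
    have h1 := LinearMap.finrank_range_add_finrank_ker L
    rw [← hE] at h1
    have h2 : finrank F (LinearMap.range L) ≤ 4 := by
      have := Submodule.finrank_le (LinearMap.range L)
      simpa using this
    omega
  -- an anisotropic vector in E
  obtain ⟨e, he, hqe⟩ : ∃ e ∈ E, f (κ e) e ≠ 0 := by
    by_contra hcon
    push Not at hcon
    have hpol : ∀ e ∈ E, ∀ e' ∈ E, f (κ e) e' = 0 := by
      intro e he e' he'
      have h1 := hcon (e + e') (E.add_mem he he')
      rw [h.q_add, hcon e he, hcon e' he', zero_add, zero_add] at h1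
      exact (mul_eq_zero.1 h1).resolve_left h.two
    let Φ : E →ₗ[F] E.dualAnnihilator :=
      { toFun := fun e => ⟨f (κ e), by
          rw [Submodule.mem_dualAnnihilator]
          exact fun w hw => hpol e e.2 w hw⟩
        map_add' := fun a b => by
          apply Subtype.ext
          simp only [Submodule.coe_add, map_add]
        map_smul' := fun c a => by
          apply Subtype.ext
          simp only [Submodule.coe_smul, map_smul, RingHom.id_apply] }
    have hinj : Function.Injective Φ := by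
      rw [injective_iff_map_eq_zero]
      intro e he0
      by_contra hne
      have hne' : (e : V) ≠ 0 := fun h1 => hne (Subtype.ext h1)
      have hκ : κ e ≠ 0 := by
        intro h1
        have h2 := h.sq (e : V)
        rw [h1, map_zero] at h2
        exact hne' ((smul_eq_zero.1 h2.symm).resolve_left h.d_ne)
      obtain ⟨y, hy⟩ := h.ndeg _ hκ
      apply hy
      have h1 := congrArg Subtype.val he0
      exact LinearMap.congr_fun h1 y
    have h1 := LinearMap.finrank_le_finrank_of_injective hinj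
    have h2 := Subspace.finrank_add_finrank_dualAnnihilator_eq E
    have h3 := h.dim
    omega
  obtain ⟨α, β, hαβ⟩ := h.norm ((f (κ z₀) e / f (κ e) e) * (f (κ z₀) e / f (κ e) e) -
    d * ((f z₀ e / f (κ e) e) * (f z₀ e / f (κ e) e)) - f (κ z₀) z₀ / f (κ e) e)
  obtain ⟨h0, h1, h2, h3⟩ := (hL e).1 he
  have k0 : f x₁ (κ e) = 0 := by
    have := h.adj x₁ e
    rw [h1] at this
    exact neg_eq_zero.1 this.symm
  have k2 : f x₂ (κ e) = 0 := by
    have := h.adj x₂ e
    rw [h3] at this
    exact neg_eq_zero.1 this.symm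
  have k1 : f (κ x₁) (κ e) = 0 := by rw [h.kk, h0, mul_zero, neg_zero]
  have k3 : f (κ x₂) (κ e) = 0 := by rw [h.kk, h2, mul_zero, neg_zero]
  have k5 : f (κ z₀) (κ e) = - (d * f z₀ e) := by rw [h.kk]
  refine ⟨z₀ + ((α - f (κ z₀) e / f (κ e) e) • e + (β - f z₀ e / f (κ e) e) • κ e), ?_, ?_, ?_, ?_, ?_, trivial⟩
  · rw [h.q_add, h.q_comb, map_add, map_smul, map_smul, k5, smul_eq_mul, smul_eq_mul]
    have e1 : ∀ A B C D : F, D ≠ 0 → α * α - d * (β * β) = (A / D) * (A / D) - d * ((B / D) * (B / D)) - C / D →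
        C + ((α - A / D) * (α - A / D) - d * ((β - B / D) * (β - B / D))) * D +
          2 * ((α - A / D) * A + (β - B / D) * -(d * B)) = 0 := by
      intro A B C D hD hEq
      have hA : A = (A / D) * D := (div_mul_cancel₀ A hD).symm
      have hB : B = (B / D) * D := (div_mul_cancel₀ B hD).symm
      have hC : C = (C / D) * D := (div_mul_cancel₀ C hD).symm
      generalize A / D = A' at *
      generalize B / D = B' at *
      generalize C / D = C' at *
      subst hA hB hC
      linear_combination D * hEq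
    exact e1 _ _ _ _ hqe hαβ
  · rw [map_add, map_add, map_smul, map_smul, h0, k0]; simp
  · rw [map_add, map_add, map_smul, map_smul, h1, k1]; simp
  · rw [map_add, map_add, map_smul, map_smul, h2, k2]; simp
  · rw [map_add, map_add, map_smul, map_smul, h3, k3]; simp

/-- Dual vectors. -/
theorem exists_dual {x y : V} (hy : ∀ α β : F, y ≠ α • x + β • κ x) :
    ∃ z, f x z = 0 ∧ f (κ x) z = 0 ∧ f y z = 1 ∧ f (κ y) z = 0 := by
  have := h.finite
  obtain ⟨z₁, hz1, hz2, hz3⟩ : ∃ z₁, f x z₁ = 0 ∧ f (κ x) z₁ = 0 ∧ f y z₁ ≠ 0 := by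
    by_contra hcon
    push Not at hcon
    have h1 : f y ∈ Submodule.span F (Set.range ![f x, f (κ x)]) := by
      apply mem_span_of_iInf_ker_le_ker
      intro z hz
      rw [Submodule.mem_iInf] at hz
      exact hcon z (hz 0) (hz 1)
    rw [Submodule.mem_span_range_iff_exists_fun] at h1
    obtain ⟨c, hc⟩ := h1
    rw [Fin.sum_univ_two] at hc
    apply hy (c 0) (c 1)
    have hne : ¬ (y - (c 0 • x + c 1 • κ x)) ≠ 0 := by
      intro h2
      obtain ⟨w, hw⟩ := h.ndeg _ h2
      apply hw
      have h3 := LinearMap.congr_fun hc w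
      simp only [Matrix.cons_val_zero, Matrix.cons_val_one, LinearMap.add_apply,
        LinearMap.smul_apply] at h3
      rw [map_sub, map_add, map_smul, map_smul, LinearMap.sub_apply, LinearMap.add_apply,
        LinearMap.smul_apply, LinearMap.smul_apply, h3, sub_self]
    push Not at hne
    exact sub_eq_zero.1 hne
  have k0 : f x (κ z₁) = 0 := by
    have := h.adj x z₁
    rw [hz2] at this
    exact neg_eq_zero.1 this.symm
  have k1 : f (κ x) (κ z₁) = 0 := by rw [h.kk, hz1, mul_zero, neg_zero]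
  have k2 : f y (κ z₁) = - f (κ y) z₁ := by rw [h.adj, neg_neg]
  have k3 : f (κ y) (κ z₁) = - (d * f y z₁) := h.kk _ _
  set p := f y z₁ with hp
  set p' := f (κ y) z₁ with hp'
  have hD : p * p * d - p' * p' ≠ 0 := h.quad_ne (Or.inl hz3)
  refine ⟨(p * d / (p * p * d - p' * p')) • z₁ + (p' / (p * p * d - p' * p')) • κ z₁, ?_, ?_, ?_,
    ?_⟩
  · rw [map_add, map_smul, map_smul, hz1, k0]; simp
  · rw [map_add, map_smul, map_smul, hz2, k1]; simp
  · rw [map_add, map_smul, map_smul, ← hp, k2, smul_eq_mul, smul_eq_mul, div_mul_eq_mul_div,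
      div_mul_eq_mul_div, ← add_div, div_eq_one_iff_eq hD]
    ring
  · rw [map_add, map_smul, map_smul, ← hp', k3, smul_eq_mul, smul_eq_mul]
    field_simp
    ring

theorem exists_dual_one {y : V} (hy : y ≠ 0) : ∃ z, f y z = 1 ∧ f (κ y) z = 0 := by
  obtain ⟨z, -, -, h1, h2⟩ := h.exists_dual (x := 0) (y := y) (by
    intro α β
    rw [smul_zero, map_zero, smul_zero, add_zero]
    exact hy)
  exact ⟨z, h1, h2⟩

/-- Connectedness. -/
theorem conn {A : V → Prop} (hA : ∀ x z, A x → x ≠ 0 → f (κ x) x = 0 → f (κ z) z = 0 →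
    f (κ x) z = 0 → f x z ≠ 0 → A z) {x₀ : V} (h0 : A x₀) (hx0 : x₀ ≠ 0)
    (hq0 : f (κ x₀) x₀ = 0) {y : V} (hy : y ≠ 0) (hqy : f (κ y) y = 0) : A y := by
  have key : ∀ x y : V, A x → x ≠ 0 → f (κ x) x = 0 → y ≠ 0 → f (κ y) y = 0 →
      (∀ α β : F, y ≠ α • x + β • κ x) → (∀ α β : F, x ≠ α • y + β • κ y) → A y := by
    intro x y hAx hx hqx hy hqy h1 h2
    obtain ⟨z₁, a1, a2, a3, a4⟩ := h.exists_dual h1
    obtain ⟨z₂, b1, b2, b3, b4⟩ := h.exists_dual h2
    obtain ⟨z, c0, c1, c2, c3, c4, -⟩ := h.exists_iso x y (z₁ + z₂)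
    rw [map_add, a1, b3, zero_add] at c1
    rw [map_add, a2, b4, zero_add] at c2
    rw [map_add, a3, b1, add_zero] at c3
    rw [map_add, a4, b2, add_zero] at c4
    have hz : A z := hA x z hAx hx hqx c0 c2 (by rw [c1]; exact one_ne_zero)
    have hz0 : z ≠ 0 := by
      rintro rfl
      rw [map_zero] at c1
      exact zero_ne_one c1
    exact hA z y hz hz0 c0 hqy (by rw [h.symm, c4]) (by
      rw [h.skew, c3]; exact neg_ne_zero.2 one_ne_zero)
  by_cases hK : ∃ α β : F, y = α • x₀ + β • κ x₀
  · obtain ⟨α, β, hαβ⟩ := hK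
    obtain ⟨z₀, e1, e2⟩ := h.exists_dual_one hx0
    obtain ⟨z, c0, c1, c2, -, -, -⟩ := h.exists_iso x₀ x₀ z₀
    rw [e1] at c1
    rw [e2] at c2
    have hxκ : f x₀ (κ x₀) = 0 := by rw [h.skew, hq0, neg_zero]
    have hxz : f x₀ (κ z) = 0 := by
      have := h.adj x₀ z
      rw [c2] at this
      exact neg_eq_zero.1 this.symm
    have hz0 : z ≠ 0 := by
      rintro rfl
      rw [map_zero] at c1
      exact zero_ne_one c1
    have hy1 : f x₀ y = 0 := by
      rw [hαβ, map_add, map_smul, map_smul, h.alt, hxκ]; simp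
    have hy2 : f (κ x₀) y = 0 := by
      rw [hαβ, map_add, map_smul, map_smul, h.alt, hq0]; simp
    have hAz : A z := hA x₀ z h0 hx0 hq0 c0 c2 (by rw [c1]; exact one_ne_zero)
    apply key z y hAz hz0 c0 hy hqy
    · intro α' β' h3
      have h4 : α' = 0 := by
        have := hy1
        rw [h3, map_add, map_smul, map_smul, c1, hxz] at this
        simpa using this
      have h5 : β' = 0 := by
        have := hy2
        rw [h3, h4, zero_smul, zero_add, map_smul, h.kk, c1, smul_eq_mul, mul_one] at this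
        exact (mul_eq_zero.1 this).resolve_right (neg_ne_zero.2 h.d_ne)
      rw [h4, h5] at h3
      simp at h3
      exact hy h3
    · intro α' β' h3
      have h4 : f x₀ z = 0 := by
        have hκy : f x₀ (κ y) = 0 := by
          have := h.adj x₀ y
          rw [hy2] at this
          exact neg_eq_zero.1 this.symm
        rw [h3, map_add, map_smul, map_smul, hy1, hκy]; simp
      rw [c1] at h4
      exact one_ne_zero h4
  · push Not at hK
    apply key x₀ y h0 hx0 hq0 hy hqy hK
    intro α β h1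
    -- invert the relation
    have hαβ : α ≠ 0 ∨ β ≠ 0 := by
      by_contra hc
      push Not at hc
      rw [hc.1, hc.2] at h1
      simp at h1
      exact hx0 h1
    have hD : β * β * d - α * α ≠ 0 := h.quad_ne hαβ.symm
    apply hK (-α / (β * β * d - α * α)) (β / (β * β * d - α * α))
    rw [h1]
    simp only [map_add, map_smul, h.sq]
    have e1 : (-α / (β * β * d - α * α)) * α + (β / (β * β * d - α * α)) * (β * d) = 1 := by
      rw [div_mul_eq_mul_div, div_mul_eq_mul_div, ← add_div, div_eq_one_iff_eq hD]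
      ring
    have e2 : (-α / (β * β * d - α * α)) * β + (β / (β * β * d - α * α)) * α = 0 := by
      field_simp
      ring
    calc y = (1 : F) • y + (0 : F) • κ y := by simp
      _ = _ := by rw [← e1, ← e2]; module

end Hyp

end Cfsg.Agent.H924.USymp
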