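import Cfsg.Agent.H924.SympFine
import Cfsg.Agent.H924.QuadPower
import Cfsg.Agent.H919.AschWreathForm2
import Cfsg.Agent.LieClassical.Order72
import Cfsg.Agent.S0242

/-!
# The tensor-induced case for symplectic isometry groups (helper924)
-/

set_option autoImplicit false
set_option linter.unusedSectionVars false

open Cfsg Cfsg.Geo Matrix
open scoped Kronecker commutatorElement

namespace Cfsg.Agent.H924

open Cfsg.Agent.H919 (HermForm WreathData sesq Inv facSet pureMat slotMat frameMat slotFrame)

section Perfect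

variable {F : Type*} [Field F]

/-- `GL₂(3)` and `GL₂(2)` have no nontrivial perfect subgroup. -/
lemma perfect_gl_two [Fintype F] (h3 : Fintype.card F ≤ 3) (P : Subgroup (GL (Fin 2) F))
    (hP : ⁅P, P⁆ = P) : P = ⊥ := by
  classical
  -- `SL₂(F)` is solvable
  haveI hfin : Finite (Matrix.SpecialLinearGroup (Fin 2) F) := Subtype.finite
  have hsolv : Group.IsSolvable (Matrix.SpecialLinearGroup (Fin 2) F) := by
    apply LieClassical.Order72.isSolvable_of_card_dvd
    have h1 := S0242.result (F := F) rfl 2 (by norm_num)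
    have h2 := Fintype.one_lt_card (α := F)
    rw [Fin.prod_univ_two] at h1
    have h4 : Fintype.card F = 2 ∨ Fintype.card F = 3 := by omega
    rcases h4 with h4 | h4 <;> rw [h4] at h1
    · have h5 : Nat.card (Matrix.SpecialLinearGroup (Fin 2) F) = 6 := by
        rw [Nat.card_eq_fintype_card]; norm_num at h1; exact h1
      rw [h5]; norm_num
    · have h5 : Nat.card (Matrix.SpecialLinearGroup (Fin 2) F) = 24 := by
        rw [Nat.card_eq_fintype_card]; norm_num at h1; omega
      rw [h5]; norm_num
  have hle : P ≤ (Matrix.SpecialLinearGroup.toGL : Matrix.SpecialLinearGroup (Fin 2) F →* GL (Fin 2) F).range := by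
    have hdet : P ≤ (Matrix.GeneralLinearGroup.det : GL (Fin 2) F →* Fˣ).ker := by
      rw [← hP, Subgroup.commutator_le]
      intro a _ b _
      rw [MonoidHom.mem_ker, commutatorElement_def, map_mul, map_mul, map_mul, map_inv, map_inv]
      rw [mul_comm (Matrix.GeneralLinearGroup.det a), mul_assoc (Matrix.GeneralLinearGroup.det b), mul_inv_cancel,
        mul_one, mul_inv_cancel]
    intro g hg
    have hg1 := hdet hg
    rw [MonoidHom.mem_ker] at hg1
    have hd : (g : Matrix (Fin 2) (Fin 2) F).det = 1 := by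
      have := congrArg Units.val hg1
      simpa using this
    exact ⟨⟨(g : Matrix (Fin 2) (Fin 2) F), hd⟩, Units.ext rfl⟩
  haveI := hsolv
  haveI hs2 : Group.IsSolvable
      (Matrix.SpecialLinearGroup.toGL : Matrix.SpecialLinearGroup (Fin 2) F →* GL (Fin 2) F).range :=
    Group.isSolvable_of_surjective (MonoidHom.rangeRestrict_surjective
      (Matrix.SpecialLinearGroup.toGL : Matrix.SpecialLinearGroup (Fin 2) F →* GL (Fin 2) F))
  haveI hsP : Group.IsSolvable P :=
    Group.isSolvable_of_isSolvable_injective (f := Subgroup.inclusion hle) (Subgroup.inclusion_injective hle)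
  by_contra hne
  haveI : Nontrivial P := (Subgroup.nontrivial_iff_ne_bot P).mpr hne
  have hlt := Group.IsSolvable.commutator_lt_top_of_nontrivial (G := P)
  apply hlt.ne
  apply Subgroup.map_injective (Subgroup.subtype_injective P)
  rw [Subgroup.map_subtype_commutator, hP, ← MonoidHom.range_eq_map, Subgroup.range_subtype]

end Perfect

variable {ι : Type} [Fintype ι] [DecidableEq ι] {F : Type*} [Field F]
variable {f : (ι → F) → (ι → F) → F} {H : Subgroup (GL ι F)} {t m : ℕ} {e : ι ≃ (Fin t → Fin m)} {P : GL ι F}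
  {E : Fin t → Subgroup (GL ι F)}

/-- In wreath data the dimension-two case needs a field with at least four elements. -/
lemma not_small_of_wreath [Fintype F] (W : WreathData H m t e P E) (h3 : Fintype.card F ≤ 3) (hm : m = 2) : False := by
  classical
  subst hm
  have ht := W.two_le_t
  let i : Fin t := ⟨0, by omega⟩
  let θ : GL (Fin 2) F →* GL ι F := Units.map ((slotFrame e P i : Matrix (Fin 2) (Fin 2) F →ₐ[F] Matrix ι ι F) :
    Matrix (Fin 2) (Fin 2) F →* Matrix ι ι F)
  have hinj0 : Function.Injective (slotFrame e P i) := H919.slotFrame_injective (by norm_num) i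
  have hθinj : Function.Injective θ := by
    intro a b hab
    apply Units.ext
    apply hinj0
    exact congrArg Units.val hab
  have hmem : ∀ g ∈ E i, ∃ x : Matrix (Fin 2) (Fin 2) F, (g : Matrix ι ι F) = slotFrame e P i x := by
    intro g hg
    exact (W.env_iff i g).mp (Algebra.subset_adjoin ⟨g, hg, rfl⟩)
  have hrange : E i ≤ θ.range := by
    intro g hg
    obtain ⟨x, hx⟩ := hmem g hg
    obtain ⟨y, hy⟩ := hmem g⁻¹ ((E i).inv_mem hg)
    have hxy : x * y = 1 := by
      apply hinj0
      rw [map_mul, map_one, ← hx, ← hy, ← Units.val_mul, mul_inv_cancel, Units.val_one]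
    have hyx : y * x = 1 := by
      apply hinj0
      rw [map_mul, map_one, ← hx, ← hy, ← Units.val_mul, inv_mul_cancel, Units.val_one]
    exact ⟨⟨x, y, hxy, hyx⟩, Units.ext hx.symm⟩
  have hmap : ((E i).comap θ).map θ = E i := by
    rw [Subgroup.map_comap_eq]
    exact inf_eq_right.mpr hrange
  have hperf : ⁅(E i).comap θ, (E i).comap θ⁆ = (E i).comap θ := by
    apply Subgroup.map_injective hθinj
    rw [Subgroup.map_commutator, hmap, W.perfect i]
  have hbot := perfect_gl_two h3 _ hperf
  apply W.not_scalar i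
  rw [← hmap, hbot, Subgroup.map_bot]
  exact bot_le

/-- The form of a tensor factor is alternating in characteristic two. -/
lemma factor_alternating [Finite F] (h2 : (2 : F) = 0) (hm : 2 ≤ m) {ε₁ : F} {G : Matrix (Fin m) (Fin m) F}
    (hG : HermForm (RingEquiv.refl F) ε₁ (sesq (RingEquiv.refl F) G)) {S : Set (Matrix (Fin m) (Fin m) F)}
    (hS : Algebra.adjoin F S = ⊤) (hinv : Inv (RingEquiv.refl F) S G) (v : Fin m → F) :
    sesq (RingEquiv.refl F) G v v = 0 := by
  have hε : ε₁ = 1 := by
    have h := hG.eps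
    simp only [RingEquiv.refl_apply] at h
    rcases mul_self_eq_one_iff.mp h with h | h
    · exact h
    · rw [h]; linear_combination -h2
  subst hε
  have hsymm : ∀ v w, sesq (RingEquiv.refl F) G v w = sesq (RingEquiv.refl F) G w v := by
    intro v w
    have := hG.herm v w
    simpa using this
  have hadd : ∀ v w, sesq (RingEquiv.refl F) G (v + w) (v + w) =
      sesq (RingEquiv.refl F) G v v + sesq (RingEquiv.refl F) G w w := by
    intro v w
    rw [hG.add_left, hG.add_right, hG.add_right, hsymm w v]
    linear_combination (sesq (RingEquiv.refl F) G v w) * h2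
  have hsmul : ∀ (c : F) v, sesq (RingEquiv.refl F) G (c • v) (c • v) = c ^ 2 * sesq (RingEquiv.refl F) G v v := by
    intro c v
    rw [hG.smul_left, hG.smul_right]
    simp only [RingEquiv.refl_apply]
    ring
  refine H912.quad_additive_eq_zero hm (φ := fun v => sesq (RingEquiv.refl F) G v v) hadd hsmul ?_ v
  intro S' hS'
  apply H912.eq_bot_or_top_of_all
  intro b w hw
  -- the stabiliser of `S'` is a subalgebra containing `S`
  have hstab : ∀ b ∈ Algebra.adjoin F S, ∀ w ∈ S', b *ᵥ w ∈ S' := by
    intro b hb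
    induction hb using Algebra.adjoin_induction with
    | mem s hs =>
      intro w hw
      rw [hS'] at hw ⊢
      rw [H919.sesq_mulVec]
      have h1 := hinv s hs
      rw [h1]
      exact hw
    | algebraMap c =>
      intro w hw
      rw [Algebra.algebraMap_eq_smul_one, Matrix.smul_mulVec, Matrix.one_mulVec]
      exact S'.smul_mem c hw
    | add x y _ _ hx hy =>
      intro w hw
      rw [Matrix.add_mulVec]
      exact S'.add_mem (hx w hw) (hy w hw)
    | mul x y _ _ hx hy =>
      intro w hw
      rw [← Matrix.mulVec_mulVec]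
      exact hx _ (hy w hw)
  exact hstab b (by rw [hS]; trivial) w hw

/-- **(C7) for symplectic isometry groups.** -/
theorem wreath_symplectic [Fintype F] (hf : IsSymplecticForm f)
    (hH : ∀ g ∈ H, ∀ u v, f ((g : Matrix ι ι F) *ᵥ u) ((g : Matrix ι ι F) *ᵥ v) = f u v)
    (W : WreathData H m t e P E) :
    (Odd (Fintype.card F) ∧ Odd t ∧ 3 ≤ t ∧ 2 ≤ m ∧ ¬ (Fintype.card F = 3 ∧ m = 2) ∧
      ∃ (P' : GL ι F) (f₁ : (Fin m → F) → (Fin m → F) → F), IsSymplecticForm f₁ ∧
        IsTensorPowerFormStructure id f f₁ e P' ∧ H ≤ tensorWreathSubgroup m t e P') ∨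
    (¬ Odd (Fintype.card F) ∧ ∃ Q : (ι → F) → F, IsNondegenerateQuadraticForm Q ∧
      (∀ u v, QuadraticMap.polar Q u v = f u v) ∧ (∀ g ∈ H, ∀ v, Q ((g : Matrix ι ι F) *ᵥ v) = Q v)) := by
  classical
  obtain ⟨P', ε₁, c, G, W', hG, hc, hform, hε, hinv⟩ := H919.C_wreath_form (hermForm_of_symplectic hf) hH W
  have hgram : gramMatrix (sesq (RingEquiv.refl F) G) = G := by
    ext a b
    exact H919.sesq_single _ G a b
  have hstr : IsTensorPowerFormStructure (RingEquiv.refl F) f (sesq (RingEquiv.refl F) G) e P' := by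
    refine ⟨c, hc, fun x y => ?_⟩
    rw [hform, hgram, H919.sesq_eq_sum]
    rfl
  have ht := W.two_le_t
  have hm := W.two_le_m
  by_cases hodd : Odd (Fintype.card F)
  · left
    have h2 := odd_card_iff.mp hodd
    have hne : (1 : F) ≠ -1 := by
      intro h
      apply h2
      linear_combination h
    have hε₁ : ε₁ ^ t = -1 := by
      simp only [RingEquiv.refl_apply] at hε
      exact mul_right_cancel₀ hc hε
    have hcase : ε₁ = 1 ∨ ε₁ = -1 := by
      have h := hG.eps
      simp only [RingEquiv.refl_apply] at h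
      exact mul_self_eq_one_iff.mp h
    rcases hcase with rfl | rfl
    · rw [one_pow] at hε₁
      exact absurd hε₁ hne
    · have hto : Odd t := by
        rcases Nat.even_or_odd t with h | h
        · rw [h.neg_one_pow] at hε₁
          exact absurd hε₁ hne
        · exact h
      refine ⟨hodd, hto, ?_, hm, ?_, P', _, symplectic_of_hermForm hG (alternating_of_skew h2 hG), hstr, W'.wreath⟩
      · obtain ⟨j, hj⟩ := hto
        omega
      · rintro ⟨h3, hm2⟩
        exact not_small_of_wreath W' h3.le hm2
  · right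
    have h2 : (2 : F) = 0 := not_not.mp (fun h => hodd (odd_card_iff.mpr h))
    have halt := factor_alternating h2 hm hG (W'.adjoin_facSet ⟨0, by omega⟩) (hinv _)
    obtain ⟨Q, hQ, hpol, hinvQ⟩ := quad_of_power hf h2 ht hG halt hstr
    exact ⟨hodd, Q, hQ, hpol, fun g hg => hinvQ g (hH g hg) (W'.wreath hg)⟩

end Cfsg.Agent.H924
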